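import Mathlib

set_option autoImplicit false
set_option linter.style.haveILetI false
set_option linter.unusedSectionVars false
universe u

namespace H12ALT

open MvPolynomial

section defs
variable (k : Type u) [Field k] (n : ℕ)

/-- exponent vector of a tuple of pairs -/
noncomputable def mOf (p : Fin n → ℕ × ℕ) : (Fin n × Fin 2) →₀ ℕ :=
  Finsupp.equivFunOnFinite.symm (fun v => if v.2 = 0 then (p v.1).1 else (p v.1).2)

lemma mOf_apply0 (p : Fin n → ℕ × ℕ) (i : Fin n) : mOf n p (i, 0) = (p i).1 := by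
  simp [mOf]

lemma mOf_apply1 (p : Fin n → ℕ × ℕ) (i : Fin n) : mOf n p (i, 1) = (p i).2 := by
  simp [mOf]

lemma mOf_injective : Function.Injective (mOf n) := by
  intro p p' h
  funext i
  apply Prod.ext
  · have := DFunLike.congr_fun h (i, 0)
    rwa [mOf_apply0, mOf_apply0] at this
  · have := DFunLike.congr_fun h (i, 1)
    rwa [mOf_apply1, mOf_apply1] at this

/-- tuple of an exponent vector -/
def pOf (m : (Fin n × Fin 2) →₀ ℕ) : Fin n → ℕ × ℕ := fun i => (m (i, 0), m (i, 1))

lemma mOf_pOf (m : (Fin n × Fin 2) →₀ ℕ) : mOf n (pOf n m) = m := by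
  ext ⟨i, e⟩
  fin_cases e
  · exact mOf_apply0 n _ i
  · exact mOf_apply1 n _ i

/-- the action of a permutation -/
noncomputable def act (σ : Equiv.Perm (Fin n)) :
    MvPolynomial (Fin n × Fin 2) k →ₐ[k] MvPolynomial (Fin n × Fin 2) k :=
  rename (fun v => (σ v.1, v.2))

/-- the alternant -/
noncomputable def Δ (p : Fin n → ℕ × ℕ) : MvPolynomial (Fin n × Fin 2) k :=
  (Matrix.of fun i j : Fin n =>
    (X (i, 0) : MvPolynomial (Fin n × Fin 2) k) ^ (p j).1 * X (i, 1) ^ (p j).2).det

lemma monomial_mOf (p : Fin n → ℕ × ℕ) :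
    monomial (mOf n p) (1 : k) =
      ∏ i, (X (i, 0) : MvPolynomial (Fin n × Fin 2) k) ^ (p i).1 * X (i, 1) ^ (p i).2 := by
  rw [monomial_eq, C_1, one_mul, Finsupp.prod_fintype _ _ (fun v => pow_zero _),
    Fintype.prod_prod_type]
  apply Finset.prod_congr rfl
  intro i _
  rw [Fin.prod_univ_two, mOf_apply0, mOf_apply1]

lemma Δ_eq (p : Fin n → ℕ × ℕ) :
    Δ k n p = ∑ σ : Equiv.Perm (Fin n),
      Equiv.Perm.sign σ • act k n σ (monomial (mOf n p) 1) := by
  rw [Δ, Matrix.det_apply]
  apply Finset.sum_congr rfl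
  intro σ _
  congr 1
  rw [monomial_mOf, map_prod]
  apply Finset.prod_congr rfl
  intro i _
  simp [act, rename_X]

lemma act_Δ (τ : Equiv.Perm (Fin n)) (p : Fin n → ℕ × ℕ) :
    act k n τ (Δ k n p) = ((Equiv.Perm.sign τ : ℤˣ) : ℤ) • Δ k n p := by
  rw [Δ, AlgHom.map_det]
  have h : (act k n τ).mapMatrix (Matrix.of fun i j : Fin n =>
      (X (i, 0) : MvPolynomial (Fin n × Fin 2) k) ^ (p j).1 * X (i, 1) ^ (p j).2) =
      (Matrix.of fun i j : Fin n =>
        (X (i, 0) : MvPolynomial (Fin n × Fin 2) k) ^ (p j).1 * X (i, 1) ^ (p j).2).submatrix τ id := by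
    ext i j
    simp [act, rename_X]
  rw [h, Matrix.det_permute, zsmul_eq_mul]

end defs

section part1
variable (k : Type u) [Field k] [CharZero k] (n : ℕ)

/-- alternating polynomials -/
def altSub : Submodule k (MvPolynomial (Fin n × Fin 2) k) where
  carrier := {f | ∀ σ : Equiv.Perm (Fin n),
    act k n σ f = ((Equiv.Perm.sign σ : ℤˣ) : ℤ) • f}
  add_mem' := by
    intro f g hf hg σ
    rw [map_add, hf σ, hg σ, smul_add]
  zero_mem' := by
    intro σ
    rw [map_zero, smul_zero]
  smul_mem' := by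
    intro c f hf σ
    rw [map_smul, hf σ, smul_comm]

/-- the antisymmetrizer -/
noncomputable def anti : MvPolynomial (Fin n × Fin 2) k →ₗ[k] MvPolynomial (Fin n × Fin 2) k :=
  ∑ σ : Equiv.Perm (Fin n), ((Equiv.Perm.sign σ : ℤˣ) : ℤ) • (act k n σ).toLinearMap

lemma anti_apply (f : MvPolynomial (Fin n × Fin 2) k) :
    anti k n f = ∑ σ : Equiv.Perm (Fin n), ((Equiv.Perm.sign σ : ℤˣ) : ℤ) • act k n σ f := by
  simp [anti, LinearMap.sum_apply]

lemma anti_monomial_one (m : (Fin n × Fin 2) →₀ ℕ) :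
    anti k n (monomial m 1) = Δ k n (pOf n m) := by
  rw [anti_apply, Δ_eq, mOf_pOf]
  apply Finset.sum_congr rfl
  intro σ _
  rw [Units.smul_def]

lemma anti_mem (g : MvPolynomial (Fin n × Fin 2) k) :
    anti k n g ∈ Submodule.span k (Set.range (Δ k n)) := by
  induction g using MvPolynomial.induction_on' with
  | monomial m c =>
    have h : monomial m c = c • (monomial m (1 : k) : MvPolynomial (Fin n × Fin 2) k) := by
      rw [smul_monomial, smul_eq_mul, mul_one]
    rw [h, map_smul, anti_monomial_one]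
    exact Submodule.smul_mem _ _ (Submodule.subset_span ⟨_, rfl⟩)
  | add p q hp hq =>
    rw [map_add]
    exact Submodule.add_mem _ hp hq

lemma anti_of_alt (f : MvPolynomial (Fin n × Fin 2) k) (hf : f ∈ altSub k n) :
    anti k n f = ((n.factorial : ℕ) : k) • f := by
  rw [anti_apply]
  have h : ∀ σ : Equiv.Perm (Fin n), ((Equiv.Perm.sign σ : ℤˣ) : ℤ) • act k n σ f = f := by
    intro σ
    rw [hf σ, smul_smul, ← Units.val_mul, Int.units_mul_self, Units.val_one, one_smul]
  rw [Finset.sum_congr rfl (fun σ _ => h σ), Finset.sum_const, Finset.card_univ,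
    Fintype.card_perm, Fintype.card_fin, Nat.cast_smul_eq_nsmul]

theorem part1 (f : MvPolynomial (Fin n × Fin 2) k) :
    (∀ σ : Equiv.Perm (Fin n),
      rename (fun v : Fin n × Fin 2 => (σ v.1, v.2)) f = ((Equiv.Perm.sign σ : ℤˣ) : ℤ) • f) ↔
      f ∈ Submodule.span k (Set.range (Δ k n)) := by
  constructor
  · intro hf
    have hf' : f ∈ altSub k n := hf
    have h1 := anti_of_alt k n f hf'
    have hne : ((n.factorial : ℕ) : k) ≠ 0 := Nat.cast_ne_zero.2 (Nat.factorial_ne_zero n)
    have h2 : f = ((n.factorial : ℕ) : k)⁻¹ • anti k n f := by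
      rw [h1, inv_smul_smul₀ hne]
    rw [h2]
    exact Submodule.smul_mem _ _ (anti_mem k n f)
  · intro hf
    have hle : Submodule.span k (Set.range (Δ k n)) ≤ altSub k n := by
      rw [Submodule.span_le]
      rintro _ ⟨p, rfl⟩ σ
      exact act_Δ k n σ p
    exact hle hf

end part1

section part2
variable (k : Type u) [Field k] (n : ℕ)

lemma act_monomial (σ : Equiv.Perm (Fin n)) (q : Fin n → ℕ × ℕ) :
    act k n σ (monomial (mOf n q) 1) = monomial (mOf n (q ∘ σ.symm)) 1 := by
  rw [act, rename_monomial]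
  congr 2
  apply Finsupp.ext
  rintro ⟨i, e⟩
  have hinj : Function.Injective (fun v : Fin n × Fin 2 => (σ v.1, v.2)) := by
    intro a b h
    simp only [Prod.mk.injEq] at h
    exact Prod.ext (σ.injective h.1) h.2
  have h := Finsupp.mapDomain_apply hinj (mOf n q) (σ.symm i, e)
  simp only [Equiv.apply_symm_apply] at h
  rw [h]
  fin_cases e
  · show mOf n q (σ.symm i, 0) = mOf n (q ∘ σ.symm) (i, 0)
    rw [mOf_apply0, mOf_apply0]
    rfl
  · show mOf n q (σ.symm i, 1) = mOf n (q ∘ σ.symm) (i, 1)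
    rw [mOf_apply1, mOf_apply1]
    rfl

lemma coeff_Δ (q q' : Fin n → ℕ × ℕ) :
    coeff (mOf n q) (Δ k n q') = ∑ σ : Equiv.Perm (Fin n),
      ((Equiv.Perm.sign σ : ℤˣ) : ℤ) • (if q' ∘ σ.symm = q then (1 : k) else 0) := by
  rw [Δ_eq, coeff_sum]
  apply Finset.sum_congr rfl
  intro σ _
  rw [Units.smul_def, coeff_smul, act_monomial, coeff_monomial]
  congr 1
  by_cases h : q' ∘ σ.symm = q
  · rw [if_pos h, if_pos (by rw [h])]
  · rw [if_neg h, if_neg (fun h' => h (mOf_injective n h'))]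

lemma coeff_Δ_self (q : Fin n → ℕ × ℕ) (hq : Function.Injective q) :
    coeff (mOf n q) (Δ k n q) = 1 := by
  rw [coeff_Δ, Finset.sum_eq_single (1 : Equiv.Perm (Fin n))]
  · rw [Equiv.Perm.sign_one, Units.val_one, one_smul, if_pos]
    rfl
  · intro σ _ hσ
    rw [if_neg, smul_zero]
    intro h
    apply hσ
    have h2 : ∀ i, σ.symm i = i := fun i => hq (congrFun h i)
    ext i
    have := h2 (σ i)
    rw [Equiv.symm_apply_apply] at this
    rw [← this]
    rfl
  · intro h
    exact absurd (Finset.mem_univ _) h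

lemma coeff_Δ_ne (q q' : Fin n → ℕ × ℕ) (h : ∀ σ : Equiv.Perm (Fin n), q' ∘ σ.symm ≠ q) :
    coeff (mOf n q) (Δ k n q') = 0 := by
  rw [coeff_Δ]
  apply Finset.sum_eq_zero
  intro σ _
  rw [if_neg (h σ), smul_zero]

theorem part2 : LinearIndependent k (fun p : {p : Fin n → ℕ ×ₗ ℕ // StrictMono p} =>
    Δ k n (fun j => ofLex (p.1 j))) := by
  rw [linearIndependent_iff']
  intro s g hg p hp
  have h := congrArg (coeff (mOf n (fun j => ofLex (p.1 j)))) hg
  rw [coeff_sum, coeff_zero, Finset.sum_eq_single p] at h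
  · rw [coeff_smul, coeff_Δ_self, smul_eq_mul, mul_one] at h
    · exact h
    · intro a b hab
      exact p.2.injective (ofLex.injective hab)
  · intro p' _ hne
    rw [coeff_smul, coeff_Δ_ne, smul_zero]
    intro σ hσ
    apply hne
    apply Subtype.ext
    have h1 : p'.1 ∘ σ.symm = p.1 := by
      funext j
      exact ofLex.injective (congrFun hσ j)
    rw [← StrictMono.range_inj p'.2 p.2, ← h1]
    exact (σ.symm.surjective.range_comp _).symm
  · intro hp'
    exact absurd hp hp'

end part2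

end H12ALT
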