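import Groth.Prelude.Def_HopfRep
import Groth.Prelude.Def_Hoch
import Mathlib.LinearAlgebra.TensorProduct.Basis
import Mathlib.LinearAlgebra.Basis.VectorSpace
import Mathlib.LinearAlgebra.FiniteDimensional.Defs
import Mathlib.LinearAlgebra.FiniteDimensional.Lemmas
import Mathlib.Tactic
import Mathlib.RingTheory.Flat.Basic
import Mathlib.LinearAlgebra.Eigenspace.Triangularizable
import Mathlib.FieldTheory.IsAlgClosed.Basic

/-!
Helper lemmas on comodules over a coalgebra over a field (helper12).
-/

set_option autoImplicit false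
set_option linter.unusedSectionVars false
universe u v w

open TensorProduct

namespace Groth.Agent.H12Comod

section

variable {k : Type u} {C : Type v} [CommRing k] [AddCommGroup C] [Module k C] [Coalgebra k C]
variable {V : Type w} [AddCommGroup V] [Module k V]

/-- contraction of the second tensor factor against a functional -/
noncomputable def T (V : Type w) [AddCommGroup V] [Module k V] (φ : C →ₗ[k] k) : V ⊗[k] C →ₗ[k] V :=
  (TensorProduct.rid k V).toLinearMap ∘ₗ φ.lTensor V

@[simp] lemma T_tmul (φ : C →ₗ[k] k) (x : V) (c : C) : T V φ (x ⊗ₜ[k] c) = φ c • x := by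
  simp [T]

/-- `c ↦ Σ φ(c₂) c₁` -/
noncomputable def S (φ : C →ₗ[k] k) : C →ₗ[k] C :=
  T C φ ∘ₗ (CoalgebraStruct.comul (R := k) (A := C))

variable [HopfRep.Comod k C V]

lemma coact_T (φ : C →ₗ[k] k) :
    (HopfRep.Comod.coact (k := k) (A := C) (V := V)) ∘ₗ T V φ =
      T (V ⊗[k] C) φ ∘ₗ (HopfRep.Comod.coact (k := k) (A := C) (V := V)).rTensor C := by
  ext x c
  simp

lemma T_assoc_symm (φ : C →ₗ[k] k) :
    T (V ⊗[k] C) φ ∘ₗ (TensorProduct.assoc k V C C).symm.toLinearMap = (T C φ).lTensor V := by
  ext x c d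
  simp [TensorProduct.smul_tmul']

lemma coact_T_coact (φ : C →ₗ[k] k) (v : V) :
    HopfRep.Comod.coact (k := k) (A := C) (T V φ (HopfRep.Comod.coact (k := k) (A := C) v)) =
      (S φ).lTensor V (HopfRep.Comod.coact (k := k) (A := C) v) := by
  have h1 := LinearMap.congr_fun (coact_T (V := V) φ) (HopfRep.Comod.coact (k := k) (A := C) v)
  simp only [LinearMap.comp_apply] at h1
  rw [h1]
  have hco := LinearMap.congr_fun (HopfRep.Comod.coassoc (k := k) (A := C) (V := V)) v
  simp only [LinearMap.comp_apply, LinearEquiv.coe_coe] at hco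
  have h2 : (HopfRep.Comod.coact (k := k) (A := C) (V := V)).rTensor C
      (HopfRep.Comod.coact (k := k) (A := C) v) =
      (TensorProduct.assoc k V C C).symm ((CoalgebraStruct.comul (R := k) (A := C)).lTensor V
        (HopfRep.Comod.coact (k := k) (A := C) v)) := by
    rw [← hco, LinearEquiv.symm_apply_apply]
  rw [h2]
  have h3 := LinearMap.congr_fun (T_assoc_symm (V := V) φ)
    ((CoalgebraStruct.comul (R := k) (A := C)).lTensor V (HopfRep.Comod.coact (k := k) (A := C) v))
  simp only [LinearMap.comp_apply, LinearEquiv.coe_coe] at h3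
  rw [h3, S, LinearMap.lTensor_comp, LinearMap.comp_apply]

lemma lTensor_mem_range_rTensor (W : Submodule k V) (g : C →ₗ[k] C) (t : V ⊗[k] C)
    (ht : t ∈ LinearMap.range (W.subtype.rTensor C)) :
    g.lTensor V t ∈ LinearMap.range (W.subtype.rTensor C) := by
  obtain ⟨y, rfl⟩ := ht
  refine ⟨g.lTensor W y, ?_⟩
  have : g.lTensor V ∘ₗ W.subtype.rTensor C = W.subtype.rTensor C ∘ₗ g.lTensor W := by
    ext x c
    simp
  exact (LinearMap.congr_fun this y).symm

end

section Field

variable {k : Type u} {C : Type v} [Field k] [AddCommGroup C] [Module k C] [Coalgebra k C]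
variable {V : Type w} [AddCommGroup V] [Module k V] [HopfRep.Comod k C V]

/-- Every vector of a comodule over a field lies in a finite-dimensional subcomodule. -/
theorem exists_finite_subcomod (v : V) :
    ∃ W : Submodule k V, Module.Finite k W ∧ v ∈ W ∧ HopfRep.IsSubcomod (k := k) (A := C) W := by
  classical
  let b := Module.Basis.ofVectorSpace k C
  let e := TensorProduct.equivFinsuppOfBasisRight (M := V) b
  set ρ := HopfRep.Comod.coact (k := k) (A := C) (V := V) with hρ
  set f := e (ρ v) with hf
  let W : Submodule k V := Submodule.span k ((f.support.image f : Finset V) : Set V)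
  have hfW : ∀ i, f i ∈ W := by
    intro i
    by_cases hi : i ∈ f.support
    · exact Submodule.subset_span (Finset.mem_coe.2 (Finset.mem_image_of_mem f hi))
    · rw [Finsupp.notMem_support_iff.1 hi]; exact W.zero_mem
  have hsum : ρ v = f.sum fun i m => m ⊗ₜ[k] b i := by
    rw [← TensorProduct.equivFinsuppOfBasisRight_symm_apply, hf]
    exact (e.symm_apply_apply _).symm
  have hρv : ρ v ∈ LinearMap.range (W.subtype.rTensor C) := by
    rw [hsum, Finsupp.sum]
    refine Submodule.sum_mem _ fun i _ => ?_
    exact ⟨(⟨f i, hfW i⟩ : W) ⊗ₜ[k] b i, by simp⟩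
  refine ⟨W, ?_, ?_, ?_⟩
  · exact FiniteDimensional.span_finset k _
  · have hcu := LinearMap.congr_fun (HopfRep.Comod.counit_comp (k := k) (A := C) (V := V)) v
    simp only [LinearMap.comp_apply, LinearMap.flip_apply, TensorProduct.mk_apply] at hcu
    have hv : v = T V (CoalgebraStruct.counit (R := k) (A := C)) (ρ v) := by
      simp only [T, LinearMap.comp_apply, LinearEquiv.coe_coe]
      rw [hcu]; simp
    rw [hv, hsum, Finsupp.sum, map_sum]
    refine Submodule.sum_mem _ fun i _ => ?_
    rw [T_tmul]
    exact W.smul_mem _ (hfW i)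
  · intro w hw
    have hle : W ≤ (LinearMap.range (W.subtype.rTensor C)).comap ρ := by
      apply Submodule.span_le.2
      intro x hx
      obtain ⟨i, _, rfl⟩ := Finset.mem_image.1 (Finset.mem_coe.1 hx)
      change ρ (f i) ∈ LinearMap.range (W.subtype.rTensor C)
      have hfi : f i = T V (b.coord i) (ρ v) := by
        rw [hf, TensorProduct.equivFinsuppOfBasisRight_apply]; rfl
      rw [hfi, coact_T_coact]
      exact lTensor_mem_range_rTensor W _ _ hρv
    exact hle hw


theorem finite_of_isSimpleComod (hV : HopfRep.IsSimpleComod k C V) : Module.Finite k V := by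
  obtain ⟨hnt, hs⟩ := hV
  obtain ⟨v, hv⟩ := exists_ne (0 : V)
  obtain ⟨W, hWfin, hvW, hW⟩ := exists_finite_subcomod (k := k) (C := C) v
  rcases hs W hW with h | h
  · exfalso
    rw [h, Submodule.mem_bot] at hvW
    exact hv hvW
  · subst h
    exact Module.Finite.equiv (Submodule.topEquiv (R := k) (M := V))

variable {V' : Type w} [AddCommGroup V'] [Module k V'] [HopfRep.Comod k C V']

theorem ker_isSubcomod (g : V →ₗ[k] V') (hg : Hoch.IsComodHom C g) :
    HopfRep.IsSubcomod (k := k) (A := C) (LinearMap.ker g) := by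
  intro w hw
  have h1 := LinearMap.congr_fun hg w
  simp only [LinearMap.comp_apply] at h1
  rw [LinearMap.mem_ker.1 hw, map_zero] at h1
  have hex := Module.Flat.rTensor_exact C (LinearMap.exact_subtype_ker_map g)
  rw [LinearMap.exact_iff] at hex
  rw [← hex, LinearMap.mem_ker]
  exact h1.symm

theorem isComodHom_sub_smul_id (α : V →ₗ[k] V) (hα : Hoch.IsComodHom C α) (a : k) :
    Hoch.IsComodHom C (α - a • LinearMap.id) := by
  unfold Hoch.IsComodHom at hα ⊢
  rw [LinearMap.comp_sub, hα, LinearMap.rTensor_sub, LinearMap.sub_comp, LinearMap.rTensor_smul]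
  congr 1
  ext v
  simp

theorem schur (hV : HopfRep.IsSimpleComod k C V) [IsAlgClosed k] (α : V →ₗ[k] V)
    (hα : Hoch.IsComodHom C α) : ∃ a : k, α = a • LinearMap.id := by
  have hfin := finite_of_isSimpleComod hV
  obtain ⟨hnt, hs⟩ := hV
  obtain ⟨a, ha⟩ := Module.End.exists_eigenvalue α
  refine ⟨a, ?_⟩
  have hsub := ker_isSubcomod (α - a • LinearMap.id) (isComodHom_sub_smul_id α hα a)
  obtain ⟨x, hx⟩ := ha.exists_hasEigenvector
  rcases hs _ hsub with h | h
  · exfalso
    have hxk : x ∈ LinearMap.ker (α - a • LinearMap.id) := by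
      rw [LinearMap.mem_ker]
      have := hx.apply_eq_smul
      simp [this]
    rw [h, Submodule.mem_bot] at hxk
    exact hx.2 hxk
  · ext v
    have : v ∈ LinearMap.ker (α - a • LinearMap.id) := by rw [h]; trivial
    rw [LinearMap.mem_ker] at this
    simpa [sub_eq_zero] using this

end Field

end Groth.Agent.H12Comod

namespace Groth.Agent.H12Comod

open TensorProduct

variable {k : Type u} {C : Type v} [Field k] [AddCommGroup C] [Module k C] [Coalgebra k C]
variable {V : Type w} [AddCommGroup V] [Module k V] [HopfRep.Comod k C V]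

/-- coordinate criterion for membership in `X ⊗ C ⊆ V ⊗ C`. -/
theorem mem_range_rTensor_iff (X : Submodule k V) (t : V ⊗[k] C) :
    t ∈ LinearMap.range (X.subtype.rTensor C) ↔
      ∀ i, T V ((Module.Basis.ofVectorSpace k C).coord i) t ∈ X := by
  classical
  set b := Module.Basis.ofVectorSpace k C with hb
  constructor
  · rintro ⟨y, rfl⟩ i
    induction y using TensorProduct.induction_on with
    | zero => simp
    | tmul x c => simpa using X.smul_mem _ x.2
    | add y₁ y₂ h₁ h₂ => rw [map_add, map_add]; exact X.add_mem h₁ h₂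
  · intro h
    let e := TensorProduct.equivFinsuppOfBasisRight (M := V) b
    have hsum : t = (e t).sum fun i m => m ⊗ₜ[k] b i := by
      rw [← TensorProduct.equivFinsuppOfBasisRight_symm_apply]
      exact (e.symm_apply_apply _).symm
    have hcoord : ∀ i, e t i = T V (b.coord i) t := by
      intro i
      rw [TensorProduct.equivFinsuppOfBasisRight_apply]; rfl
    rw [hsum, Finsupp.sum]
    refine Submodule.sum_mem _ fun i _ => ?_
    exact ⟨(⟨e t i, by rw [hcoord]; exact h i⟩ : X) ⊗ₜ[k] b i, by simp⟩

theorem isSubcomod_iff (X : Submodule k V) :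
    HopfRep.IsSubcomod (k := k) (A := C) X ↔
      ∀ i, X ≤ X.comap (T V ((Module.Basis.ofVectorSpace k C).coord i) ∘ₗ
        HopfRep.Comod.coact (k := k) (A := C) (V := V)) := by
  constructor
  · intro h i w hw
    exact (mem_range_rTensor_iff X _).1 (h w hw) i
  · intro h w hw
    exact (mem_range_rTensor_iff X _).2 fun i => h i hw

theorem isSubcomod_sSup (s : Set (Submodule k V))
    (hs : ∀ X ∈ s, HopfRep.IsSubcomod (k := k) (A := C) X) :
    HopfRep.IsSubcomod (k := k) (A := C) (sSup s) := by
  rw [isSubcomod_iff]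
  intro i
  exact sSup_le fun X hX => ((isSubcomod_iff X).1 (hs X hX) i).trans
    (Submodule.comap_mono (le_sSup hX))

theorem isSubcomod_sup (X Y : Submodule k V) (hX : HopfRep.IsSubcomod (k := k) (A := C) X)
    (hY : HopfRep.IsSubcomod (k := k) (A := C) Y) :
    HopfRep.IsSubcomod (k := k) (A := C) (X ⊔ Y) := by
  rw [isSubcomod_iff]
  intro i
  exact sup_le (((isSubcomod_iff X).1 hX i).trans (Submodule.comap_mono le_sup_left))
    (((isSubcomod_iff Y).1 hY i).trans (Submodule.comap_mono le_sup_right))

theorem isSubcomod_inf (X Y : Submodule k V) (hX : HopfRep.IsSubcomod (k := k) (A := C) X)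
    (hY : HopfRep.IsSubcomod (k := k) (A := C) Y) :
    HopfRep.IsSubcomod (k := k) (A := C) (X ⊓ Y) := by
  rw [isSubcomod_iff]
  intro i
  rw [Submodule.comap_inf]
  exact inf_le_inf ((isSubcomod_iff X).1 hX i) ((isSubcomod_iff Y).1 hY i)

end Groth.Agent.H12Comod
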