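import Groth.Agent.Lib.helper12.Coeff
import Mathlib.Tactic

/-!
Flags of subcomodules in finite-dimensional comodules (helper12).
-/

set_option autoImplicit false
set_option linter.unusedSectionVars false
universe u v w

open TensorProduct

namespace Groth.Agent.H12Flag

open Groth.Agent.H12Comod Groth.Agent.H12Coeff

section LinAlg

variable {k : Type u} [Field k] {V : Type w} [AddCommGroup V] [Module k V]

lemma finrank_comap_mkQ [Module.Finite k V] (L : Submodule k V) (X' : Submodule k (V ⧸ L)) :
    Module.finrank k (X'.comap L.mkQ) = Module.finrank k X' + Module.finrank k L := by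
  set Y := X'.comap L.mkQ with hY
  let f : Y →ₗ[k] (V ⧸ L) := L.mkQ ∘ₗ Y.subtype
  have hrange : LinearMap.range f = X' := by
    rw [LinearMap.range_comp, Submodule.range_subtype, hY,
      Submodule.map_comap_eq_of_surjective L.mkQ_surjective]
  have hLY : L ≤ Y := by
    intro x hx
    rw [hY, Submodule.mem_comap, Submodule.mkQ_apply, (Submodule.Quotient.mk_eq_zero L).2 hx]
    exact Submodule.zero_mem _
  have hker : LinearMap.ker f = L.comap Y.subtype := by
    rw [LinearMap.ker_comp, Submodule.ker_mkQ]
  have h1 := LinearMap.finrank_range_add_finrank_ker f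
  rw [hrange, hker, LinearEquiv.finrank_eq (Submodule.comapSubtypeEquivOfLe hLY)] at h1
  exact h1.symm

end LinAlg

section Flag

variable {k : Type u} {A : Type v} [Field k] [CommRing A] [Bialgebra k A]

lemma mem_range_rTensor_comap {V W : Type*} [AddCommGroup V] [Module k V] [AddCommGroup W]
    [Module k W] (p : V →ₗ[k] W) (X' : Submodule k W) (t : V ⊗[k] A)
    (h : p.rTensor A t ∈ LinearMap.range (X'.subtype.rTensor A)) :
    t ∈ LinearMap.range ((X'.comap p).subtype.rTensor A) := by
  have key : ∀ (ψ : A →ₗ[k] k) (t : V ⊗[k] A), Rc W ψ (p.rTensor A t) = p (Rc V ψ t) := by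
    intro ψ t
    induction t using TensorProduct.induction_on with
    | zero => simp
    | tmul v c => simp
    | add x y hx hy => simp only [map_add, hx, hy]
  rw [Groth.Agent.H12Coeff.mem_range_rTensor_iff] at h ⊢
  intro ψ
  have h1 := h ψ
  rw [key] at h1
  exact h1

/-- The flag engine. `u` switches on the triviality of the graded pieces. -/
theorem exists_flag (u : Prop)
    (hstep : ∀ (V : Type v) [AddCommGroup V] [Module k V] [HopfRep.Comod k A V],
      Module.Finite k V → Nontrivial V → ∃ L : Submodule k V,
        HopfRep.IsSubcomod (k := k) (A := A) L ∧ Module.finrank k L = 1 ∧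
        (u → L ≤ HopfRep.fixedPts k A V)) :
    ∀ (n : ℕ) (V : Type v) [AddCommGroup V] [Module k V] [HopfRep.Comod k A V] [Module.Finite k V],
      Module.finrank k V = n →
      ∃ F : ℕ → Submodule k V, Monotone F ∧ F 0 = ⊥ ∧
        (∀ i, Module.finrank k (F i) = min i n) ∧
        (∀ i, HopfRep.IsSubcomod (k := k) (A := A) (F i)) ∧
        (u → ∀ i, ∀ v ∈ F (i + 1),
          HopfRep.Comod.coact (k := k) (A := A) v - v ⊗ₜ[k] (1 : A) ∈
            LinearMap.range ((F i).subtype.rTensor A)) := by
  intro n
  induction n with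
  | zero =>
    intro V _ _ _ _ hn
    have hsub : Subsingleton V := Module.finrank_zero_iff.1 hn
    refine ⟨fun _ => ⊥, monotone_const, rfl, fun i => by simp, fun i => isSubcomod_bot, ?_⟩
    intro _ i v hv
    rw [Submodule.mem_bot] at hv
    subst hv
    simp
  | succ n ih =>
    intro V _ _ c _ hn
    have hnt : Nontrivial V := by
      rw [← Module.finrank_pos_iff (R := k)]
      omega
    obtain ⟨L, hL, hL1, hLfix⟩ := hstep V inferInstance hnt
    have hQdim : Module.finrank k (V ⧸ L) = n := by
      have := Submodule.finrank_quotient_add_finrank L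
      omega
    let cQ : HopfRep.Comod k A (V ⧸ L) := ComodSub.Comod.quot c L hL
    have hπ : Hoch.IsComodHom A L.mkQ := ComodSub.isComodHom_mkQ c L hL
    obtain ⟨F', hmono, hF0, hFdim, hFsub, hFtriv⟩ := ih (V ⧸ L) hQdim
    let F : ℕ → Submodule k V := fun i => Nat.casesOn i ⊥ (fun j => (F' j).comap L.mkQ)
    have hFs : ∀ j, F (j + 1) = (F' j).comap L.mkQ := fun j => rfl
    have hF1 : F 1 = L := by
      show (F' 0).comap L.mkQ = L
      rw [hF0, Submodule.comap_bot, Submodule.ker_mkQ]
    refine ⟨F, ?_, rfl, ?_, ?_, ?_⟩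
    · apply monotone_nat_of_le_succ
      intro i
      cases i with
      | zero => exact bot_le
      | succ j => exact Submodule.comap_mono (hmono (Nat.le_succ j))
    · intro i
      cases i with
      | zero => simp [F]
      | succ j =>
        rw [hFs, finrank_comap_mkQ, hFdim, hL1]
        omega
    · intro i
      cases i with
      | zero => exact isSubcomod_bot
      | succ j => exact isSubcomod_comap hπ (hFsub j)
    · intro hu i v hv
      cases i with
      | zero =>
        rw [zero_add, hF1] at hv
        have hfix : HopfRep.Comod.coact (k := k) (A := A) v = v ⊗ₜ[k] (1 : A) := hLfix hu hv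
        rw [hfix, sub_self]
        exact Submodule.zero_mem _
      | succ j =>
        rw [hFs] at hv ⊢
        apply mem_range_rTensor_comap
        have h1 := hFtriv hu j (L.mkQ v) hv
        have h2 := LinearMap.congr_fun hπ v
        simp only [LinearMap.comp_apply] at h2
        rw [map_sub, LinearMap.rTensor_tmul, ← h2]
        exact h1

end Flag

section Steps

variable {k : Type u} {A : Type v} [Field k] [CommRing A] [Bialgebra k A]

theorem step_of_isUnipotent (hU : HopfRep.IsUnipotent k A) (u : Prop) :
    ∀ (V : Type v) [AddCommGroup V] [Module k V] [HopfRep.Comod k A V],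
      Module.Finite k V → Nontrivial V → ∃ L : Submodule k V,
        HopfRep.IsSubcomod (k := k) (A := A) L ∧ Module.finrank k L = 1 ∧
        (u → L ≤ HopfRep.fixedPts k A V) := by
  intro V _ _ _ hfin hnt
  have hne := hU V hfin hnt
  obtain ⟨v, hv, hv0⟩ := Submodule.exists_mem_ne_zero_of_ne_bot hne
  have hle : Submodule.span k {v} ≤ HopfRep.fixedPts k A V :=
    Submodule.span_le.2 (Set.singleton_subset_iff.2 hv)
  refine ⟨Submodule.span k {v}, ?_, finrank_span_singleton hv0, fun _ => hle⟩
  intro w hw
  have hfix : HopfRep.Comod.coact (k := k) (A := A) w = w ⊗ₜ[k] (1 : A) := hle hw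
  rw [hfix]
  exact ⟨(⟨w, hw⟩ : Submodule.span k {v}) ⊗ₜ[k] (1 : A), by simp⟩

theorem step_of_isTrigonalizable (hT : HopfRep.IsTrigonalizable k A) :
    ∀ (V : Type v) [AddCommGroup V] [Module k V] [HopfRep.Comod k A V],
      Module.Finite k V → Nontrivial V → ∃ L : Submodule k V,
        HopfRep.IsSubcomod (k := k) (A := A) L ∧ Module.finrank k L = 1 ∧
        (False → L ≤ HopfRep.fixedPts k A V) := by
  intro V _ _ c hfin hnt
  obtain ⟨S, hS, -⟩ := exists_isSimpleSub_le (k := k) (C := A) (V := V) (Y := ⊤) isSubcomod_top top_ne_bot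
  refine ⟨S, hS.1, ?_, fun h => h.elim⟩
  exact @hT S _ _ (ComodSub.Comod.restr c S hS.1) inferInstance (isSimpleComod_restr hS)

end Steps

end Groth.Agent.H12Flag
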