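import Mathlib
import Groth.Prelude.Def_HopfRep
import Groth.Agent.Lib.helper12.Comod
import Groth.Agent.Lib.helper12.Flag
import Groth.Prelude.Def_ComodSub

/-!
helper12: the unipotent (coradical-type) filtration of a bialgebra.

`Fil n` : `Fil 0 = ⊥`, `Fil (n+1) = {c | Δ c - c ⊗ 1 ∈ Fil n ⊗ C}`.
* over a field: `IsUnipotent ↔ ⋃ Fil n = ⊤` (`isUnipotent_of_forall_mem_fil`, `exists_mem_fil_of_isUnipotent`);
* `Fil` is compatible with base change (`tmul_mem_fil`).
-/

set_option autoImplicit false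
set_option linter.unusedSectionVars false
set_option linter.style.haveILetI false
universe u v w

open TensorProduct

namespace Groth.Agent.H12Uni

section general
variable {R : Type u} [CommRing R] {C : Type v} [CommRing C] [Bialgebra R C]

variable (R C) in
/-- the map `c ↦ Δ c - c ⊗ 1` -/
noncomputable def dmap : C →ₗ[R] C ⊗[R] C :=
  Coalgebra.comul - (TensorProduct.mk R C C).flip 1

lemma dmap_apply (c : C) : dmap R C c = Coalgebra.comul (R := R) c - c ⊗ₜ[R] (1 : C) := rfl

variable (R C) in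
/-- the unipotent filtration -/
noncomputable def Fil : ℕ → Submodule R C
  | 0 => ⊥
  | n + 1 => (LinearMap.range ((Fil n).subtype.rTensor C)).comap (dmap R C)

lemma fil_zero : Fil R C 0 = ⊥ := rfl

lemma mem_fil_succ {n : ℕ} {c : C} :
    c ∈ Fil R C (n + 1) ↔ dmap R C c ∈ LinearMap.range ((Fil R C n).subtype.rTensor C) := Iff.rfl

lemma range_rTensor_mono {X Y : Submodule R C} (h : X ≤ Y) :
    LinearMap.range (X.subtype.rTensor C) ≤ LinearMap.range (Y.subtype.rTensor C) := by
  rintro _ ⟨t, rfl⟩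
  refine ⟨(Submodule.inclusion h).rTensor C t, ?_⟩
  rw [← LinearMap.comp_apply, ← LinearMap.rTensor_comp]
  rfl

lemma fil_le_succ (n : ℕ) : Fil R C n ≤ Fil R C (n + 1) := by
  induction n with
  | zero => rw [fil_zero]; exact bot_le
  | succ n ih =>
    intro c hc
    rw [mem_fil_succ] at hc ⊢
    exact range_rTensor_mono ih hc

lemma fil_mono : Monotone (Fil R C) := monotone_nat_of_le_succ fil_le_succ

end general

section field
variable {k : Type u} [Field k] {C : Type v} [CommRing C] [Bialgebra k C]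

open Groth.Agent.H12Comod

lemma T_mem_of_mem_range {V : Type w} [AddCommGroup V] [Module k V] (X : Submodule k V)
    (ξ : C →ₗ[k] k) (t : V ⊗[k] C) (ht : t ∈ LinearMap.range (X.subtype.rTensor C)) :
    T V ξ t ∈ X := by
  obtain ⟨y, rfl⟩ := ht
  induction y using TensorProduct.induction_on with
  | zero => simp
  | tmul x c => simpa using X.smul_mem _ x.2
  | add y₁ y₂ h₁ h₂ => rw [map_add, map_add]; exact X.add_mem h₁ h₂

/-- `S ξ` lowers the filtration when `ξ 1 = 0`. -/
lemma S_mem_fil (ξ : C →ₗ[k] k) (hξ : ξ 1 = 0) {m : ℕ} {c : C} (hc : c ∈ Fil k C (m + 1)) :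
    S ξ c ∈ Fil k C m := by
  rw [mem_fil_succ] at hc
  have h1 : Coalgebra.comul (R := k) c = dmap k C c + c ⊗ₜ[k] (1 : C) := by
    rw [dmap_apply]; abel
  have h2 : S ξ c = T C ξ (dmap k C c) := by
    show T C ξ (Coalgebra.comul (R := k) c) = _
    rw [h1, map_add, T_tmul, hξ, zero_smul, add_zero]
  rw [h2]
  exact T_mem_of_mem_range _ ξ _ hc

lemma range_lTensor_mono {V : Type w} [AddCommGroup V] [Module k V] {X Y : Submodule k C}
    (h : X ≤ Y) :
    LinearMap.range (X.subtype.lTensor V) ≤ LinearMap.range (Y.subtype.lTensor V) := by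
  rintro _ ⟨t, rfl⟩
  refine ⟨(Submodule.inclusion h).lTensor V t, ?_⟩
  rw [← LinearMap.comp_apply, ← LinearMap.lTensor_comp]
  rfl

lemma exists_mem_range_lTensor_fil (h : ∀ c : C, ∃ n, c ∈ Fil k C n)
    {V : Type w} [AddCommGroup V] [Module k V] (t : V ⊗[k] C) :
    ∃ n, t ∈ LinearMap.range ((Fil k C n).subtype.lTensor V) := by
  induction t using TensorProduct.induction_on with
  | zero => exact ⟨0, Submodule.zero_mem _⟩
  | tmul x c =>
    obtain ⟨n, hn⟩ := h c
    exact ⟨n, ⟨x ⊗ₜ[k] (⟨c, hn⟩ : Fil k C n), by simp⟩⟩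
  | add y₁ y₂ h₁ h₂ =>
    obtain ⟨n₁, hn₁⟩ := h₁
    obtain ⟨n₂, hn₂⟩ := h₂
    refine ⟨max n₁ n₂, Submodule.add_mem _ ?_ ?_⟩
    · exact range_lTensor_mono (fil_mono (le_max_left _ _)) hn₁
    · exact range_lTensor_mono (fil_mono (le_max_right _ _)) hn₂

lemma eq_zero_of_forall_T {V : Type w} [AddCommGroup V] [Module k V] (t : V ⊗[k] C)
    (h : ∀ ξ : C →ₗ[k] k, T V ξ t = 0) : t = 0 := by
  letI : HopfRep.Comod k C V := HopfRep.Comod.trivial k C V
  have h1 : t ∈ LinearMap.range ((⊥ : Submodule k V).subtype.rTensor C) := by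
    rw [mem_range_rTensor_iff]
    intro i
    rw [h]
    exact Submodule.zero_mem _
  obtain ⟨y, rfl⟩ := h1
  have : y = 0 := Subsingleton.elim _ _
  rw [this, map_zero]

lemma T_counit_coact {V : Type w} [AddCommGroup V] [Module k V] [HopfRep.Comod k C V] (v : V) :
    T V (Coalgebra.counit (R := k) (A := C)) (HopfRep.Comod.coact (k := k) (A := C) v) = v := by
  have h := LinearMap.congr_fun (HopfRep.Comod.counit_comp (k := k) (A := C) (V := V)) v
  simp only [LinearMap.comp_apply, LinearMap.flip_apply, TensorProduct.mk_apply] at h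
  show TensorProduct.rid k V (LinearMap.lTensor V _ _) = v
  rw [h, TensorProduct.rid_tmul, one_smul]

/-- an exhaustive unipotent filtration implies unipotence -/
theorem isUnipotent_of_forall_mem_fil (h : ∀ c : C, ∃ n, c ∈ Fil k C n) :
    HopfRep.IsUnipotent k C := by
  classical
  intro V _ _ _ hfin hnt
  set ρ := HopfRep.Comod.coact (k := k) (A := C) (V := V) with hρ
  let Vn : ℕ → Submodule k V := fun n =>
    (LinearMap.range ((Fil k C n).subtype.lTensor V)).comap ρ
  have hA : ∀ v : V, ∃ n, v ∈ Vn n := fun v => exists_mem_range_lTensor_fil h (ρ v)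
  obtain ⟨v0, hv0⟩ := exists_ne (0 : V)
  have hP : ∃ n, ∃ v : V, v ≠ 0 ∧ v ∈ Vn n := by
    obtain ⟨n, hn⟩ := hA v0
    exact ⟨n, v0, hv0, hn⟩
  have hmin : ∀ m, m < Nat.find hP → ¬ ∃ v : V, v ≠ 0 ∧ v ∈ Vn m := fun m hm => Nat.find_min hP hm
  obtain ⟨v, hv, hvn⟩ := Nat.find_spec hP
  -- the minimal level is not zero
  have hne0 : Nat.find hP ≠ 0 := by
    intro h0
    rw [h0] at hvn
    obtain ⟨y, hy⟩ := hvn
    have : y = 0 := by
      have hs : Subsingleton (V ⊗[k] ↥(Fil k C 0)) := by
        have : Subsingleton ↥(Fil k C 0) := by rw [fil_zero]; infer_instance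
        infer_instance
      exact Subsingleton.elim _ _
    rw [this, map_zero] at hy
    apply hv
    rw [← T_counit_coact (k := k) (C := C) v, ← hρ, ← hy, map_zero]
  obtain ⟨m, hm⟩ := Nat.exists_eq_succ_of_ne_zero hne0
  rw [hm] at hvn
  -- contraction against functionals vanishing at `1`
  have hD : ∀ ξ : C →ₗ[k] k, ξ 1 = 0 → T V ξ (ρ v) = 0 := by
    intro ξ hξ
    by_contra hw
    apply hmin m (by omega)
    refine ⟨_, hw, ?_⟩
    show ρ (T V ξ (ρ v)) ∈ LinearMap.range ((Fil k C m).subtype.lTensor V)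
    rw [hρ, coact_T_coact]
    obtain ⟨y, hy⟩ := hvn
    rw [← hρ, ← hy]
    clear hy
    induction y using TensorProduct.induction_on with
    | zero => simp
    | tmul x c =>
      exact ⟨x ⊗ₜ[k] (⟨S ξ c.1, S_mem_fil ξ hξ c.2⟩ : Fil k C m), by simp⟩
    | add y₁ y₂ h₁ h₂ =>
      rw [map_add, map_add]
      exact Submodule.add_mem _ h₁ h₂
  have hE : ρ v = v ⊗ₜ[k] (1 : C) := by
    rw [← sub_eq_zero]
    apply eq_zero_of_forall_T
    intro ξ
    have h1 := hD (ξ - ξ 1 • Coalgebra.counit (R := k) (A := C)) (by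
      simp [Bialgebra.counit_one])
    have h2 : T V (ξ - ξ 1 • Coalgebra.counit (R := k) (A := C)) (ρ v) =
        T V ξ (ρ v) - ξ 1 • v := by
      have : T V (ξ - ξ 1 • Coalgebra.counit (R := k) (A := C)) =
          T V ξ - ξ 1 • T V (Coalgebra.counit (R := k) (A := C)) := by
        ext x c
        simp [sub_smul, mul_smul]
      rw [this, LinearMap.sub_apply, LinearMap.smul_apply, hρ, T_counit_coact]
    rw [h2] at h1
    rw [map_sub, T_tmul, h1]
  intro hbot
  have hmem : v ∈ HopfRep.fixedPts k C V := hE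
  rw [hbot, Submodule.mem_bot] at hmem
  exact hv hmem

/-- unipotence implies that the unipotent filtration is exhaustive -/
theorem exists_mem_fil_of_isUnipotent (hU : HopfRep.IsUnipotent k C) (c : C) :
    ∃ n, c ∈ Fil k C n := by
  classical
  obtain ⟨W, hWfin, hcW, hWsub⟩ := exists_finite_subcomod (k := k) (C := C) (V := C) c
  letI cW : HopfRep.Comod k C ↥W := ComodSub.Comod.restr (HopfRep.Comod.regular k C) W hWsub
  obtain ⟨F, hFmono, hF0, hFrank, hFsub, hFtriv⟩ :=
    Groth.Agent.H12Flag.exists_flag (k := k) (A := C) True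
      (Groth.Agent.H12Flag.step_of_isUnipotent hU True) (Module.finrank k W) ↥W rfl
  have key : ∀ i, ∀ w ∈ F i, ((w : W) : C) ∈ Fil k C i := by
    intro i
    induction i with
    | zero =>
      intro w hw
      rw [hF0, Submodule.mem_bot] at hw
      rw [hw]
      exact Submodule.zero_mem _
    | succ i ih =>
      intro w hw
      rw [mem_fil_succ, dmap_apply]
      obtain ⟨y, hy⟩ := hFtriv trivial i w hw
      let g : ↥(F i) →ₗ[k] ↥(Fil k C i) :=
        LinearMap.codRestrict (Fil k C i) (W.subtype ∘ₗ (F i).subtype) (fun x => ih x.1 x.2)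
      refine ⟨g.rTensor C y, ?_⟩
      have h1 : (Fil k C i).subtype.rTensor C (g.rTensor C y) =
          W.subtype.rTensor C ((F i).subtype.rTensor C y) := by
        rw [← LinearMap.comp_apply, ← LinearMap.rTensor_comp, ← LinearMap.comp_apply,
          ← LinearMap.rTensor_comp]
        rfl
      rw [h1, hy, map_sub]
      have h2 := ComodSub.restr_coact_coe (HopfRep.Comod.regular k C) W hWsub w
      rw [h2]
      simp only [LinearMap.rTensor_tmul, Submodule.subtype_apply]
      rfl
  have htop : F (Module.finrank k W) = ⊤ := by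
    apply Submodule.eq_top_of_finrank_eq
    rw [hFrank, min_self]
  refine ⟨Module.finrank k W, ?_⟩
  have := key (Module.finrank k W) ⟨c, hcW⟩ (by rw [htop]; trivial)
  exact this

end field

section basechange
variable {A : Type u} [CommRing A] {S : Type u} [CommRing S] [Algebra A S] {H : Type u}
  [CommRing H] [Bialgebra A H]

open TensorProduct.AlgebraTensorModule

lemma comul_tmul_eq (h : H) :
    Coalgebra.comul (R := S) ((1 : S) ⊗ₜ[A] h) =
      distribBaseChange A S H H ((1 : S) ⊗ₜ[A] Coalgebra.comul (R := A) h) := by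
  rw [TensorProduct.comul_tmul]
  have h1 : Coalgebra.comul (R := S) (1 : S) = (1 : S) ⊗ₜ[S] (1 : S) := rfl
  rw [h1]
  generalize Coalgebra.comul (R := A) h = t
  induction t using TensorProduct.induction_on with
  | zero => simp
  | tmul x y => simp
  | add x y hx hy => rw [TensorProduct.tmul_add, map_add, hx, hy, TensorProduct.tmul_add, map_add]

lemma dmap_one_tmul (h : H) :
    dmap S (S ⊗[A] H) ((1 : S) ⊗ₜ[A] h) =
      distribBaseChange A S H H ((1 : S) ⊗ₜ[A] dmap A H h) := by
  rw [dmap_apply, dmap_apply, comul_tmul_eq, TensorProduct.tmul_sub, map_sub,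
    distribBaseChange_tmul, Algebra.TensorProduct.one_def]

/-- the filtration is compatible with base change -/
lemma tmul_mem_fil (n : ℕ) : ∀ h ∈ Fil A H n, (1 : S) ⊗ₜ[A] h ∈ Fil S (S ⊗[A] H) n := by
  induction n with
  | zero =>
    intro h hh
    rw [fil_zero, Submodule.mem_bot] at hh
    rw [hh, TensorProduct.tmul_zero]
    exact Submodule.zero_mem _
  | succ n ih =>
    intro h hh
    rw [mem_fil_succ] at hh ⊢
    rw [dmap_one_tmul]
    obtain ⟨y, hy⟩ := hh
    rw [← hy]
    clear hy
    induction y using TensorProduct.induction_on with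
    | zero => simp
    | tmul x b =>
      refine ⟨(⟨(1 : S) ⊗ₜ[A] (x : H), ih x.1 x.2⟩ : Fil S (S ⊗[A] H) n) ⊗ₜ[S]
        ((1 : S) ⊗ₜ[A] b), ?_⟩
      simp
    | add y₁ y₂ h₁ h₂ =>
      rw [map_add, TensorProduct.tmul_add, map_add]
      exact Submodule.add_mem _ h₁ h₂

/-- exhaustiveness passes to base changes -/
lemma forall_exists_mem_fil_baseChange (h : ∀ c : H, ∃ n, c ∈ Fil A H n) (z : S ⊗[A] H) :
    ∃ n, z ∈ Fil S (S ⊗[A] H) n := by
  induction z using TensorProduct.induction_on with
  | zero => exact ⟨0, Submodule.zero_mem _⟩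
  | tmul s c =>
    obtain ⟨n, hn⟩ := h c
    refine ⟨n, ?_⟩
    have h1 : s ⊗ₜ[A] c = s • ((1 : S) ⊗ₜ[A] c) := by
      rw [TensorProduct.smul_tmul', smul_eq_mul, mul_one]
    rw [h1]
    exact Submodule.smul_mem _ _ (tmul_mem_fil n c hn)
  | add y₁ y₂ h₁ h₂ =>
    obtain ⟨n₁, hn₁⟩ := h₁
    obtain ⟨n₂, hn₂⟩ := h₂
    exact ⟨max n₁ n₂, Submodule.add_mem _ (fil_mono (le_max_left _ _) hn₁)
      (fil_mono (le_max_right _ _) hn₂)⟩

end basechange

section dvr
variable {A : Type u} [CommRing A] [IsDedekindDomain A]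
  {K : Type u} [Field K] [Algebra A K] [IsFractionRing A K]
  {H : Type u} [CommRing H] [Bialgebra A H] [Module.Flat A H]

open TensorProduct.AlgebraTensorModule

lemma one_tmul_injective (M : Type*) [AddCommGroup M] [Module A M] [Module.Flat A M] :
    Function.Injective (TensorProduct.mk A K M 1) :=
  Module.Flat.tensorProduct_mk_injective A M K

/-- saturation: the filtration of `H` is the trace of the filtration of the generic fibre -/
lemma mem_fil_of_one_tmul_mem (n : ℕ) :
    ∀ h : H, (1 : K) ⊗ₜ[A] h ∈ Fil K (K ⊗[A] H) n → h ∈ Fil A H n := by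
  induction n with
  | zero =>
    intro h hh
    rw [fil_zero, Submodule.mem_bot] at hh
    have := one_tmul_injective (A := A) (K := K) H (hh.trans (TensorProduct.tmul_zero _ _).symm)
    rw [this]
    exact Submodule.zero_mem _
  | succ n ih =>
    intro h hh
    rw [mem_fil_succ] at hh ⊢
    rw [dmap_one_tmul] at hh
    set F := Fil A H n with hF
    set x := dmap A H h with hx
    -- the quotient is torsion free, hence flat
    haveI htf : Module.IsTorsionFree A (H ⧸ F) := by
      refine ⟨fun r hr => ?_⟩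
      have hr0 : r ≠ 0 := hr.ne_zero
      intro q1 q2 hq
      rw [← sub_eq_zero]
      have hq' : r • (q1 - q2) = 0 := by
        rw [smul_sub]
        exact sub_eq_zero.2 hq
      obtain ⟨h', hh'⟩ := Submodule.mkQ_surjective F (q1 - q2)
      rw [← hh'] at hq' ⊢
      rw [← map_smul, Submodule.mkQ_apply, Submodule.Quotient.mk_eq_zero] at hq'
      rw [Submodule.mkQ_apply, Submodule.Quotient.mk_eq_zero]
      apply ih
      have h1 := tmul_mem_fil (S := K) n _ hq'
      rw [TensorProduct.tmul_smul] at h1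
      have h2 : algebraMap A K r ≠ 0 := by
        rw [Ne, map_eq_zero_iff _ (IsFractionRing.injective A K)]
        exact hr0
      have h3 : (1 : K) ⊗ₜ[A] h' = (algebraMap A K r)⁻¹ • (r • ((1 : K) ⊗ₜ[A] h')) := by
        rw [← algebraMap_smul K r ((1 : K) ⊗ₜ[A] h'), smul_smul, inv_mul_cancel₀ h2, one_smul]
      rw [h3]
      exact Submodule.smul_mem _ _ h1
    haveI : Module.Flat A (H ⧸ F) := inferInstance
    haveI : Module.Flat A ((H ⧸ F) ⊗[A] H) := inferInstance
    rw [← rTensor_mkQ, LinearMap.mem_ker]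
    apply one_tmul_injective (A := A) (K := K) ((H ⧸ F) ⊗[A] H)
    rw [map_zero]
    let Θ : (K ⊗[A] H) ⊗[K] (K ⊗[A] H) →ₗ[K] K ⊗[A] ((H ⧸ F) ⊗[A] H) :=
      ((LinearMap.rTensor H F.mkQ).baseChange K) ∘ₗ (distribBaseChange A K H H).symm.toLinearMap
    have hΘ1 : Θ (distribBaseChange A K H H ((1 : K) ⊗ₜ[A] x)) =
        TensorProduct.mk A K ((H ⧸ F) ⊗[A] H) 1 (LinearMap.rTensor H F.mkQ x) := by
      simp only [Θ, LinearMap.comp_apply, LinearEquiv.coe_coe, LinearEquiv.symm_apply_apply,
        LinearMap.baseChange_tmul, TensorProduct.mk_apply]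
    rw [← hΘ1]
    obtain ⟨y, hy⟩ := hh
    rw [← hy]
    clear hy
    have hkill : ∀ (f : Fil K (K ⊗[A] H) n) (g : K ⊗[A] H), Θ ((f : K ⊗[A] H) ⊗ₜ[K] g) = 0 := by
      intro f g
      obtain ⟨⟨h', s⟩, hs⟩ := IsLocalizedModule.surj (nonZeroDivisors A)
        (TensorProduct.mk A K H 1) (f : K ⊗[A] H)
      simp only [TensorProduct.mk_apply] at hs
      have hs0 : algebraMap A K (s : A) ≠ 0 := by
        rw [Ne, map_eq_zero_iff _ (IsFractionRing.injective A K)]
        exact nonZeroDivisors.ne_zero s.2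
      have hh'F : h' ∈ F := by
        apply ih
        rw [← hs]
        have : (s : nonZeroDivisors A) • (f : K ⊗[A] H) = algebraMap A K (s : A) • (f : K ⊗[A] H) := by
          rw [algebraMap_smul]
          rfl
        rw [this]
        exact Submodule.smul_mem _ _ f.2
      have hf : (f : K ⊗[A] H) = (algebraMap A K (s : A))⁻¹ • ((1 : K) ⊗ₜ[A] h') := by
        rw [← hs]
        have : (s : nonZeroDivisors A) • (f : K ⊗[A] H) = algebraMap A K (s : A) • (f : K ⊗[A] H) := by
          rw [algebraMap_smul]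
          rfl
        rw [this, smul_smul, inv_mul_cancel₀ hs0, one_smul]
      rw [hf]
      induction g using TensorProduct.induction_on with
      | zero => simp
      | tmul c b =>
        have h1 : ((algebraMap A K (s : A))⁻¹ • ((1 : K) ⊗ₜ[A] h')) ⊗ₜ[K] (c ⊗ₜ[A] b) =
            ((algebraMap A K (s : A))⁻¹ * c) • (((1 : K) ⊗ₜ[A] h') ⊗ₜ[K] ((1 : K) ⊗ₜ[A] b)) := by
          have h2 : c ⊗ₜ[A] b = c • ((1 : K) ⊗ₜ[A] b) := by
            rw [TensorProduct.smul_tmul', smul_eq_mul, mul_one]
          rw [h2, TensorProduct.tmul_smul, ← TensorProduct.smul_tmul', smul_smul, mul_comm]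
        rw [h1, map_smul]
        simp only [Θ, LinearMap.comp_apply, LinearEquiv.coe_coe, distribBaseChange_symm_tmul,
          LinearMap.baseChange_tmul, LinearMap.rTensor_tmul, Submodule.mkQ_apply]
        rw [(Submodule.Quotient.mk_eq_zero F).2 hh'F, TensorProduct.zero_tmul,
          TensorProduct.tmul_zero, smul_zero]
      | add g₁ g₂ h₁ h₂ => rw [TensorProduct.tmul_add, map_add, h₁, h₂, add_zero]
    induction y using TensorProduct.induction_on with
    | zero => simp
    | tmul f g =>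
      rw [LinearMap.rTensor_tmul]
      exact hkill f g
    | add y₁ y₂ h₁ h₂ => rw [map_add, map_add, h₁, h₂, add_zero]

/-- **Specialization of unipotence** over a Dedekind domain with fraction field `K`:
if the generic fibre is unipotent then so is every fibre over a field. -/
theorem isUnipotent_baseChange_of_generic (hK : HopfRep.IsUnipotent K (K ⊗[A] H))
    (k : Type u) [Field k] [Algebra A k] : HopfRep.IsUnipotent k (k ⊗[A] H) := by
  apply isUnipotent_of_forall_mem_fil
  apply forall_exists_mem_fil_baseChange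
  intro c
  obtain ⟨n, hn⟩ := exists_mem_fil_of_isUnipotent hK ((1 : K) ⊗ₜ[A] c)
  exact ⟨n, mem_fil_of_one_tmul_mem n c hn⟩

end dvr

end Groth.Agent.H12Uni
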