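import Mathlib

/-!
helper12: finite-dimensional commutative algebras over an algebraically closed field and their
points.
* `exists_point_of_isMaximal`: every maximal ideal is the kernel of a point.
* `eq_zero_of_forall_point`: in a reduced algebra, an element killed by all points is zero.
* `span_points_eq_top`: the points span the dual space of a reduced algebra.
* `card_points`: the number of points of a reduced algebra is its dimension.
* `point_eq_of_ker_le`: points with comparable kernels are equal.
* `tensor_eq_zero_of_forall_point`: pairs of points separate `A ⊗ B`.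
-/

set_option autoImplicit false
set_option linter.unusedSectionVars false
set_option linter.style.haveILetI false
universe u v w

open TensorProduct

namespace Groth.Agent.H12FE

section
variable {k : Type u} [Field k] [IsAlgClosed k] {A : Type v} [CommRing A] [Algebra k A]
  [Module.Finite k A]

/-- every maximal ideal of a finite algebra over an algebraically closed field is the kernel of a
point. -/
theorem exists_point_of_isMaximal (m : Ideal A) [hm : m.IsMaximal] :
    ∃ χ : A →ₐ[k] k, RingHom.ker (χ : A →+* k) = m := by
  letI : Field (A ⧸ m) := Ideal.Quotient.field m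
  haveI : Module.Finite k (A ⧸ m) :=
    Module.Finite.of_surjective (Ideal.Quotient.mkₐ k m).toLinearMap Ideal.Quotient.mk_surjective
  haveI : Algebra.IsIntegral k (A ⧸ m) := Algebra.IsIntegral.of_finite k (A ⧸ m)
  have hbij : Function.Bijective (algebraMap k (A ⧸ m)) :=
    IsAlgClosed.algebraMap_bijective_of_isIntegral
  let e : k ≃ₐ[k] (A ⧸ m) := AlgEquiv.ofBijective (Algebra.ofId k (A ⧸ m)) hbij
  refine ⟨(e.symm : (A ⧸ m) →ₐ[k] k).comp (Ideal.Quotient.mkₐ k m), ?_⟩
  ext a
  rw [RingHom.mem_ker]
  constructor
  · intro h
    have h' : e.symm (Ideal.Quotient.mk m a) = 0 := h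
    rw [map_eq_zero_iff _ e.symm.injective] at h'
    exact Ideal.Quotient.eq_zero_iff_mem.1 h'
  · intro h
    show e.symm (Ideal.Quotient.mk m a) = 0
    rw [Ideal.Quotient.eq_zero_iff_mem.2 h, map_zero]

/-- points with comparable kernels are equal. -/
theorem point_eq_of_ker_le {k : Type u} [Field k] {A : Type v} [CommRing A] [Algebra k A]
    (χ χ' : A →ₐ[k] k) (h : RingHom.ker (χ : A →+* k) ≤ RingHom.ker (χ' : A →+* k)) : χ = χ' := by
  ext a
  have h1 : a - algebraMap k A (χ a) ∈ RingHom.ker (χ : A →+* k) := by
    rw [RingHom.mem_ker]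
    show χ (a - algebraMap k A (χ a)) = 0
    rw [map_sub, AlgHom.commutes, Algebra.algebraMap_self, RingHom.id_apply, sub_self]
  have h2 := h h1
  rw [RingHom.mem_ker] at h2
  have h3 : χ' (a - algebraMap k A (χ a)) = 0 := h2
  rw [map_sub, AlgHom.commutes, Algebra.algebraMap_self, RingHom.id_apply, sub_eq_zero] at h3
  exact h3.symm

/-- in a reduced finite algebra over an algebraically closed field an element killed by all
points is zero. -/
theorem eq_zero_of_forall_point [IsReduced A] (a : A) (h : ∀ χ : A →ₐ[k] k, χ a = 0) : a = 0 := by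
  haveI : IsArtinianRing A := IsArtinianRing.of_finite k A
  have h1 : a ∈ (⊥ : Ideal A).jacobson := by
    rw [Ideal.jacobson, Ideal.mem_sInf]
    rintro m ⟨-, hm⟩
    haveI := hm
    obtain ⟨χ, hχ⟩ := exists_point_of_isMaximal (k := k) m
    rw [← hχ, RingHom.mem_ker]
    exact h χ
  rw [IsArtinianRing.jacobson_eq_radical] at h1
  have h2 : IsNilpotent a := by
    have : a ∈ nilradical A := h1
    exact this
  exact h2.eq_zero

/-- the points span the dual of a reduced algebra. -/
theorem span_points_eq_top [IsReduced A] :
    Submodule.span k (Set.range (fun χ : A →ₐ[k] k => χ.toLinearMap)) =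
      (⊤ : Submodule k (Module.Dual k A)) := by
  set W : Subspace k (Module.Dual k A) :=
    Submodule.span k (Set.range (fun χ : A →ₐ[k] k => χ.toLinearMap)) with hW
  have h1 : W.dualCoannihilator = ⊥ := by
    rw [eq_bot_iff]
    intro a ha
    rw [Submodule.mem_dualCoannihilator] at ha
    rw [Submodule.mem_bot]
    apply eq_zero_of_forall_point (k := k)
    intro χ
    exact ha χ.toLinearMap (Submodule.subset_span ⟨χ, rfl⟩)
  have h2 := Subspace.dualCoannihilator_dualAnnihilator_eq (W := W)
  rw [h1, Submodule.dualAnnihilator_bot] at h2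
  exact h2.symm

/-- the number of points of a reduced algebra is its dimension. -/
theorem card_points [IsReduced A] : Nat.card (A →ₐ[k] k) = Module.finrank k A := by
  classical
  haveI : Finite (A →ₐ[k] k) := Finite.algHom k A k
  haveI := Fintype.ofFinite (A →ₐ[k] k)
  have hli := linearIndependent_algHom_toLinearMap k A k
  have hsp : ⊤ ≤ Submodule.span k (Set.range (AlgHom.toLinearMap : (A →ₐ[k] k) → A →ₗ[k] k)) :=
    (span_points_eq_top (k := k) (A := A)).ge
  have h := Module.finrank_eq_card_basis (Module.Basis.mk hli hsp)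
  rw [Nat.card_eq_fintype_card, ← h]
  exact Subspace.dual_finrank_eq

end



section More
variable {k : Type u} [Field k] [IsAlgClosed k] {A : Type v} [CommRing A] [Algebra k A]
  [Module.Finite k A]

/-- an element killed by all points is nilpotent. -/
theorem isNilpotent_of_forall_point (a : A) (h : ∀ χ : A →ₐ[k] k, χ a = 0) : IsNilpotent a := by
  haveI : IsArtinianRing A := IsArtinianRing.of_finite k A
  have h1 : a ∈ (⊥ : Ideal A).jacobson := by
    rw [Ideal.jacobson, Ideal.mem_sInf]
    rintro m ⟨-, hm⟩
    haveI := hm
    obtain ⟨χ, hχ⟩ := exists_point_of_isMaximal (k := k) m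
    rw [← hχ, RingHom.mem_ker]
    exact h χ
  rw [IsArtinianRing.jacobson_eq_radical] at h1
  have : a ∈ nilradical A := h1
  exact this

lemma point_apply_eq_zero_of_isNilpotent {k : Type u} [Field k] {A : Type v} [CommRing A]
    [Algebra k A] (χ : A →ₐ[k] k) {a : A} (ha : IsNilpotent a) : χ a = 0 := by
  obtain ⟨n, hn⟩ := ha
  have : χ a ^ n = 0 := by rw [← map_pow, hn, map_zero]
  exact eq_zero_of_pow_eq_zero this

/-- if every maximal ideal is idempotent then the algebra is reduced. -/
theorem isReduced_of_forall_ker_sq
    (h : ∀ χ : A →ₐ[k] k, RingHom.ker (χ : A →+* k) * RingHom.ker (χ : A →+* k) =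
      RingHom.ker (χ : A →+* k)) : IsReduced A := by
  haveI : IsArtinianRing A := IsArtinianRing.of_finite k A
  haveI : IsNoetherianRing A := inferInstance
  constructor
  intro x hx
  -- the annihilator of `x`
  by_contra hx0
  have hJ : Ideal.span {x} ≠ ⊥ := by
    intro h0
    exact hx0 ((Ideal.span_singleton_eq_bot).1 h0)
  have hann : (Submodule.span A {x}).annihilator ≠ ⊤ := by
    intro h1
    have : (1 : A) ∈ (Submodule.span A {x}).annihilator := by rw [h1]; trivial
    rw [Submodule.mem_annihilator_span_singleton] at this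
    exact hx0 (by simpa using this)
  obtain ⟨m, hm, hle⟩ := Ideal.exists_le_maximal _ hann
  haveI := hm
  obtain ⟨χ, hχ⟩ := exists_point_of_isMaximal (k := k) m
  have hidem : IsIdempotentElem m := by
    rw [IsIdempotentElem, ← hχ]
    exact h χ
  obtain ⟨e, he, hme⟩ := (Ideal.isIdempotentElem_iff_of_fg m (IsNoetherian.noetherian m)).1 hidem
  have hxm : x ∈ m := by
    rw [← hχ, RingHom.mem_ker]
    exact point_apply_eq_zero_of_isNilpotent χ hx
  rw [hme] at hxm
  obtain ⟨y, hy⟩ := Ideal.mem_span_singleton'.1 hxm
  have h1 : (1 - e) * x = 0 := by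
    rw [← hy]
    calc (1 - e) * (y * e) = y * (e - e * e) := by ring
      _ = 0 := by rw [he.eq, sub_self, mul_zero]
  have h2 : (1 - e) ∈ (Submodule.span A {x}).annihilator := by
    rw [Submodule.mem_annihilator_span_singleton]
    exact h1
  have h3 : (1 - e) ∈ m := hle h2
  have h4 : e ∈ m := by rw [hme]; exact Ideal.mem_span_singleton_self e
  have h5 : (1 : A) ∈ m := by
    have := m.add_mem h3 h4
    simpa using this
  exact hm.ne_top ((Ideal.eq_top_iff_one m).2 h5)

/-- a reduced finite algebra over an algebraically closed field is étale. -/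
theorem etale_of_isReduced [IsReduced A] : Algebra.Etale k A := by
  haveI : IsArtinianRing A := IsArtinianRing.of_finite k A
  rw [Algebra.Etale.iff_exists_algEquiv_prod]
  letI (m : MaximalSpectrum A) : Field (A ⧸ m.asIdeal) := Ideal.Quotient.field m.asIdeal
  refine ⟨MaximalSpectrum A, inferInstance, fun m => A ⧸ m.asIdeal, inferInstance, inferInstance,
    (IsArtinianRing.equivPi A).restrictScalars k, ?_⟩
  intro m
  haveI : Module.Finite k (A ⧸ m.asIdeal) :=
    Module.Finite.of_surjective (Ideal.Quotient.mkₐ k m.asIdeal).toLinearMap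
      Ideal.Quotient.mk_surjective
  exact ⟨inferInstance, inferInstance⟩

/-- an idempotent which is `1` at a given point and `0` at the other points. -/
theorem exists_idempotent_point (g₀ : A →ₐ[k] k) :
    ∃ e : A, IsIdempotentElem e ∧ g₀ e = 1 ∧ ∀ g : A →ₐ[k] k, g ≠ g₀ → g e = 0 := by
  classical
  have hli := linearIndependent_algHom_toLinearMap k A k
  set W : Subspace k (Module.Dual k A) :=
    Submodule.span k (AlgHom.toLinearMap '' {g : A →ₐ[k] k | g ≠ g₀}) with hW
  have hnot : g₀.toLinearMap ∉ W := hli.notMem_span_image (s := {g : A →ₐ[k] k | g ≠ g₀})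
    (by simp)
  obtain ⟨a, ha, ha0⟩ : ∃ a ∈ W.dualCoannihilator, g₀ a ≠ 0 := by
    by_contra hcon
    push Not at hcon
    apply hnot
    rw [← Subspace.dualCoannihilator_dualAnnihilator_eq (W := W), Submodule.mem_dualAnnihilator]
    exact hcon
  set b : A := (g₀ a)⁻¹ • a with hb
  have hb0 : g₀ b = 1 := by
    rw [hb, map_smul, smul_eq_mul, inv_mul_cancel₀ ha0]
  have hbg : ∀ g : A →ₐ[k] k, g ≠ g₀ → g b = 0 := by
    intro g hg
    rw [hb, map_smul]
    have : g a = 0 := by
      rw [Submodule.mem_dualCoannihilator] at ha
      exact ha g.toLinearMap (Submodule.subset_span ⟨g, hg, rfl⟩)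
    rw [this, smul_zero]
  have hnil : IsNilpotent (b * b - b) := by
    apply isNilpotent_of_forall_point (k := k)
    intro g
    by_cases hg : g = g₀
    · rw [hg, map_sub, map_mul, hb0]; ring
    · rw [map_sub, map_mul, hbg g hg]; ring
  have hker : ∀ x ∈ RingHom.ker (Ideal.Quotient.mk (nilradical A)), IsNilpotent x := by
    intro x hx
    rw [Ideal.mk_ker] at hx
    exact hx
  have hidem : IsIdempotentElem (Ideal.Quotient.mk (nilradical A) b) := by
    rw [IsIdempotentElem, ← map_mul, ← sub_eq_zero, ← map_sub, Ideal.Quotient.eq_zero_iff_mem]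
    exact hnil
  obtain ⟨e, he, hee⟩ := exists_isIdempotentElem_eq_of_ker_isNilpotent
    (Ideal.Quotient.mk (nilradical A)) hker _ ⟨b, rfl⟩ hidem
  have hdiff : IsNilpotent (e - b) := by
    have : e - b ∈ nilradical A := by
      rw [← Ideal.Quotient.eq_zero_iff_mem, map_sub, hee, sub_self]
    exact this
  have hge : ∀ g : A →ₐ[k] k, g e = g b := by
    intro g
    have := point_apply_eq_zero_of_isNilpotent g hdiff
    rw [map_sub, sub_eq_zero] at this
    exact this
  refine ⟨e, he, ?_, ?_⟩
  · rw [hge, hb0]
  · intro g hg
    rw [hge, hbg g hg]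

/-- a functional vanishing on the nilpotent elements is a combination of points. -/
theorem exists_sum_points_of_nilpotent (T : A →ₗ[k] k) (hT : ∀ a : A, IsNilpotent a → T a = 0) :
    T ∈ Submodule.span k (Set.range (AlgHom.toLinearMap : (A →ₐ[k] k) → A →ₗ[k] k)) := by
  set W : Subspace k (Module.Dual k A) :=
    Submodule.span k (Set.range (AlgHom.toLinearMap : (A →ₐ[k] k) → A →ₗ[k] k)) with hW
  rw [← Subspace.dualCoannihilator_dualAnnihilator_eq (W := W), Submodule.mem_dualAnnihilator]
  intro a ha
  apply hT
  apply isNilpotent_of_forall_point (k := k)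
  intro g
  rw [Submodule.mem_dualCoannihilator] at ha
  exact ha g.toLinearMap (Submodule.subset_span ⟨g, rfl⟩)

end More

section Dual
variable {k : Type u} [Field k] {V : Type v} [AddCommGroup V] [Module k V]
  {W : Type w} [AddCommGroup W] [Module k W]

/-- pairs of functionals separate the tensor product of vector spaces. -/
theorem tensor_eq_zero_of_forall_dual (s : V ⊗[k] W)
    (hs : ∀ (ψ : V →ₗ[k] k) (φ : W →ₗ[k] k),
      LinearMap.mul' k k (TensorProduct.map ψ φ s) = 0) : s = 0 := by
  classical
  let bA := Module.Basis.ofVectorSpace k V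
  let bB := Module.Basis.ofVectorSpace k W
  let b := bA.tensorProduct bB
  apply b.ext_elem
  rintro ⟨i, j⟩
  rw [map_zero, Finsupp.zero_apply]
  have := hs (bA.coord i) (bB.coord j)
  have e : ∀ s : V ⊗[k] W, LinearMap.mul' k k (TensorProduct.map (bA.coord i) (bB.coord j) s) =
      b.repr s (i, j) := by
    intro s
    induction s using TensorProduct.induction_on with
    | zero => simp
    | add x y hx hy => simp only [map_add, hx, hy, Finsupp.add_apply]
    | tmul a c =>
      simp [b, Module.Basis.tensorProduct_repr_tmul_apply, mul_comm]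
  rw [← e]; exact this

end Dual

section Tensor
variable {k : Type u} [Field k] [IsAlgClosed k] {A : Type v} [CommRing A] [Algebra k A]
  [Module.Finite k A] [IsReduced A] {B : Type w} [CommRing B] [Algebra k B]
  [Module.Finite k B] [IsReduced B]

/-- pairs of points separate the tensor product of reduced algebras. -/
theorem tensor_eq_zero_of_forall_point (t : A ⊗[k] B)
    (h : ∀ (χ : A →ₐ[k] k) (χ' : B →ₐ[k] k),
      LinearMap.mul' k k (TensorProduct.map χ.toLinearMap χ'.toLinearMap t) = 0) : t = 0 := by
  -- all pairs of functionals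
  have h1 : ∀ (ψ : A →ₗ[k] k) (φ : B →ₗ[k] k),
      LinearMap.mul' k k (TensorProduct.map ψ φ t) = 0 := by
    intro ψ φ
    have hψ : ψ ∈ Submodule.span k (Set.range (fun χ : A →ₐ[k] k => χ.toLinearMap)) := by
      rw [span_points_eq_top]; trivial
    have hφ : φ ∈ Submodule.span k (Set.range (fun χ : B →ₐ[k] k => χ.toLinearMap)) := by
      rw [span_points_eq_top]; trivial
    induction hψ using Submodule.span_induction with
    | mem ψ hψ =>
      obtain ⟨χ, rfl⟩ := hψ
      induction hφ using Submodule.span_induction with
      | mem φ hφ =>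
        obtain ⟨χ', rfl⟩ := hφ
        exact h χ χ'
      | zero => simp
      | add x y _ _ hx hy =>
        rw [TensorProduct.map_add_right, LinearMap.add_apply, map_add, hx, hy, add_zero]
      | smul c x _ hx =>
        rw [TensorProduct.map_smul_right, LinearMap.smul_apply, map_smul, hx, smul_zero]
    | zero => simp
    | add x y _ _ hx hy =>
      rw [TensorProduct.map_add_left, LinearMap.add_apply, map_add, hx, hy, add_zero]
    | smul c x _ hx =>
      rw [TensorProduct.map_smul_left, LinearMap.smul_apply, map_smul, hx, smul_zero]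
  -- separation by functionals: use a basis
  have key : ∀ s : A ⊗[k] B, (∀ (ψ : A →ₗ[k] k) (φ : B →ₗ[k] k),
      LinearMap.mul' k k (TensorProduct.map ψ φ s) = 0) → s = 0 := by
    intro s hs
    let bA := Module.finBasis k A
    let bB := Module.finBasis k B
    let b := bA.tensorProduct bB
    apply b.ext_elem
    rintro ⟨i, j⟩
    rw [map_zero, Finsupp.zero_apply]
    have := hs (bA.coord i) (bB.coord j)
    have e : ∀ s : A ⊗[k] B, LinearMap.mul' k k (TensorProduct.map (bA.coord i) (bB.coord j) s) =
        b.repr s (i, j) := by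
      intro s
      induction s using TensorProduct.induction_on with
      | zero => simp
      | add x y hx hy => simp only [map_add, hx, hy, Finsupp.add_apply]
      | tmul a c =>
        simp [b, Module.Basis.tensorProduct_repr_tmul_apply, mul_comm]
    rw [← e]; exact this
  exact key t h1

end Tensor


section Trace
variable {k : Type u} [Field k] [IsAlgClosed k] {A : Type v} [CommRing A] [Algebra k A]
  [Module.Finite k A]

/-- in a reduced algebra, the idempotent of a point `g` satisfies `e * b = g b • e`. -/
theorem idem_mul_eq [IsReduced A] (g : A →ₐ[k] k) (e : A) (he1 : g e = 1)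
    (he0 : ∀ g' : A →ₐ[k] k, g' ≠ g → g' e = 0) (b : A) : e * b = g b • e := by
  rw [← sub_eq_zero]
  apply eq_zero_of_forall_point (k := k)
  intro g'
  by_cases hg : g' = g
  · rw [hg, map_sub, map_mul, map_smul, he1, smul_eq_mul]; ring
  · rw [map_sub, map_mul, map_smul, he0 g' hg, smul_zero, zero_mul, sub_zero]

/-- the trace of the idempotent of a point of a reduced algebra is `1`. -/
theorem trace_idem_eq_one [IsReduced A] (g : A →ₐ[k] k) (e : A) (he1 : g e = 1)
    (he0 : ∀ g' : A →ₐ[k] k, g' ≠ g → g' e = 0) : Algebra.trace k A e = 1 := by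
  rw [Algebra.trace_apply]
  have h : Algebra.lmul k A e = g.toLinearMap.smulRight e := by
    ext b
    rw [Algebra.coe_lmul_eq_mul, LinearMap.mul_apply', LinearMap.smulRight_apply,
      AlgHom.toLinearMap_apply]
    exact idem_mul_eq g e he1 he0 b
  rw [h, LinearMap.trace_smulRight, AlgHom.toLinearMap_apply, he1]

/-- the trace form of a nonzero reduced finite algebra over an algebraically closed field is
nonzero. -/
theorem trace_ne_zero_of_isReduced [IsReduced A] [Nontrivial A] : Algebra.trace k A ≠ 0 := by
  obtain ⟨m, hm⟩ := Ideal.exists_maximal A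
  haveI := hm
  obtain ⟨g, -⟩ := exists_point_of_isMaximal (k := k) m
  obtain ⟨e, -, he1, he0⟩ := exists_idempotent_point g
  intro h0
  have h1 := trace_idem_eq_one g e he1 he0
  rw [h0, LinearMap.zero_apply] at h1
  exact zero_ne_one h1

end Trace

section TraceEtale
variable {k : Type u} [Field k] {A : Type v} [CommRing A] [Algebra k A]

/-- the trace of `1 ⊗ a` on a base change. -/
theorem trace_baseChange_one_tmul [Module.Finite k A] (K : Type w) [Field K] [Algebra k K]
    (a : A) :
    Algebra.trace K (K ⊗[k] A) ((1 : K) ⊗ₜ[k] a) = algebraMap k K (Algebra.trace k A a) := by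
  rw [Algebra.trace_apply, Algebra.trace_apply, ← LinearMap.trace_baseChange]
  congr 1
  apply TensorProduct.AlgebraTensorModule.ext
  intro x y
  simp

/-- the trace form of a nonzero étale algebra over a field is nonzero. -/
theorem trace_ne_zero_of_etale [Algebra.Etale k A] [Nontrivial A] : Algebra.trace k A ≠ 0 := by
  haveI : Module.Finite k A := Algebra.FormallyUnramified.finite_of_free k A
  intro h0
  let K := AlgebraicClosure k
  haveI : Module.Finite K (K ⊗[k] A) := Module.Finite.base_change k K A
  haveI : IsReduced (K ⊗[k] A) := Algebra.FormallyUnramified.isReduced_of_field K (K ⊗[k] A)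
  haveI : Nontrivial (K ⊗[k] A) :=
    (Algebra.TensorProduct.includeRight_injective (R := k) (A := K) (B := A)
      (FaithfulSMul.algebraMap_injective k K)).nontrivial
  apply trace_ne_zero_of_isReduced (k := K) (A := K ⊗[k] A)
  apply LinearMap.ext
  intro t
  induction t using TensorProduct.induction_on with
  | zero => simp
  | add x y hx hy => rw [map_add, hx, hy]; simp
  | tmul c a =>
    have h1 : c ⊗ₜ[k] a = c • ((1 : K) ⊗ₜ[k] a) := by
      rw [TensorProduct.smul_tmul', smul_eq_mul, mul_one]
    rw [h1, map_smul, trace_baseChange_one_tmul, h0, LinearMap.zero_apply, map_zero, smul_zero,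
      LinearMap.zero_apply]

end TraceEtale

end Groth.Agent.H12FE
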