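import Groth.Agent.Lib.helper12.Points
import Groth.Agent.Lib.helper12.FinEtale

/-!
helper12: right translation by a point on the regular comodule of a commutative Hopf algebra is an
algebra automorphism (general universes): `act_regular_mul`, `act_inv_act`, `act_act_inv`,
`ker_point_sq_of_augIdeal_sq` (if the augmentation ideal is idempotent so is every kernel of a point),
`isReduced_of_augIdeal_sq` (finite over an algebraically closed field).
-/

set_option autoImplicit false
set_option linter.unusedSectionVars false
set_option linter.style.haveILetI false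
universe u v

open TensorProduct

namespace Groth.Agent.H12Transl

open Groth.Agent.H12Comod Groth.Agent.H12Pts

variable {k : Type u} [Field k] {A : Type v} [CommRing A] [HopfAlgebra k A]

lemma T_alg_mul (g : A →ₐ[k] k) (s t : A ⊗[k] A) :
    T A g.toLinearMap (s * t) = T A g.toLinearMap s * T A g.toLinearMap t := by
  induction s using TensorProduct.induction_on with
  | zero => simp
  | add x y hx hy => simp only [add_mul, map_add, hx, hy]
  | tmul x y =>
    induction t using TensorProduct.induction_on with
    | zero => simp
    | add x' y' hx hy => simp only [mul_add, map_add, hx, hy]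
    | tmul x' y' =>
      rw [Algebra.TensorProduct.tmul_mul_tmul, T_tmul, T_tmul, T_tmul]
      simp only [AlgHom.toLinearMap_apply, map_mul, smul_mul_smul_comm]

/-- right translation by a point is multiplicative -/
lemma act_regular_mul (g : A →ₐ[k] k) (a b : A) :
    HopfRep.Comod.act k A A g (a * b) =
      HopfRep.Comod.act k A A g a * HopfRep.Comod.act k A A g b := by
  rw [act_eq, act_eq, act_eq]
  show T A g.toLinearMap (CoalgebraStruct.comul (R := k) (a * b)) =
    T A g.toLinearMap (CoalgebraStruct.comul (R := k) a) *
      T A g.toLinearMap (CoalgebraStruct.comul (R := k) b)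
  rw [Bialgebra.comul_mul, T_alg_mul]

lemma act_regular_one (g : A →ₐ[k] k) : HopfRep.Comod.act k A A g (1 : A) = 1 := by
  rw [act_eq]
  show T A g.toLinearMap (CoalgebraStruct.comul (R := k) (1 : A)) = 1
  rw [Bialgebra.comul_one, Algebra.TensorProduct.one_def, T_tmul]
  simp

lemma act_inv_act (g : A →ₐ[k] k) (a : A) :
    HopfRep.Comod.act k A A g
      (HopfRep.Comod.act k A A ((WithConv.toConv g)⁻¹).ofConv a) = a := by
  have h := act_mul (k := k) (A := A) (V := A) (WithConv.toConv g) (WithConv.toConv g)⁻¹
  rw [mul_inv_cancel, act_one] at h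
  have h2 := LinearMap.congr_fun h a
  rw [Module.End.mul_apply, Module.End.one_apply] at h2
  exact h2.symm

lemma act_act_inv (g : A →ₐ[k] k) (a : A) :
    HopfRep.Comod.act k A A ((WithConv.toConv g)⁻¹).ofConv
      (HopfRep.Comod.act k A A g a) = a := by
  have h := act_mul (k := k) (A := A) (V := A) (WithConv.toConv g)⁻¹ (WithConv.toConv g)
  rw [inv_mul_cancel, act_one] at h
  have h2 := LinearMap.congr_fun h a
  rw [Module.End.mul_apply, Module.End.one_apply] at h2
  exact h2.symm

/-- `g ∘ (translation by g⁻¹) = counit`. -/
lemma point_act_inv (g : A →ₐ[k] k) (a : A) :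
    g (HopfRep.Comod.act k A A ((WithConv.toConv g)⁻¹).ofConv a) =
      CoalgebraStruct.counit (R := k) a := by
  have h2 := counit_act_regular g (HopfRep.Comod.act k A A ((WithConv.toConv g)⁻¹).ofConv a)
  rw [act_inv_act] at h2
  exact h2.symm

/-- if the augmentation ideal is idempotent, so is the kernel of every point. -/
theorem ker_point_sq_of_augIdeal_sq
    (h : RingHom.ker (Bialgebra.counitAlgHom k A : A →+* k) *
      RingHom.ker (Bialgebra.counitAlgHom k A : A →+* k) =
      RingHom.ker (Bialgebra.counitAlgHom k A : A →+* k)) (g : A →ₐ[k] k) :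
    RingHom.ker (g : A →+* k) * RingHom.ker (g : A →+* k) = RingHom.ker (g : A →+* k) := by
  apply le_antisymm Ideal.mul_le_right
  intro a ha
  rw [RingHom.mem_ker] at ha
  have h1 : HopfRep.Comod.act k A A g a ∈
      RingHom.ker (Bialgebra.counitAlgHom k A : A →+* k) := by
    rw [RingHom.mem_ker]
    show CoalgebraStruct.counit (R := k) (HopfRep.Comod.act k A A g a) = 0
    rw [counit_act_regular]
    exact ha
  rw [← h] at h1
  have key : ∀ z ∈ RingHom.ker (Bialgebra.counitAlgHom k A : A →+* k) *
      RingHom.ker (Bialgebra.counitAlgHom k A : A →+* k),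
      HopfRep.Comod.act k A A ((WithConv.toConv g)⁻¹).ofConv z ∈
        RingHom.ker (g : A →+* k) * RingHom.ker (g : A →+* k) := by
    intro z hz
    refine Submodule.mul_induction_on hz ?_ ?_
    · intro u hu v hv
      rw [act_regular_mul]
      have hmem : ∀ w ∈ RingHom.ker (Bialgebra.counitAlgHom k A : A →+* k),
          HopfRep.Comod.act k A A ((WithConv.toConv g)⁻¹).ofConv w ∈ RingHom.ker (g : A →+* k) := by
        intro w hw
        rw [RingHom.mem_ker] at hw ⊢
        show g _ = 0
        rw [point_act_inv]
        exact hw
      exact Ideal.mul_mem_mul (hmem u hu) (hmem v hv)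
    · intro x y hx hy
      rw [map_add]
      exact Ideal.add_mem _ hx hy
  have := key _ h1
  rw [act_act_inv] at this
  exact this

/-- a finite commutative Hopf algebra over an algebraically closed field with idempotent
augmentation ideal is reduced. -/
theorem isReduced_of_augIdeal_sq {k : Type u} [Field k] [IsAlgClosed k] {A : Type v} [CommRing A]
    [HopfAlgebra k A] [Module.Finite k A]
    (h : RingHom.ker (Bialgebra.counitAlgHom k A : A →+* k) *
      RingHom.ker (Bialgebra.counitAlgHom k A : A →+* k) =
      RingHom.ker (Bialgebra.counitAlgHom k A : A →+* k)) : IsReduced A :=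
  H12FE.isReduced_of_forall_ker_sq (k := k) (ker_point_sq_of_augIdeal_sq h)

end Groth.Agent.H12Transl
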