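import Groth.Agent.Lib.helper12.Coeff
import Mathlib.LinearAlgebra.Dual.Basis

/-!
# Matrix coefficients and matrix comodules (helper12)

For a comodule `V` over a coalgebra `C` over a field with a finite basis `b`, the matrix
coefficients `mc b i j` (`ρ (b j) = Σ i, b i ⊗ mc b i j`) form a multiplicative matrix.  Conversely
a multiplicative matrix and a basis define a comodule structure (`matComod`).  For bialgebras:
coordinates for Hochschild 1-cocycles and 1-coboundaries of a matrix comodule.
-/

set_option autoImplicit false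
set_option linter.unusedSectionVars false
universe u v w

open TensorProduct

namespace Groth.Agent.H12Mat

open Groth.Agent.H12Coeff Groth.Agent.H12Comod

section Coalg
variable {k : Type u} [Field k] {C : Type v} [AddCommGroup C] [Module k C] [Coalgebra k C]
  {ι : Type*} [Fintype ι] [DecidableEq ι]

/-- multiplicative matrices -/
structure IsMult (c : ι → ι → C) : Prop where
  comul : ∀ i j, CoalgebraStruct.comul (R := k) (c i j) = ∑ l, c i l ⊗ₜ[k] c l j
  counit : ∀ i j, CoalgebraStruct.counit (R := k) (c i j) = if i = j then 1 else 0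

section mc
variable {V : Type w} [AddCommGroup V] [Module k V] [HopfRep.Comod k C V] (b : Module.Basis ι k V)

lemma sum_basis_Lc (t : V ⊗[k] C) : t = ∑ i, b i ⊗ₜ[k] Lc C (b.coord i) t := by
  induction t using TensorProduct.induction_on with
  | zero => simp only [map_zero, TensorProduct.tmul_zero, Finset.sum_const_zero]
  | add x y hx hy =>
    have : ∀ i, b i ⊗ₜ[k] Lc C (b.coord i) (x + y) =
        b i ⊗ₜ[k] Lc C (b.coord i) x + b i ⊗ₜ[k] Lc C (b.coord i) y := by
      intro i; rw [map_add, TensorProduct.tmul_add]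
    simp only [this, Finset.sum_add_distrib]
    rw [← hx, ← hy]
  | tmul v c =>
    simp only [Lc_tmul, Module.Basis.coord_apply, TensorProduct.tmul_smul]
    have : ∀ i, (b.repr v) i • b i ⊗ₜ[k] c = ((b.repr v) i • b i) ⊗ₜ[k] c := fun i =>
      (TensorProduct.smul_tmul' _ _ _)
    simp only [this]
    rw [← TensorProduct.sum_tmul, b.sum_repr]

/-- matrix coefficients -/
noncomputable def mc (i j : ι) : C := coef (C := C) (b.coord i) (b j)

lemma coact_basis (j : ι) :
    HopfRep.Comod.coact (k := k) (A := C) (b j) = ∑ i, b i ⊗ₜ[k] mc (C := C) b i j := by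
  conv_lhs => rw [sum_basis_Lc b (HopfRep.Comod.coact (k := k) (A := C) (b j))]
  rfl

lemma comul_mc (i j : ι) :
    CoalgebraStruct.comul (R := k) (mc (C := C) b i j) =
      ∑ l, mc (C := C) b i l ⊗ₜ[k] mc (C := C) b l j := by
  have h := LinearMap.congr_fun (coef_isComodHom (C := C) (b.coord i)) (b j)
  simp only [LinearMap.comp_apply] at h
  rw [coact_basis, map_sum] at h
  simp only [LinearMap.rTensor_tmul] at h
  exact h

lemma counit_mc (i j : ι) :
    CoalgebraStruct.counit (R := k) (mc (C := C) b i j) = if i = j then 1 else 0 := by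
  rw [mc, counit_coef, Module.Basis.coord_apply, Module.Basis.repr_self, Finsupp.single_apply]
  simp only [eq_comm]

theorem isMult_mc : IsMult (k := k) (mc (C := C) b) := ⟨comul_mc b, counit_mc b⟩

end mc

section matComod
variable {U : Type w} [AddCommGroup U] [Module k U]

/-- the coordinate map `y ↦ Σ i, b i ⊗ y i` -/
noncomputable def vec (b : Module.Basis ι k U) : (ι → C) →ₗ[k] U ⊗[k] C :=
  ∑ i, (TensorProduct.mk k U C (b i)) ∘ₗ (LinearMap.proj i)

lemma vec_apply (b : Module.Basis ι k U) (y : ι → C) : vec b y = ∑ i, b i ⊗ₜ[k] y i := by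
  simp [vec, LinearMap.sum_apply]

lemma Lc_vec (b : Module.Basis ι k U) (y : ι → C) (i : ι) : Lc C (b.coord i) (vec b y) = y i := by
  rw [vec_apply, map_sum]
  simp only [Lc_tmul, Module.Basis.coord_apply, Module.Basis.repr_self, Finsupp.single_apply]
  rw [Finset.sum_eq_single i]
  · simp
  · intro j _ hj
    rw [if_neg hj, zero_smul]
  · intro h; exact absurd (Finset.mem_univ i) h

lemma vec_injective (b : Module.Basis ι k U) : Function.Injective (vec (C := C) b) := by
  intro y y' h
  funext i
  rw [← Lc_vec b y i, ← Lc_vec b y' i, h]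

/-- the comodule structure on `U` with coaction matrix `c` in the basis `b` -/
@[reducible] noncomputable def matComod (b : Module.Basis ι k U) (c : ι → ι → C)
    (hc : IsMult (k := k) c) : HopfRep.Comod k C U where
  coact := b.constr k (fun j => ∑ i, b i ⊗ₜ[k] c i j)
  coassoc := by
    apply b.ext
    intro j
    simp only [LinearMap.comp_apply, LinearEquiv.coe_coe]
    rw [b.constr_basis, map_sum, map_sum, map_sum]
    simp only [LinearMap.rTensor_tmul, LinearMap.lTensor_tmul, b.constr_basis,
      TensorProduct.sum_tmul, map_sum, TensorProduct.assoc_tmul, hc.comul,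
      TensorProduct.tmul_sum]
    rw [Finset.sum_comm]
  counit_comp := by
    apply b.ext
    intro j
    simp only [LinearMap.comp_apply, LinearMap.flip_apply, TensorProduct.mk_apply]
    rw [b.constr_basis, map_sum]
    simp only [LinearMap.lTensor_tmul, hc.counit]
    rw [Finset.sum_eq_single j]
    · simp
    · intro i _ hi
      rw [if_neg hi, TensorProduct.tmul_zero]
    · intro h; exact absurd (Finset.mem_univ j) h

lemma matComod_coact_basis (b : Module.Basis ι k U) (c : ι → ι → C) (hc : IsMult (k := k) c)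
    (j : ι) : (matComod b c hc).coact (b j) = ∑ i, b i ⊗ₜ[k] c i j :=
  b.constr_basis k _ j

lemma matComod_coact (b : Module.Basis ι k U) (c : ι → ι → C) (hc : IsMult (k := k) c)
    (x : U) : (matComod b c hc).coact x = vec b (fun i => ∑ j, b.repr x j • c i j) := by
  conv_lhs => rw [← b.sum_repr x]
  rw [map_sum, vec_apply]
  simp only [map_smul, matComod_coact_basis, Finset.smul_sum, TensorProduct.tmul_sum,
    TensorProduct.tmul_smul]
  rw [Finset.sum_comm]

end matComod

end Coalg

section Bialg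
variable {k : Type u} [Field k] {A : Type v} [Ring A] [Bialgebra k A]
  {ι : Type*} [Fintype ι] [DecidableEq ι]
  {U : Type v} [AddCommGroup U] [Module k U]

/-- a vector of elements of `A` satisfying the cocycle identity gives a Hochschild 1-cocycle of the
matrix comodule -/
theorem vec_mem_cocycles (b : Module.Basis ι k U) (c : ι → ι → A) (hc : IsMult (k := k) c)
    (y : ι → A)
    (hy : ∀ l, CoalgebraStruct.comul (R := k) (y l) =
      ∑ i, c l i ⊗ₜ[k] y i + y l ⊗ₜ[k] (1 : A)) :
    letI := matComod b c hc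
    vec b y ∈ Hoch.cocycles k A U 1 := by
  letI := matComod b c hc
  show Hoch.d k A U 1 (vec b y) = 0
  rw [Hoch.d_succ, Hoch.d_zero, vec_apply]
  simp only [LinearMap.add_apply, LinearMap.smul_apply, map_sum]
  have h1 : ∀ i, ((HopfRep.Comod.coact (k := k) (A := A) : U →ₗ[k] U ⊗[k] A) -
      (TensorProduct.mk k U A).flip 1).rTensor A (b i ⊗ₜ[k] y i) =
      ∑ l, (TensorProduct.assoc k U A A).symm (b l ⊗ₜ[k] (c l i ⊗ₜ[k] y i)) -
        (TensorProduct.assoc k U A A).symm (b i ⊗ₜ[k] ((1 : A) ⊗ₜ[k] y i)) := by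
    intro i
    rw [LinearMap.rTensor_tmul, LinearMap.sub_apply, TensorProduct.sub_tmul]
    have : HopfRep.Comod.coact (k := k) (A := A) (b i) = ∑ l, b l ⊗ₜ[k] c l i :=
      matComod_coact_basis b c hc i
    rw [this, TensorProduct.sum_tmul]
    simp only [TensorProduct.assoc_symm_tmul, LinearMap.flip_apply, TensorProduct.mk_apply]
  have h2 : ∀ i, Hoch.tail k A U (b i ⊗ₜ[k] y i) =
      ∑ l, (TensorProduct.assoc k U A A).symm (b i ⊗ₜ[k] (c i l ⊗ₜ[k] y l)) -
        (TensorProduct.assoc k U A A).symm (b i ⊗ₜ[k] ((1 : A) ⊗ₜ[k] y i)) := by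
    intro i
    rw [Hoch.tail_tmul, hy i]
    simp only [TensorProduct.tmul_sub, TensorProduct.tmul_add, TensorProduct.tmul_sum, map_sub,
      map_add, map_sum]
    abel
  have e : ((-1 : k) ^ (0 + 1)) = -1 := by norm_num
  simp only [h1, h2, e, neg_smul, one_smul]
  simp only [Finset.sum_add_distrib, Finset.sum_sub_distrib, Finset.sum_neg_distrib]
  rw [Finset.sum_comm]
  abel

/-- coordinates of a 1-coboundary of a matrix comodule -/
theorem exists_of_vec_mem_coboundaries (b : Module.Basis ι k U) (c : ι → ι → A)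
    (hc : IsMult (k := k) c) (y : ι → A)
    (hy : letI := matComod b c hc; vec b y ∈ Hoch.coboundaries k A U 1) :
    ∃ x : ι → k, ∀ i, y i = ∑ j, x j • c i j - x i • (1 : A) := by
  letI := matComod b c hc
  obtain ⟨x, hx⟩ := hy
  refine ⟨fun j => b.repr x j, ?_⟩
  rw [Hoch.d_zero_apply] at hx
  have h1 : HopfRep.Comod.coact (k := k) (A := A) x = vec b (fun i => ∑ j, b.repr x j • c i j) :=
    matComod_coact b c hc x
  have h2 : x ⊗ₜ[k] (1 : A) = vec b (fun i => b.repr x i • (1 : A)) := by
    conv_lhs => rw [← b.sum_repr x]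
    rw [vec_apply, TensorProduct.sum_tmul]
    simp only [TensorProduct.smul_tmul, TensorProduct.tmul_smul]
  rw [h1, h2, ← map_sub] at hx
  have := vec_injective b hx
  intro i
  rw [← this]
  rfl

end Bialg

section Bialg2
variable {k : Type u} [Field k] {A : Type v} [Ring A] [Bialgebra k A]
  {ι : Type*} [Fintype ι] [DecidableEq ι]
  {U : Type v} [AddCommGroup U] [Module k U] [HopfRep.Comod k A U]

/-- the differential `d¹` on a 1-cochain given in coordinates, for any comodule whose coaction
has matrix `c` in the basis `b` -/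
theorem d1_vec (b : Module.Basis ι k U) (c : ι → ι → A)
    (hb : ∀ j, HopfRep.Comod.coact (k := k) (A := A) (b j) = ∑ i, b i ⊗ₜ[k] c i j) (y : ι → A) :
    Hoch.d k A U 1 (vec b y) = (TensorProduct.assoc k U A A).symm
      (vec (C := A ⊗[k] A) b (fun l => ∑ i, c l i ⊗ₜ[k] y i -
        CoalgebraStruct.comul (R := k) (y l) + y l ⊗ₜ[k] (1 : A))) := by
  rw [Hoch.d_succ, Hoch.d_zero, vec_apply, vec_apply]
  simp only [LinearMap.add_apply, LinearMap.smul_apply, map_sum]
  have h1 : ∀ i, ((HopfRep.Comod.coact (k := k) (A := A) : U →ₗ[k] U ⊗[k] A) -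
      (TensorProduct.mk k U A).flip 1).rTensor A (b i ⊗ₜ[k] y i) =
      ∑ l, (TensorProduct.assoc k U A A).symm (b l ⊗ₜ[k] (c l i ⊗ₜ[k] y i)) -
        (TensorProduct.assoc k U A A).symm (b i ⊗ₜ[k] ((1 : A) ⊗ₜ[k] y i)) := by
    intro i
    rw [LinearMap.rTensor_tmul, LinearMap.sub_apply, TensorProduct.sub_tmul, hb i,
      TensorProduct.sum_tmul]
    simp only [TensorProduct.assoc_symm_tmul, LinearMap.flip_apply, TensorProduct.mk_apply]
  have h2 : ∀ i, Hoch.tail k A U (b i ⊗ₜ[k] y i) =
      (TensorProduct.assoc k U A A).symm (b i ⊗ₜ[k] CoalgebraStruct.comul (R := k) (y i)) -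
        (TensorProduct.assoc k U A A).symm (b i ⊗ₜ[k] (y i ⊗ₜ[k] (1 : A))) -
        (TensorProduct.assoc k U A A).symm (b i ⊗ₜ[k] ((1 : A) ⊗ₜ[k] y i)) := by
    intro i
    rw [Hoch.tail_tmul]
    simp only [TensorProduct.tmul_sub, map_sub]
  have e : ((-1 : k) ^ (0 + 1)) = -1 := by norm_num
  simp only [h1, h2, e, neg_smul, one_smul]
  simp only [TensorProduct.tmul_add, TensorProduct.tmul_sub, TensorProduct.tmul_sum, map_add,
    map_sub, map_sum, Finset.sum_add_distrib, Finset.sum_sub_distrib, Finset.sum_neg_distrib]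
  rw [Finset.sum_comm]
  abel

/-- the cocycle identity in coordinates -/
theorem comul_of_vec_mem_cocycles (b : Module.Basis ι k U) (c : ι → ι → A)
    (hb : ∀ j, HopfRep.Comod.coact (k := k) (A := A) (b j) = ∑ i, b i ⊗ₜ[k] c i j) (y : ι → A)
    (hy : vec b y ∈ Hoch.cocycles k A U 1) (l : ι) :
    CoalgebraStruct.comul (R := k) (y l) = ∑ i, c l i ⊗ₜ[k] y i + y l ⊗ₜ[k] (1 : A) := by
  have h : Hoch.d k A U 1 (vec b y) = 0 := hy
  rw [d1_vec b c hb y] at h
  have h2 := (LinearEquiv.map_eq_zero_iff _).1 h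
  have h3 : (fun l => ∑ i, c l i ⊗ₜ[k] y i -
        CoalgebraStruct.comul (R := k) (y l) + y l ⊗ₜ[k] (1 : A)) = 0 :=
    vec_injective (C := A ⊗[k] A) b (by rw [h2, map_zero])
  have h4 := congrFun h3 l
  simp only [Pi.zero_apply] at h4
  have h5 : CoalgebraStruct.comul (R := k) (y l) =
      (∑ i, c l i ⊗ₜ[k] y i - CoalgebraStruct.comul (R := k) (y l) + y l ⊗ₜ[k] (1 : A)) +
        CoalgebraStruct.comul (R := k) (y l) - 0 := by rw [h4]; abel
  rw [h5]
  abel

/-- every element of `U ⊗ A` is a coordinate vector -/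
theorem exists_vec_eq (b : Module.Basis ι k U) (t : U ⊗[k] A) : ∃ y : ι → A, vec b y = t :=
  ⟨fun i => Lc A (b.coord i) t, by rw [vec_apply]; exact (sum_basis_Lc b t).symm⟩

end Bialg2

end Groth.Agent.H12Mat
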