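import Mathlib.Order.CompactlyGenerated.Basic
import Mathlib.Tactic

/-! helper12: a variant of `exists_sSupIndep_disjoint_sSup_atoms` where the "atoms" are taken from
a prescribed family `T`, simple relative to a class `Q` of elements closed under sups. -/

set_option autoImplicit false

namespace Groth.Agent.H12Lattice

open Set

theorem exists_indep_compl {α : Type*} [CompleteLattice α] [IsModularLattice α]
    [IsCompactlyGenerated α] (T : Set α) (Q : α → Prop)
    (hQsSup : ∀ s : Set α, (∀ x ∈ s, Q x) → Q (sSup s))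
    (hQsup : ∀ x y, Q x → Q y → Q (x ⊔ y))
    (hQT : ∀ t ∈ T, Q t) (hatom : ∀ t ∈ T, ∀ x, Q x → t ⊓ x = ⊥ ∨ t ≤ x)
    (hsup : sSup T = ⊤) (b : α) (hb : Q b) :
    ∃ s : Set α, s ⊆ T ∧ sSupIndep s ∧ IsCompl b (sSup s) := by
  have zorn := zorn_subset
    (S := {s : Set α | sSupIndep s ∧ Disjoint b (sSup s) ∧ s ⊆ T})
    fun c hc1 hc2 =>
      ⟨⋃₀ c,
        ⟨iSupIndep_sUnion_of_directed hc2.directedOn fun s hs => (hc1 hs).1, ?_,
          fun a ⟨s, sc, as⟩ => (hc1 sc).2.2 as⟩,
        fun _ => Set.subset_sUnion_of_mem⟩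
  swap
  · rw [sSup_sUnion, ← sSup_image, DirectedOn.disjoint_sSup_right]
    · rintro _ ⟨s, hs, rfl⟩
      exact (hc1 hs).2.1
    · rw [directedOn_image]
      exact hc2.directedOn.mono @fun s t => sSup_le_sSup
  simp_rw [maximal_subset_iff] at zorn
  obtain ⟨s, ⟨s_ind, b_inf_Sup_s, s_sub⟩, s_max⟩ := zorn
  refine ⟨s, s_sub, s_ind, b_inf_Sup_s, ?_⟩
  rw [codisjoint_iff, eq_top_iff, ← hsup, sSup_le_iff]
  intro a ha
  have hQx : Q (b ⊔ sSup s) := hQsup _ _ hb (hQsSup s fun x hx => hQT x (s_sub hx))
  rcases hatom a ha _ hQx with con | hle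
  · refine (le_sSup ?_).trans le_sup_right
    rw [← disjoint_iff] at con
    have a_dis_Sup_s : Disjoint a (sSup s) := con.mono_right le_sup_right
    rw [s_max ⟨fun x hx => ?_, ?_, fun x hx => ?_⟩ Set.subset_union_left]
    · exact Set.mem_union_right _ (Set.mem_singleton _)
    · rw [sSup_union, sSup_singleton]
      exact b_inf_Sup_s.disjoint_sup_right_of_disjoint_sup_left con.symm
    · rw [Set.mem_union, Set.mem_singleton_iff] at hx
      obtain rfl | xa := eq_or_ne x a
      · simp only [Set.mem_singleton, Set.insert_sdiff_of_mem, Set.union_singleton]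
        exact con.mono_right ((sSup_le_sSup Set.sdiff_subset).trans le_sup_right)
      · have h : (s ∪ {a}) \ {x} = s \ {x} ∪ {a} := by
          simp only [Set.union_singleton]
          rw [Set.insert_sdiff_of_notMem]
          rw [Set.mem_singleton_iff]
          exact Ne.symm xa
        rw [h, sSup_union, sSup_singleton]
        apply
          (s_ind (hx.resolve_right xa)).disjoint_sup_right_of_disjoint_sup_left
            (a_dis_Sup_s.mono_right _).symm
        rw [← sSup_insert, Set.insert_sdiff_singleton, Set.insert_eq_of_mem (hx.resolve_right xa)]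
    · rw [Set.mem_union, Set.mem_singleton_iff] at hx
      obtain hx | rfl := hx
      · exact s_sub hx
      · exact ha
  · exact hle

end Groth.Agent.H12Lattice
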