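import Groth.Prelude.Def_HopfRep
import Groth.Prelude.Def_Hoch
import Groth.Prelude.Def_ComodSub
import Groth.Agent.Lib.helper12.Comod
import Groth.Agent.Lib.helper12.SemisimpleLattice
import Mathlib.LinearAlgebra.TensorProduct.Basis
import Mathlib.LinearAlgebra.Basis.VectorSpace
import Mathlib.LinearAlgebra.FiniteDimensional.Defs
import Mathlib.LinearAlgebra.FiniteDimensional.Lemmas
import Mathlib.Tactic

/-!
Coefficient spaces of comodules over a coalgebra over a field (helper12).
-/

set_option autoImplicit false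
set_option linter.unusedSectionVars false
universe u v w w'

open TensorProduct

namespace Groth.Agent.H12Coeff

open Groth.Agent.H12Comod

/-! ### Linear algebra over a field -/
section LinAlg

variable {k : Type u} [Field k] {M : Type w} {N : Type w'} [AddCommGroup M] [Module k M]
  [AddCommGroup N] [Module k N]

/-- contraction of the first tensor factor against a functional -/
noncomputable def Lc (N : Type w') [AddCommGroup N] [Module k N] (φ : M →ₗ[k] k) :
    M ⊗[k] N →ₗ[k] N :=
  (TensorProduct.lid k N).toLinearMap ∘ₗ φ.rTensor N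

@[simp] lemma Lc_tmul (φ : M →ₗ[k] k) (m : M) (n : N) : Lc N φ (m ⊗ₜ[k] n) = φ m • n := by
  simp [Lc]

/-- contraction of the second tensor factor against a functional -/
noncomputable def Rc (M : Type w) [AddCommGroup M] [Module k M] (ψ : N →ₗ[k] k) :
    M ⊗[k] N →ₗ[k] M :=
  (TensorProduct.rid k M).toLinearMap ∘ₗ ψ.lTensor M

@[simp] lemma Rc_tmul (ψ : N →ₗ[k] k) (m : M) (n : N) : Rc M ψ (m ⊗ₜ[k] n) = ψ n • m := by
  simp [Rc]

theorem mem_range_lTensor_iff (X : Submodule k N) (t : M ⊗[k] N) :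
    t ∈ LinearMap.range (X.subtype.lTensor M) ↔ ∀ φ : M →ₗ[k] k, Lc N φ t ∈ X := by
  classical
  constructor
  · rintro ⟨y, rfl⟩ φ
    induction y using TensorProduct.induction_on with
    | zero => simp
    | tmul m x => simpa using X.smul_mem _ x.2
    | add y₁ y₂ h₁ h₂ => rw [map_add, map_add]; exact X.add_mem h₁ h₂
  · intro h
    set b := Module.Basis.ofVectorSpace k M with hb
    let e := TensorProduct.equivFinsuppOfBasisLeft (N := N) b
    have hsum : t = (e t).sum fun i n => b i ⊗ₜ[k] n := by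
      rw [← TensorProduct.equivFinsuppOfBasisLeft_symm_apply]
      exact (e.symm_apply_apply _).symm
    have hcoord : ∀ i, e t i = Lc N (b.coord i) t := by
      intro i
      rw [TensorProduct.equivFinsuppOfBasisLeft_apply]; rfl
    rw [hsum, Finsupp.sum]
    refine Submodule.sum_mem _ fun i _ => ?_
    exact ⟨b i ⊗ₜ[k] (⟨e t i, by rw [hcoord]; exact h _⟩ : X), by simp⟩

theorem mem_range_rTensor_iff (X : Submodule k M) (t : M ⊗[k] N) :
    t ∈ LinearMap.range (X.subtype.rTensor N) ↔ ∀ ψ : N →ₗ[k] k, Rc M ψ t ∈ X := by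
  classical
  constructor
  · rintro ⟨y, rfl⟩ ψ
    induction y using TensorProduct.induction_on with
    | zero => simp
    | tmul x n => simpa using X.smul_mem _ x.2
    | add y₁ y₂ h₁ h₂ => rw [map_add, map_add]; exact X.add_mem h₁ h₂
  · intro h
    set b := Module.Basis.ofVectorSpace k N with hb
    let e := TensorProduct.equivFinsuppOfBasisRight (M := M) b
    have hsum : t = (e t).sum fun i m => m ⊗ₜ[k] b i := by
      rw [← TensorProduct.equivFinsuppOfBasisRight_symm_apply]
      exact (e.symm_apply_apply _).symm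
    have hcoord : ∀ i, e t i = Rc M (b.coord i) t := by
      intro i
      rw [TensorProduct.equivFinsuppOfBasisRight_apply]; rfl
    rw [hsum, Finsupp.sum]
    refine Submodule.sum_mem _ fun i _ => ?_
    exact ⟨(⟨e t i, by rw [hcoord]; exact h _⟩ : X) ⊗ₜ[k] b i, by simp⟩

lemma Lc_rTensor {M' : Type*} [AddCommGroup M'] [Module k M'] (f : M' →ₗ[k] M) (φ : M →ₗ[k] k)
    (y : M' ⊗[k] N) : Lc N φ (f.rTensor N y) = Lc N (φ ∘ₗ f) y := by
  induction y using TensorProduct.induction_on with
  | zero => simp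
  | tmul m n => simp
  | add y₁ y₂ h₁ h₂ => simp only [map_add, h₁, h₂]

lemma Rc_lTensor {N' : Type*} [AddCommGroup N'] [Module k N'] (g : N' →ₗ[k] N) (ψ : N →ₗ[k] k)
    (y : M ⊗[k] N') : Rc M ψ (g.lTensor M y) = Rc M (ψ ∘ₗ g) y := by
  induction y using TensorProduct.induction_on with
  | zero => simp
  | tmul m n => simp
  | add y₁ y₂ h₁ h₂ => simp only [map_add, h₁, h₂]

/-- every functional on a subspace extends -/
lemma exists_extend_functional (X : Submodule k M) (φ : X →ₗ[k] k) :
    ∃ φ' : M →ₗ[k] k, φ' ∘ₗ X.subtype = φ := LinearMap.exists_extend φ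

theorem mem_range_map_iff (X : Submodule k M) (Y : Submodule k N) (t : M ⊗[k] N) :
    t ∈ LinearMap.range (TensorProduct.map X.subtype Y.subtype) ↔
      t ∈ LinearMap.range (X.subtype.rTensor N) ∧ t ∈ LinearMap.range (Y.subtype.lTensor M) := by
  constructor
  · rintro ⟨y, rfl⟩
    refine ⟨⟨Y.subtype.lTensor X y, ?_⟩, ⟨X.subtype.rTensor Y y, ?_⟩⟩
    · rw [← LinearMap.comp_apply, LinearMap.rTensor_comp_lTensor]
    · rw [← LinearMap.comp_apply, LinearMap.lTensor_comp_rTensor]
  · rintro ⟨⟨y, rfl⟩, h2⟩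
    have hy : y ∈ LinearMap.range (Y.subtype.lTensor X) := by
      rw [mem_range_lTensor_iff]
      intro φ
      obtain ⟨φ', rfl⟩ := exists_extend_functional X φ
      rw [← Lc_rTensor]
      exact (mem_range_lTensor_iff Y _).1 h2 φ'
    obtain ⟨z, rfl⟩ := hy
    exact ⟨z, by rw [← LinearMap.comp_apply, LinearMap.rTensor_comp_lTensor]⟩

theorem range_lTensor_inf (X Y : Submodule k N) (t : M ⊗[k] N)
    (h1 : t ∈ LinearMap.range (X.subtype.lTensor M)) (h2 : t ∈ LinearMap.range (Y.subtype.lTensor M)) :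
    t ∈ LinearMap.range ((X ⊓ Y).subtype.lTensor M) := by
  rw [mem_range_lTensor_iff] at h1 h2 ⊢
  exact fun φ => ⟨h1 φ, h2 φ⟩

theorem range_rTensor_inf (X Y : Submodule k M) (t : M ⊗[k] N)
    (h1 : t ∈ LinearMap.range (X.subtype.rTensor N)) (h2 : t ∈ LinearMap.range (Y.subtype.rTensor N)) :
    t ∈ LinearMap.range ((X ⊓ Y).subtype.rTensor N) := by
  rw [mem_range_rTensor_iff] at h1 h2 ⊢
  exact fun φ => ⟨h1 φ, h2 φ⟩

theorem range_lTensor_mono {X Y : Submodule k N} (h : X ≤ Y) :
    LinearMap.range (X.subtype.lTensor M) ≤ LinearMap.range (Y.subtype.lTensor M) := by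
  rintro _ ⟨y, rfl⟩
  refine ⟨(Submodule.inclusion h).lTensor M y, ?_⟩
  rw [← LinearMap.comp_apply, ← LinearMap.lTensor_comp]
  rfl

theorem range_rTensor_mono {X Y : Submodule k M} (h : X ≤ Y) :
    LinearMap.range (X.subtype.rTensor N) ≤ LinearMap.range (Y.subtype.rTensor N) := by
  rintro _ ⟨y, rfl⟩
  refine ⟨(Submodule.inclusion h).rTensor N y, ?_⟩
  rw [← LinearMap.comp_apply, ← LinearMap.rTensor_comp]
  rfl

theorem range_map_mono {X X' : Submodule k M} {Y Y' : Submodule k N} (h : X ≤ X') (h' : Y ≤ Y') :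
    LinearMap.range (TensorProduct.map X.subtype Y.subtype) ≤
      LinearMap.range (TensorProduct.map X'.subtype Y'.subtype) := by
  rintro _ ⟨y, rfl⟩
  refine ⟨TensorProduct.map (Submodule.inclusion h) (Submodule.inclusion h') y, ?_⟩
  rw [← LinearMap.comp_apply, ← TensorProduct.map_comp]
  rfl

end LinAlg

/-! ### Coefficient maps and coefficient spaces -/
section Coef

variable {k : Type u} {C : Type v} [Field k] [AddCommGroup C] [Module k C] [Coalgebra k C]
variable {V : Type w} [AddCommGroup V] [Module k V] [HopfRep.Comod k C V]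
variable {W : Type w'} [AddCommGroup W] [Module k W] [HopfRep.Comod k C W]

/-- the matrix coefficient map `v ↦ (φ ⊗ id)(ρ v)` -/
noncomputable def coef (φ : V →ₗ[k] k) : V →ₗ[k] C :=
  Lc C φ ∘ₗ HopfRep.Comod.coact (k := k) (A := C) (V := V)

lemma coef_apply (φ : V →ₗ[k] k) (v : V) :
    coef (C := C) φ v = Lc C φ (HopfRep.Comod.coact (k := k) (A := C) v) := rfl

lemma Lc_rTensor_assoc_symm (φ : V →ₗ[k] k) (t : V ⊗[k] (C ⊗[k] C)) :
    (Lc C φ).rTensor C ((TensorProduct.assoc k V C C).symm t) = Lc (C ⊗[k] C) φ t := by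
  induction t using TensorProduct.induction_on with
  | zero => simp
  | tmul v cd =>
    induction cd using TensorProduct.induction_on with
    | zero => simp
    | tmul c d => simp [TensorProduct.smul_tmul']
    | add x y hx hy => simp only [TensorProduct.tmul_add, map_add, hx, hy]
  | add x y hx hy => simp only [map_add, hx, hy]

lemma Lc_lTensor {N N' : Type*} [AddCommGroup N] [Module k N] [AddCommGroup N'] [Module k N']
    (g : N →ₗ[k] N') (φ : V →ₗ[k] k) (t : V ⊗[k] N) :
    Lc N' φ (g.lTensor V t) = g (Lc N φ t) := by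
  induction t using TensorProduct.induction_on with
  | zero => simp
  | tmul v n => simp
  | add x y hx hy => simp only [map_add, hx, hy]

theorem coef_isComodHom (φ : V →ₗ[k] k) : Hoch.IsComodHom C (coef (C := C) φ) := by
  unfold Hoch.IsComodHom
  ext v
  have hco := LinearMap.congr_fun (HopfRep.Comod.coassoc (k := k) (A := C) (V := V)) v
  simp only [LinearMap.comp_apply, LinearEquiv.coe_coe] at hco
  have h2 : (HopfRep.Comod.coact (k := k) (A := C) (V := V)).rTensor C
      (HopfRep.Comod.coact (k := k) (A := C) v) =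
      (TensorProduct.assoc k V C C).symm ((CoalgebraStruct.comul (R := k) (A := C)).lTensor V
        (HopfRep.Comod.coact (k := k) (A := C) v)) := by
    rw [← hco, LinearEquiv.symm_apply_apply]
  simp only [LinearMap.comp_apply]
  rw [coef, LinearMap.rTensor_comp, LinearMap.comp_apply, LinearMap.comp_apply, h2,
    Lc_rTensor_assoc_symm, Lc_lTensor]
  rfl

/-- `IsHomOn p X`: the linear map `p` commutes with the coactions on the submodule `X`. -/
def IsHomOn (p : V →ₗ[k] W) (X : Submodule k V) : Prop :=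
  ∀ x ∈ X, HopfRep.Comod.coact (k := k) (A := C) (p x) =
    p.rTensor C (HopfRep.Comod.coact (k := k) (A := C) x)

lemma IsHomOn.mono {p : V →ₗ[k] W} {X Y : Submodule k V} (h : IsHomOn (C := C) p Y) (hXY : X ≤ Y) :
    IsHomOn (C := C) p X := fun x hx => h x (hXY hx)

lemma isHomOn_of_isComodHom {p : V →ₗ[k] W} (h : Hoch.IsComodHom C p) (X : Submodule k V) :
    IsHomOn (C := C) p X := fun x _ => LinearMap.congr_fun h x

lemma isComodHom_of_isHomOn_top {p : V →ₗ[k] W} (h : IsHomOn (C := C) p ⊤) :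
    Hoch.IsComodHom C p := LinearMap.ext fun x => h x trivial

lemma coef_comp_of_homOn {p : V →ₗ[k] W} {X : Submodule k V} (hp : IsHomOn (C := C) p X)
    (ψ : W →ₗ[k] k) (x : V) (hx : x ∈ X) :
    coef (C := C) ψ (p x) = coef (C := C) (ψ ∘ₗ p) x := by
  rw [coef_apply, hp x hx, Lc_rTensor, coef_apply]

/-- the counit recovers the functional -/
lemma counit_coef (φ : V →ₗ[k] k) (v : V) :
    CoalgebraStruct.counit (R := k) (A := C) (coef (C := C) φ v) = φ v := by
  have hcu := LinearMap.congr_fun (HopfRep.Comod.counit_comp (k := k) (A := C) (V := V)) v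
  simp only [LinearMap.comp_apply, LinearMap.flip_apply, TensorProduct.mk_apply] at hcu
  have key : ∀ t : V ⊗[k] C, CoalgebraStruct.counit (R := k) (A := C) (Lc C φ t) =
      φ (TensorProduct.rid k V ((CoalgebraStruct.counit (R := k) (A := C)).lTensor V t)) := by
    intro t
    induction t using TensorProduct.induction_on with
    | zero => simp
    | tmul x c => simp [mul_comm]
    | add x y hx hy => simp only [map_add, hx, hy]
  rw [coef_apply, key, hcu]
  simp

/-- coefficient space of a submodule -/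
noncomputable def cfOf (X : Submodule k V) : Submodule k C :=
  ⨆ φ : V →ₗ[k] k, X.map (coef (C := C) φ)

lemma coef_mem_cfOf {X : Submodule k V} (φ : V →ₗ[k] k) {x : V} (hx : x ∈ X) :
    coef (C := C) φ x ∈ cfOf (C := C) X :=
  (le_iSup (fun φ : V →ₗ[k] k => X.map (coef (C := C) φ)) φ) (Submodule.mem_map_of_mem hx)

lemma cfOf_le_iff {X : Submodule k V} {D : Submodule k C} :
    cfOf (C := C) X ≤ D ↔ ∀ x ∈ X, ∀ φ : V →ₗ[k] k, coef (C := C) φ x ∈ D := by
  constructor
  · intro h x hx φ
    exact h (coef_mem_cfOf φ hx)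
  · intro h
    refine iSup_le fun φ => ?_
    rintro _ ⟨x, hx, rfl⟩
    exact h x hx φ

lemma cfOf_mono {X Y : Submodule k V} (h : X ≤ Y) : cfOf (C := C) X ≤ cfOf (C := C) Y :=
  cfOf_le_iff.2 fun _ hx φ => coef_mem_cfOf φ (h hx)

lemma coact_mem_lTensor_cfOf {X : Submodule k V} {x : V} (hx : x ∈ X) :
    HopfRep.Comod.coact (k := k) (A := C) x ∈
      LinearMap.range ((cfOf (C := C) X).subtype.lTensor V) := by
  rw [mem_range_lTensor_iff]
  exact fun φ => coef_mem_cfOf φ hx

lemma cfOf_le_of_coact_mem {X : Submodule k V} {D : Submodule k C}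
    (h : ∀ x ∈ X, HopfRep.Comod.coact (k := k) (A := C) x ∈
      LinearMap.range (D.subtype.lTensor V)) : cfOf (C := C) X ≤ D :=
  cfOf_le_iff.2 fun x hx φ => (mem_range_lTensor_iff D _).1 (h x hx) φ

theorem isLeast_cfOf (X : Submodule k V) :
    IsLeast {D' : Submodule k C | ∀ x ∈ X, HopfRep.Comod.coact (k := k) (A := C) x ∈
      LinearMap.range (D'.subtype.lTensor V)} (cfOf (C := C) X) :=
  ⟨fun _ hx => coact_mem_lTensor_cfOf hx, fun _ hD => cfOf_le_of_coact_mem hD⟩

theorem isLeast_cfOf_top :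
    IsLeast {D' : Submodule k C | ∀ x : V, HopfRep.Comod.coact (k := k) (A := C) x ∈
      LinearMap.range (D'.subtype.lTensor V)} (cfOf (C := C) (⊤ : Submodule k V)) :=
  ⟨fun _ => coact_mem_lTensor_cfOf trivial, fun _ hD => cfOf_le_of_coact_mem fun x _ => hD x⟩

lemma coact_mem_map_cfOf {X : Submodule k V} (hX : HopfRep.IsSubcomod (k := k) (A := C) X)
    {x : V} (hx : x ∈ X) :
    HopfRep.Comod.coact (k := k) (A := C) x ∈
      LinearMap.range (TensorProduct.map X.subtype (cfOf (C := C) X).subtype) :=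
  (mem_range_map_iff _ _ _).2 ⟨hX x hx, coact_mem_lTensor_cfOf hx⟩

/-- subcoalgebras -/
def IsSubcoalg (B : Submodule k C) : Prop :=
  ∀ b ∈ B, CoalgebraStruct.comul (R := k) b ∈
    LinearMap.range (TensorProduct.map B.subtype B.subtype)

theorem cfOf_isSubcoalg {X : Submodule k V} (hX : HopfRep.IsSubcomod (k := k) (A := C) X) :
    IsSubcoalg (cfOf (C := C) X) := by
  set D := cfOf (C := C) X with hD
  have hle : D ≤ (LinearMap.range (TensorProduct.map D.subtype D.subtype)).comap
      (CoalgebraStruct.comul (R := k) (A := C)) := by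
    rw [hD, cfOf_le_iff]
    intro x hx φ
    rw [Submodule.mem_comap]
    have h1 := LinearMap.congr_fun (coef_isComodHom (C := C) φ) x
    simp only [LinearMap.comp_apply] at h1
    have h1' : CoalgebraStruct.comul (R := k) (coef (C := C) φ x) =
        (coef (C := C) φ).rTensor C (HopfRep.Comod.coact (k := k) (A := C) x) := h1
    rw [h1']
    obtain ⟨y, hy⟩ := coact_mem_map_cfOf hX hx
    rw [← hy]
    have hmem : ∀ z : X, (coef (C := C) φ ∘ₗ X.subtype) z ∈ D := fun z => coef_mem_cfOf φ z.2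
    refine ⟨TensorProduct.map (LinearMap.codRestrict D (coef (C := C) φ ∘ₗ X.subtype) hmem)
      LinearMap.id y, ?_⟩
    rw [← LinearMap.comp_apply, ← TensorProduct.map_comp, LinearMap.rTensor,
      ← LinearMap.comp_apply, ← TensorProduct.map_comp]
    rfl
  exact fun b hb => hle hb

end Coef

/-! ### The regular comodule and subcoalgebras -/
section Regular

variable {k : Type u} {C : Type v} [Field k] [AddCommGroup C] [Module k C] [Coalgebra k C]

lemma regular_coact (c : C) :
    HopfRep.Comod.coact (k := k) (A := C) (V := C) c = CoalgebraStruct.comul (R := k) c := rfl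

lemma IsSubcoalg.isSubcomod {B : Submodule k C} (hB : IsSubcoalg B) :
    HopfRep.IsSubcomod (k := k) (A := C) B := fun b hb =>
  ((mem_range_map_iff _ _ _).1 (hB b hb)).1

lemma coef_counit_regular (c : C) :
    coef (C := C) (V := C) (CoalgebraStruct.counit (R := k) (A := C)) c = c := by
  rw [coef_apply, regular_coact]
  have h := LinearMap.congr_fun (Coalgebra.rTensor_counit_comp_comul (R := k) (A := C)) c
  simp only [LinearMap.comp_apply, TensorProduct.mk_apply] at h
  simp only [Lc, LinearMap.comp_apply, LinearEquiv.coe_coe]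
  rw [h]
  simp

lemma le_cfOf_regular (X : Submodule k C) : X ≤ cfOf (C := C) (V := C) X := by
  intro x hx
  rw [← coef_counit_regular (k := k) x]
  exact coef_mem_cfOf _ hx

lemma cfOf_regular_le {X B : Submodule k C} (hB : IsSubcoalg B) (hXB : X ≤ B) :
    cfOf (C := C) (V := C) X ≤ B := by
  refine cfOf_le_of_coact_mem fun x hx => ?_
  exact ((mem_range_map_iff _ _ _).1 (hB x (hXB hx))).2

lemma cfOf_regular_eq {B : Submodule k C} (hB : IsSubcoalg B) : cfOf (C := C) (V := C) B = B :=
  le_antisymm (cfOf_regular_le hB le_rfl) (le_cfOf_regular B)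

lemma isSubcoalg_bot : IsSubcoalg (⊥ : Submodule k C) := by
  intro b hb
  rw [Submodule.mem_bot] at hb
  subst hb
  rw [map_zero]
  exact Submodule.zero_mem _

lemma isSubcoalg_inf {B₁ B₂ : Submodule k C} (h₁ : IsSubcoalg B₁) (h₂ : IsSubcoalg B₂) :
    IsSubcoalg (B₁ ⊓ B₂) := by
  intro b hb
  have a1 := (mem_range_map_iff _ _ _).1 (h₁ b hb.1)
  have a2 := (mem_range_map_iff _ _ _).1 (h₂ b hb.2)
  exact (mem_range_map_iff _ _ _).2 ⟨range_rTensor_inf _ _ _ a1.1 a2.1, range_lTensor_inf _ _ _ a1.2 a2.2⟩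

lemma isSubcoalg_sSup (s : Set (Submodule k C)) (hs : ∀ B ∈ s, IsSubcoalg B) :
    IsSubcoalg (sSup s) := by
  have hle : sSup s ≤ (LinearMap.range (TensorProduct.map (sSup s).subtype (sSup s).subtype)).comap
      (CoalgebraStruct.comul (R := k) (A := C)) := by
    refine sSup_le fun B hB b hb => ?_
    exact range_map_mono (le_sSup hB) (le_sSup hB) (hs B hB b hb)
  exact fun b hb => hle hb

lemma isSubcoalg_iSup {ι : Sort*} (B : ι → Submodule k C) (hB : ∀ i, IsSubcoalg (B i)) :
    IsSubcoalg (⨆ i, B i) := by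
  apply isSubcoalg_sSup
  rintro _ ⟨i, rfl⟩
  exact hB i

lemma isSubcoalg_top : IsSubcoalg (⊤ : Submodule k C) := by
  intro b _
  have h1 : LinearMap.range ((⊤ : Submodule k C).subtype.rTensor C) = ⊤ := by
    rw [LinearMap.range_eq_top]
    exact LinearMap.rTensor_surjective C (fun x => ⟨⟨x, trivial⟩, rfl⟩)
  have h2 : LinearMap.range ((⊤ : Submodule k C).subtype.lTensor C) = ⊤ := by
    rw [LinearMap.range_eq_top]
    exact LinearMap.lTensor_surjective C (fun x => ⟨⟨x, trivial⟩, rfl⟩)
  exact (mem_range_map_iff _ _ _).2 ⟨by rw [h1]; trivial, by rw [h2]; trivial⟩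

/-- simple subcoalgebra, in the unfolded form used by the statements -/
def IsSimpleSubcoalg (D : Submodule k C) : Prop :=
  D ≠ ⊥ ∧ IsSubcoalg D ∧ ∀ B : Submodule k C, B ≤ D → IsSubcoalg B → B = ⊥ ∨ B = D

end Regular

/-! ### Images, preimages, simple subcomodules -/
section Maps

variable {k : Type u} {C : Type v} [Field k] [AddCommGroup C] [Module k C] [Coalgebra k C]
variable {V : Type w} [AddCommGroup V] [Module k V] [HopfRep.Comod k C V]
variable {W : Type w'} [AddCommGroup W] [Module k W] [HopfRep.Comod k C W]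

lemma isSubcomod_bot : HopfRep.IsSubcomod (k := k) (A := C) (⊥ : Submodule k V) := by
  intro w hw
  rw [Submodule.mem_bot] at hw
  subst hw
  rw [map_zero]
  exact Submodule.zero_mem _

lemma isSubcomod_top : HopfRep.IsSubcomod (k := k) (A := C) (⊤ : Submodule k V) := by
  intro w _
  have h1 : LinearMap.range ((⊤ : Submodule k V).subtype.rTensor C) = ⊤ := by
    rw [LinearMap.range_eq_top]
    exact LinearMap.rTensor_surjective C (fun x => ⟨⟨x, trivial⟩, rfl⟩)
  rw [h1]; trivial

lemma isSubcomod_iSup {ι : Sort*} (X : ι → Submodule k V)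
    (hX : ∀ i, HopfRep.IsSubcomod (k := k) (A := C) (X i)) :
    HopfRep.IsSubcomod (k := k) (A := C) (⨆ i, X i) := by
  apply isSubcomod_sSup
  rintro _ ⟨i, rfl⟩
  exact hX i

lemma Rc_rTensor (p : V →ₗ[k] W) (ψ : C →ₗ[k] k) (t : V ⊗[k] C) :
    Rc W ψ (p.rTensor C t) = p (Rc V ψ t) := by
  induction t using TensorProduct.induction_on with
  | zero => simp
  | tmul v c => simp
  | add x y hx hy => simp only [map_add, hx, hy]

theorem isSubcomod_map_of_homOn {p : V →ₗ[k] W} {X : Submodule k V}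
    (hX : HopfRep.IsSubcomod (k := k) (A := C) X) (hp : IsHomOn (C := C) p X) :
    HopfRep.IsSubcomod (k := k) (A := C) (X.map p) := by
  rintro _ ⟨x, hx, rfl⟩
  rw [hp x hx, mem_range_rTensor_iff]
  intro ψ
  rw [Rc_rTensor]
  exact Submodule.mem_map_of_mem ((mem_range_rTensor_iff X _).1 (hX x hx) ψ)

theorem isSubcomod_inf_comap_of_homOn {p : V →ₗ[k] W} {X : Submodule k V}
    (hX : HopfRep.IsSubcomod (k := k) (A := C) X) (hp : IsHomOn (C := C) p X)
    {Y : Submodule k W} (hY : HopfRep.IsSubcomod (k := k) (A := C) Y) :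
    HopfRep.IsSubcomod (k := k) (A := C) (X ⊓ Y.comap p) := by
  rintro x ⟨hx, hxY⟩
  rw [mem_range_rTensor_iff]
  intro ψ
  refine ⟨(mem_range_rTensor_iff X _).1 (hX x hx) ψ, ?_⟩
  show p (Rc V ψ (HopfRep.Comod.coact (k := k) (A := C) x)) ∈ Y
  rw [← Rc_rTensor, ← hp x hx]
  exact (mem_range_rTensor_iff Y _).1 (hY _ hxY) ψ

theorem isSubcomod_comap {p : V →ₗ[k] W} (hp : Hoch.IsComodHom C p)
    {Y : Submodule k W} (hY : HopfRep.IsSubcomod (k := k) (A := C) Y) :
    HopfRep.IsSubcomod (k := k) (A := C) (Y.comap p) := by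
  have := isSubcomod_inf_comap_of_homOn (C := C) isSubcomod_top (isHomOn_of_isComodHom hp ⊤) hY
  rwa [top_inf_eq] at this

theorem isSubcomod_map {p : V →ₗ[k] W} (hp : Hoch.IsComodHom C p)
    {X : Submodule k V} (hX : HopfRep.IsSubcomod (k := k) (A := C) X) :
    HopfRep.IsSubcomod (k := k) (A := C) (X.map p) :=
  isSubcomod_map_of_homOn hX (isHomOn_of_isComodHom hp X)

theorem isSubcomod_range {p : V →ₗ[k] W} (hp : Hoch.IsComodHom C p) :
    HopfRep.IsSubcomod (k := k) (A := C) (LinearMap.range p) := by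
  rw [← Submodule.map_top]
  exact isSubcomod_map hp isSubcomod_top

theorem cfOf_map_le_of_homOn {p : V →ₗ[k] W} {X : Submodule k V} (hp : IsHomOn (C := C) p X) :
    cfOf (C := C) (X.map p) ≤ cfOf (C := C) X := by
  rw [cfOf_le_iff]
  rintro _ ⟨x, hx, rfl⟩ ψ
  rw [coef_comp_of_homOn hp ψ x hx]
  exact coef_mem_cfOf _ hx

theorem cfOf_le_map_of_homOn {p : V →ₗ[k] W} {X : Submodule k V}
    (hX : HopfRep.IsSubcomod (k := k) (A := C) X) (hp : IsHomOn (C := C) p X)
    (hinj : ∀ x ∈ X, p x = 0 → x = 0) :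
    cfOf (C := C) X ≤ cfOf (C := C) (X.map p) := by
  have hker : LinearMap.ker (p ∘ₗ X.subtype) = ⊥ := by
    rw [LinearMap.ker_eq_bot']
    intro x hx
    exact Subtype.ext (hinj x x.2 hx)
  obtain ⟨g, hg⟩ := LinearMap.exists_leftInverse_of_injective (p ∘ₗ X.subtype) hker
  rw [cfOf_le_iff]
  intro x hx φ
  have hφ : ∀ y ∈ X, (φ ∘ₗ X.subtype ∘ₗ g ∘ₗ p) y = φ y := by
    intro y hy
    have := LinearMap.congr_fun hg ⟨y, hy⟩
    simp only [LinearMap.comp_apply, Submodule.subtype_apply, LinearMap.id_apply] at this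
    simp only [LinearMap.comp_apply, Submodule.subtype_apply]
    rw [this]
  have heq : coef (C := C) φ x = coef (C := C) (φ ∘ₗ X.subtype ∘ₗ g) (p x) := by
    rw [coef_comp_of_homOn hp _ x hx, coef_apply, coef_apply]
    obtain ⟨y, hy⟩ := hX x hx
    rw [← hy, Lc_rTensor, Lc_rTensor]
    have hfun : φ ∘ₗ X.subtype = ((φ ∘ₗ X.subtype ∘ₗ g) ∘ₗ p) ∘ₗ X.subtype := by
      ext z
      exact (hφ z z.2).symm
    rw [← hfun]
  rw [heq]
  exact coef_mem_cfOf _ (Submodule.mem_map_of_mem hx)

theorem cfOf_map_eq_of_homOn {p : V →ₗ[k] W} {X : Submodule k V}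
    (hX : HopfRep.IsSubcomod (k := k) (A := C) X) (hp : IsHomOn (C := C) p X)
    (hinj : ∀ x ∈ X, p x = 0 → x = 0) :
    cfOf (C := C) (X.map p) = cfOf (C := C) X :=
  le_antisymm (cfOf_map_le_of_homOn hp) (cfOf_le_map_of_homOn hX hp hinj)

/-- simple subcomodule -/
def IsSimpleSub (S : Submodule k V) : Prop :=
  HopfRep.IsSubcomod (k := k) (A := C) S ∧ S ≠ ⊥ ∧
    ∀ X : Submodule k V, HopfRep.IsSubcomod (k := k) (A := C) X → X ≤ S → X = ⊥ ∨ X = S

theorem IsSimpleSub.injOn {S : Submodule k V} (hS : IsSimpleSub (C := C) S) {p : V →ₗ[k] W}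
    (hp : IsHomOn (C := C) p S) (hne : ∃ s ∈ S, p s ≠ 0) : ∀ x ∈ S, p x = 0 → x = 0 := by
  have hsub : HopfRep.IsSubcomod (k := k) (A := C) (S ⊓ (⊥ : Submodule k W).comap p) :=
    isSubcomod_inf_comap_of_homOn hS.1 hp isSubcomod_bot
  rcases hS.2.2 _ hsub inf_le_left with h | h
  · intro x hx hpx
    have : x ∈ S ⊓ (⊥ : Submodule k W).comap p := ⟨hx, by simpa using hpx⟩
    rw [h] at this
    simpa using this
  · exfalso
    obtain ⟨s, hs, hps⟩ := hne
    have : s ∈ S ⊓ (⊥ : Submodule k W).comap p := by rw [h]; exact hs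
    exact hps (by simpa using this.2)

theorem IsSimpleSub.map {S : Submodule k V} (hS : IsSimpleSub (C := C) S) {p : V →ₗ[k] W}
    (hp : IsHomOn (C := C) p S) (hinj : ∀ x ∈ S, p x = 0 → x = 0) :
    IsSimpleSub (C := C) (S.map p) := by
  refine ⟨isSubcomod_map_of_homOn hS.1 hp, ?_, ?_⟩
  · intro h
    apply hS.2.1
    rw [eq_bot_iff]
    intro x hx
    have : p x ∈ S.map p := Submodule.mem_map_of_mem hx
    rw [h, Submodule.mem_bot] at this
    rw [Submodule.mem_bot]
    exact hinj x hx this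
  · intro X hX hXS
    rcases hS.2.2 _ (isSubcomod_inf_comap_of_homOn hS.1 hp hX) inf_le_left with h | h
    · left
      rw [eq_bot_iff]
      intro w hw
      obtain ⟨x, hx, rfl⟩ := hXS hw
      have : x ∈ S ⊓ X.comap p := ⟨hx, hw⟩
      rw [h, Submodule.mem_bot] at this
      rw [this, map_zero]
      exact Submodule.zero_mem _
    · right
      apply le_antisymm hXS
      rintro _ ⟨x, hx, rfl⟩
      have : x ∈ S ⊓ X.comap p := by rw [h]; exact hx
      exact this.2

/-- projection onto `Y` along `X'` for disjoint subcomodules, as an endomorphism of `V` -/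
theorem exists_proj {Y X' : Submodule k V} (hY : HopfRep.IsSubcomod (k := k) (A := C) Y)
    (hX' : HopfRep.IsSubcomod (k := k) (A := C) X') (hdisj : Y ⊓ X' = ⊥) :
    ∃ p : V →ₗ[k] V, (∀ y ∈ Y, p y = y) ∧ (∀ x ∈ X', p x = 0) ∧ (∀ v, p v ∈ Y) ∧
      IsHomOn (C := C) p (Y ⊔ X') := by
  have hker : LinearMap.ker (X'.mkQ ∘ₗ Y.subtype) = ⊥ := by
    rw [LinearMap.ker_eq_bot']
    intro y hy
    have h1 : (y : V) ∈ X' := by
      simpa [Submodule.Quotient.mk_eq_zero] using hy
    have : (y : V) ∈ Y ⊓ X' := ⟨y.2, h1⟩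
    rw [hdisj, Submodule.mem_bot] at this
    exact Subtype.ext this
  obtain ⟨g, hg⟩ := LinearMap.exists_leftInverse_of_injective (X'.mkQ ∘ₗ Y.subtype) hker
  set p : V →ₗ[k] V := Y.subtype ∘ₗ g ∘ₗ X'.mkQ with hp
  have hpY : ∀ y ∈ Y, p y = y := by
    intro y hy
    have := LinearMap.congr_fun hg ⟨y, hy⟩
    simp only [LinearMap.comp_apply, Submodule.subtype_apply, LinearMap.id_apply] at this
    simp only [hp, LinearMap.comp_apply, Submodule.subtype_apply]
    rw [this]
  have hpX : ∀ x ∈ X', p x = 0 := by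
    intro x hx
    simp only [hp, LinearMap.comp_apply, Submodule.mkQ_apply]
    rw [(Submodule.Quotient.mk_eq_zero X').2 hx, map_zero, map_zero]
  refine ⟨p, hpY, hpX, fun v => (g (X'.mkQ v)).2, ?_⟩
  intro v hv
  obtain ⟨y, hy, x, hx, rfl⟩ := Submodule.mem_sup.1 hv
  rw [map_add, hpY y hy, hpX x hx, add_zero, map_add, map_add]
  obtain ⟨a, ha⟩ := hY y hy
  obtain ⟨b, hb⟩ := hX' x hx
  have h1 : p.rTensor C (Y.subtype.rTensor C a) = Y.subtype.rTensor C a := by
    rw [← LinearMap.comp_apply, ← LinearMap.rTensor_comp]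
    congr 2
    ext z
    exact hpY z z.2
  have h2 : p.rTensor C (X'.subtype.rTensor C b) = 0 := by
    rw [← LinearMap.comp_apply, ← LinearMap.rTensor_comp]
    have : p ∘ₗ X'.subtype = 0 := by
      ext z
      exact hpX z z.2
    rw [this, LinearMap.rTensor_zero, LinearMap.zero_apply]
  rw [← ha, ← hb, h1, h2, add_zero]

end Maps

/-! ### Isotypic arguments -/
section Isotypic

variable {k : Type u} {C : Type v} [Field k] [AddCommGroup C] [Module k C] [Coalgebra k C]
variable {V : Type w} [AddCommGroup V] [Module k V] [HopfRep.Comod k C V]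

theorem exists_hom_of_mem_iSup {ι : Type*} (S : ι → Submodule k V)
    (hS : ∀ i, IsSimpleSub (C := C) (S i))
    {Y : Submodule k V} (hY : HopfRep.IsSubcomod (k := k) (A := C) Y) {y : V} (hyY : y ∈ Y)
    (hy0 : y ≠ 0) (hy : y ∈ ⨆ i, S i) :
    ∃ i, ∃ p : V →ₗ[k] V, IsHomOn (C := C) p (S i) ∧ (∀ s ∈ S i, p s ∈ Y) ∧
      (∃ s ∈ S i, p s ≠ 0) := by
  classical
  obtain ⟨F, hF⟩ := Submodule.exists_finset_of_mem_iSup S hy
  clear hy
  induction F using Finset.induction_on generalizing y with
  | empty =>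
    simp only [Finset.notMem_empty, iSup_false, iSup_bot, Submodule.mem_bot] at hF
    exact absurd hF hy0
  | insert i F' hi ih =>
    rw [Finset.iSup_insert] at hF
    obtain ⟨s, hs, x', hx', rfl⟩ := Submodule.mem_sup.1 hF
    set X' := ⨆ j ∈ F', S j with hXdef
    have hX' : HopfRep.IsSubcomod (k := k) (A := C) X' :=
      isSubcomod_iSup _ fun j => isSubcomod_iSup _ fun _ => (hS j).1
    by_cases hdisj : Y ⊓ X' = ⊥
    · obtain ⟨p, hpY, hpX, hpmem, hphom⟩ := exists_proj hY hX' hdisj
      have hZ : HopfRep.IsSubcomod (k := k) (A := C) (S i ⊓ (Y ⊔ X')) :=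
        isSubcomod_inf _ _ (hS i).1 (isSubcomod_sup _ _ hY hX')
      have hsmem : s ∈ S i ⊓ (Y ⊔ X') := by
        refine ⟨hs, ?_⟩
        have : s = (s + x') - x' := by abel
        rw [this]
        exact Submodule.sub_mem _ (Submodule.mem_sup_left hyY) (Submodule.mem_sup_right hx')
      have hs0 : s ≠ 0 := by
        rintro rfl
        rw [zero_add] at hyY hy0
        have : x' ∈ Y ⊓ X' := ⟨hyY, hx'⟩
        rw [hdisj, Submodule.mem_bot] at this
        exact hy0 this
      have hle : S i ≤ Y ⊔ X' := by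
        rcases (hS i).2.2 _ hZ inf_le_left with h | h
        · exfalso
          rw [h, Submodule.mem_bot] at hsmem
          exact hs0 hsmem
        · exact inf_eq_left.1 h
      refine ⟨i, p, hphom.mono hle, fun s' _ => hpmem s', s, hs, ?_⟩
      have h1 := hpY _ hyY
      rw [map_add, hpX x' hx', add_zero] at h1
      rw [h1]; exact hy0
    · obtain ⟨y', hy', hy'0⟩ := Submodule.exists_mem_ne_zero_of_ne_bot hdisj
      exact ih hy'.1 hy'0 hy'.2

/-- coefficient spaces along an isotypic embedding -/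
theorem exists_cfOf_le_of_mem_iSup {ι : Type*} (S : ι → Submodule k V)
    (hS : ∀ i, IsSimpleSub (C := C) (S i))
    {Y : Submodule k V} (hY : HopfRep.IsSubcomod (k := k) (A := C) Y) {y : V} (hyY : y ∈ Y)
    (hy0 : y ≠ 0) (hy : y ∈ ⨆ i, S i) :
    ∃ i, cfOf (C := C) (S i) ≤ cfOf (C := C) Y := by
  obtain ⟨i, p, hp, hpY, hne⟩ := exists_hom_of_mem_iSup S hS hY hyY hy0 hy
  refine ⟨i, ?_⟩
  rw [← cfOf_map_eq_of_homOn (hS i).1 hp ((hS i).injOn hp hne)]
  apply cfOf_mono
  rintro _ ⟨s, hs, rfl⟩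
  exact hpY s hs

theorem exists_isSimpleSub_le {Y : Submodule k V} (hY : HopfRep.IsSubcomod (k := k) (A := C) Y)
    (hY0 : Y ≠ ⊥) : ∃ S : Submodule k V, IsSimpleSub (C := C) S ∧ S ≤ Y := by
  obtain ⟨y, hyY, hy0⟩ := Submodule.exists_mem_ne_zero_of_ne_bot hY0
  obtain ⟨W, hWfin, hyW, hW⟩ := exists_finite_subcomod (k := k) (C := C) y
  set Y₀ := W ⊓ Y with hY₀
  have hY₀sub : HopfRep.IsSubcomod (k := k) (A := C) Y₀ := isSubcomod_inf _ _ hW hY
  have hY₀ne : Y₀ ≠ ⊥ := by
    intro h
    have : y ∈ Y₀ := ⟨hyW, hyY⟩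
    rw [h, Submodule.mem_bot] at this
    exact hy0 this
  let P : Set (Submodule k V) :=
    {X | HopfRep.IsSubcomod (k := k) (A := C) X ∧ X ≠ ⊥ ∧ X ≤ Y₀}
  have hPne : P.Nonempty := ⟨Y₀, hY₀sub, hY₀ne, le_rfl⟩
  obtain ⟨X, ⟨hXsub, hXne, hXle⟩, hmin⟩ :=
    WellFounded.has_min (measure (fun X : Submodule k V => Module.finrank k X)).wf P hPne
  have hXfin : Module.Finite k X :=
    Submodule.finiteDimensional_of_le (hXle.trans inf_le_left)
  refine ⟨X, ⟨hXsub, hXne, ?_⟩, hXle.trans inf_le_right⟩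
  intro X' hX' hle
  by_cases h0 : X' = ⊥
  · exact Or.inl h0
  · right
    have hnot := hmin X' ⟨hX', h0, hle.trans hXle⟩
    have hfr : Module.finrank k X ≤ Module.finrank k X' := by
      by_contra hlt
      exact hnot (not_le.1 hlt)
    exact Submodule.eq_of_le_of_finrank_le hle hfr

theorem exists_compl_of_sSup_simple (T : Set (Submodule k V))
    (hT : ∀ S ∈ T, IsSimpleSub (C := C) S) (hsup : sSup T = ⊤)
    {W : Submodule k V} (hW : HopfRep.IsSubcomod (k := k) (A := C) W) :
    ∃ s : Set (Submodule k V), s ⊆ T ∧ sSupIndep s ∧ IsCompl W (sSup s) ∧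
      HopfRep.IsSubcomod (k := k) (A := C) (sSup s) := by
  obtain ⟨s, hsT, hind, hcompl⟩ := Groth.Agent.H12Lattice.exists_indep_compl
    (α := Submodule k V) T
    (fun X => HopfRep.IsSubcomod (k := k) (A := C) X)
    (fun s hs => isSubcomod_sSup s hs)
    (fun X Y hX hY => isSubcomod_sup X Y hX hY)
    (fun S hS => (hT S hS).1)
    (by
      intro S hS X hX
      rcases (hT S hS).2.2 (S ⊓ X) (isSubcomod_inf _ _ (hT S hS).1 hX) inf_le_left with h | h
      · exact Or.inl h
      · exact Or.inr (inf_eq_left.1 h))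
    hsup W hW
  exact ⟨s, hsT, hind, hcompl, isSubcomod_sSup s fun X hX => (hT X (hsT hX)).1⟩

end Isotypic

/-! ### Simple subcomodules and simple subcoalgebras -/
section Simple

variable {k : Type u} {C : Type v} [Field k] [AddCommGroup C] [Module k C] [Coalgebra k C]
variable {V : Type w} [AddCommGroup V] [Module k V] [HopfRep.Comod k C V]

lemma cfOf_ne_bot {X : Submodule k V} (hX0 : X ≠ ⊥) : cfOf (C := C) X ≠ ⊥ := by
  intro h
  obtain ⟨x, hx, hx0⟩ := Submodule.exists_mem_ne_zero_of_ne_bot hX0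
  apply hx0
  rw [← Module.forall_dual_apply_eq_zero_iff k]
  intro φ
  have h1 : coef (C := C) φ x ∈ cfOf (C := C) X := coef_mem_cfOf φ hx
  rw [h, Submodule.mem_bot] at h1
  have h2 := counit_coef (C := C) φ x
  rw [h1, map_zero] at h2
  exact h2.symm

/-- The coefficient space of a simple subcomodule is a simple subcoalgebra. -/
theorem isSimpleSubcoalg_cfOf {S : Submodule k V} (hS : IsSimpleSub (C := C) S) :
    IsSimpleSubcoalg (cfOf (C := C) S) := by
  refine ⟨cfOf_ne_bot hS.2.1, cfOf_isSubcoalg hS.1, ?_⟩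
  intro B hBD hB
  by_cases hB0 : B = ⊥
  · exact Or.inl hB0
  right
  apply le_antisymm hBD
  obtain ⟨b, hbB, hb0⟩ := Submodule.exists_mem_ne_zero_of_ne_bot hB0
  -- the simple subcomodules `S.map (coef φ)` of the regular comodule
  let ι := {φ : V →ₗ[k] k // ∃ s ∈ S, coef (C := C) φ s ≠ 0}
  let T : ι → Submodule k C := fun φ => S.map (coef (C := C) φ.1)
  have hhom : ∀ φ : V →ₗ[k] k, IsHomOn (C := C) (coef (C := C) φ) S := fun φ =>
    isHomOn_of_isComodHom (coef_isComodHom φ) S
  have hT : ∀ φ : ι, IsSimpleSub (C := C) (T φ) := fun φ =>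
    hS.map (hhom φ.1) (hS.injOn (hhom φ.1) φ.2)
  have hsupT : cfOf (C := C) S ≤ ⨆ φ : ι, T φ := by
    refine iSup_le fun φ => ?_
    by_cases hφ : ∃ s ∈ S, coef (C := C) φ s ≠ 0
    · exact le_iSup T ⟨φ, hφ⟩
    · push Not at hφ
      rintro _ ⟨s, hs, rfl⟩
      rw [hφ s hs]
      exact Submodule.zero_mem _
  obtain ⟨φ, hle⟩ := exists_cfOf_le_of_mem_iSup (C := C) T hT hB.isSubcomod hbB hb0
    (hsupT (hBD hbB))
  have h1 : cfOf (C := C) (T φ) = cfOf (C := C) S :=
    cfOf_map_eq_of_homOn hS.1 (hhom φ.1) (hS.injOn (hhom φ.1) φ.2)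
  rw [← h1]
  exact hle.trans (cfOf_regular_le hB le_rfl)

/-- Every simple subcoalgebra is the coefficient space of a simple subcomodule of the regular
comodule. -/
theorem exists_simpleSub_of_simpleSubcoalg {D : Submodule k C} (hD : IsSimpleSubcoalg D) :
    ∃ E : Submodule k C, E ≤ D ∧ IsSimpleSub (C := C) (V := C) E ∧
      cfOf (C := C) (V := C) E = D := by
  obtain ⟨E, hE, hED⟩ := exists_isSimpleSub_le (C := C) hD.2.1.isSubcomod hD.1
  refine ⟨E, hED, hE, ?_⟩
  rcases hD.2.2 _ (cfOf_regular_le hD.2.1 hED) (cfOf_isSubcoalg hE.1) with h | h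
  · exact absurd h (cfOf_ne_bot hE.2.1)
  · exact h

end Simple

section SimpleComod

variable {k : Type u} {C : Type v} [Field k] [AddCommGroup C] [Module k C] [Coalgebra k C]
variable {V : Type w} [AddCommGroup V] [Module k V] [HopfRep.Comod k C V]

theorem isSimpleSub_top_of_isSimpleComod (hV : HopfRep.IsSimpleComod k C V) :
    IsSimpleSub (C := C) (⊤ : Submodule k V) := by
  obtain ⟨hnt, hs⟩ := hV
  exact ⟨isSubcomod_top, top_ne_bot, fun X hX _ => hs X hX⟩

/-- The coefficient space of a simple comodule is a simple subcoalgebra. -/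
theorem isSimpleSubcoalg_of_isLeast (hV : HopfRep.IsSimpleComod k C V) (D : Submodule k C)
    (hD : IsLeast {D' : Submodule k C | ∀ e : V, HopfRep.Comod.coact (k := k) (A := C) e ∈
      LinearMap.range (LinearMap.lTensor V D'.subtype)} D) : IsSimpleSubcoalg D := by
  have : D = cfOf (C := C) (⊤ : Submodule k V) := hD.unique isLeast_cfOf_top
  rw [this]
  exact isSimpleSubcoalg_cfOf (isSimpleSub_top_of_isSimpleComod hV)

end SimpleComod

section Misc

variable {k : Type u} {C : Type v} [Field k] [AddCommGroup C] [Module k C] [Coalgebra k C]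
variable {V : Type w} [AddCommGroup V] [Module k V] [HopfRep.Comod k C V]
variable {W : Type w'} [AddCommGroup W] [Module k W] [HopfRep.Comod k C W]

lemma eq_zero_of_coact_mem_lTensor_bot {x : V}
    (h : HopfRep.Comod.coact (k := k) (A := C) x ∈
      LinearMap.range ((⊥ : Submodule k C).subtype.lTensor V)) : x = 0 := by
  rw [← Module.forall_dual_apply_eq_zero_iff k]
  intro φ
  have h1 := (mem_range_lTensor_iff _ _).1 h φ
  rw [Submodule.mem_bot] at h1
  have h2 := counit_coef (C := C) φ x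
  rw [coef_apply, h1, map_zero] at h2
  exact h2.symm

lemma coact_mem_lTensor_of_isComodHom {p : V →ₗ[k] W} (hp : Hoch.IsComodHom C p)
    {D : Submodule k C} {v : V}
    (hv : HopfRep.Comod.coact (k := k) (A := C) v ∈ LinearMap.range (D.subtype.lTensor V)) :
    HopfRep.Comod.coact (k := k) (A := C) (p v) ∈ LinearMap.range (D.subtype.lTensor W) := by
  have h1 := LinearMap.congr_fun hp v
  simp only [LinearMap.comp_apply] at h1
  rw [h1]
  obtain ⟨y, hy⟩ := hv
  rw [← hy]
  refine ⟨p.rTensor D y, ?_⟩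
  rw [← LinearMap.comp_apply, ← LinearMap.comp_apply, LinearMap.lTensor_comp_rTensor,
    LinearMap.rTensor_comp_lTensor]

end Misc

section Iso

variable {k : Type u} {C : Type v} [Field k] [AddCommGroup C] [Module k C] [Coalgebra k C]
variable {V : Type w} [AddCommGroup V] [Module k V] [HopfRep.Comod k C V]
variable {W : Type w'} [AddCommGroup W] [Module k W] [HopfRep.Comod k C W]

lemma isComodHom_comp {U : Type*} [AddCommGroup U] [Module k U] [HopfRep.Comod k C U]
    {f : V →ₗ[k] W} {g : W →ₗ[k] U} (hf : Hoch.IsComodHom C f) (hg : Hoch.IsComodHom C g) :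
    Hoch.IsComodHom C (g ∘ₗ f) := by
  unfold Hoch.IsComodHom at hf hg ⊢
  rw [← LinearMap.comp_assoc, hg, LinearMap.comp_assoc, hf, ← LinearMap.comp_assoc,
    LinearMap.rTensor_comp]

/-- factoring a comodule map through an injective comodule map -/
lemma isComodHom_of_comp_injective {U : Type*} [AddCommGroup U] [Module k U] [HopfRep.Comod k C U]
    {e : V →ₗ[k] W} {g : W →ₗ[k] U} (hg : Hoch.IsComodHom C g) (hinj : Function.Injective g)
    (hge : Hoch.IsComodHom C (g ∘ₗ e)) : Hoch.IsComodHom C e := by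
  unfold Hoch.IsComodHom at hg hge ⊢
  have hinj' : Function.Injective (g.rTensor C) :=
    Module.Flat.rTensor_preserves_injective_linearMap g hinj
  ext x
  apply hinj'
  have h1 := LinearMap.congr_fun hge x
  have h2 := LinearMap.congr_fun hg (e x)
  simp only [LinearMap.comp_apply] at h1 h2 ⊢
  rw [← h2, h1, LinearMap.rTensor_comp, LinearMap.comp_apply]

/-- a nonzero comodule map between simple comodules is bijective -/
theorem bijective_of_isSimpleComod (hV : HopfRep.IsSimpleComod k C V)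
    (hW : HopfRep.IsSimpleComod k C W) {f : V →ₗ[k] W} (hf : Hoch.IsComodHom C f)
    (hne : f ≠ 0) : Function.Bijective f := by
  have hne' : ∃ s ∈ (⊤ : Submodule k V), f s ≠ 0 := by
    by_contra hcon
    push Not at hcon
    exact hne (LinearMap.ext fun x => hcon x trivial)
  constructor
  · have := (isSimpleSub_top_of_isSimpleComod hV).injOn (isHomOn_of_isComodHom hf ⊤) hne'
    rw [← LinearMap.ker_eq_bot, LinearMap.ker_eq_bot']
    exact fun x hx => this x trivial hx
  · rw [← LinearMap.range_eq_top]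
    rcases hW.2 _ (isSubcomod_range hf) with h | h
    · exfalso
      obtain ⟨s, _, hs⟩ := hne'
      have : f s ∈ LinearMap.range f := ⟨s, rfl⟩
      rw [h, Submodule.mem_bot] at this
      exact hs this
    · exact h

/-- Simple comodules with the same coefficient space are isomorphic. -/
theorem exists_equiv_of_cfOf_le (hV : HopfRep.IsSimpleComod k C V)
    (hW : HopfRep.IsSimpleComod k C W)
    (hle : cfOf (C := C) (⊤ : Submodule k W) ≤ cfOf (C := C) (⊤ : Submodule k V)) :
    ∃ e : V ≃ₗ[k] W, Hoch.IsComodHom C e.toLinearMap := by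
  have hVs := isSimpleSub_top_of_isSimpleComod hV
  have hWs := isSimpleSub_top_of_isSimpleComod hW
  -- an embedding of `W` into the regular comodule
  obtain ⟨hWnt, -⟩ := hW
  obtain ⟨x, hx⟩ := exists_ne (0 : W)
  have hφ' : ∃ φ' : W →ₗ[k] k, φ' x ≠ 0 := by
    by_contra hcon
    push Not at hcon
    exact hx ((Module.forall_dual_apply_eq_zero_iff k x).1 hcon)
  obtain ⟨φ', hφ'x⟩ := hφ'
  set g : W →ₗ[k] C := coef (C := C) φ' with hgdef
  have hg : Hoch.IsComodHom C g := coef_isComodHom φ'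
  have hgne : ∃ s ∈ (⊤ : Submodule k W), g s ≠ 0 := by
    refine ⟨x, trivial, fun h => hφ'x ?_⟩
    have := counit_coef (C := C) φ' x
    rw [← this, ← hgdef, h, map_zero]
  have hginjOn := hWs.injOn (isHomOn_of_isComodHom hg ⊤) hgne
  have hginj : Function.Injective g := by
    rw [← LinearMap.ker_eq_bot, LinearMap.ker_eq_bot']
    exact fun y hy => hginjOn y trivial hy
  -- the family of simple subcomodules coming from `V`
  let ι := {φ : V →ₗ[k] k // ∃ s ∈ (⊤ : Submodule k V), coef (C := C) φ s ≠ 0}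
  let T : ι → Submodule k C := fun φ => (⊤ : Submodule k V).map (coef (C := C) φ.1)
  have hhom : ∀ φ : V →ₗ[k] k, IsHomOn (C := C) (coef (C := C) φ) (⊤ : Submodule k V) := fun φ =>
    isHomOn_of_isComodHom (coef_isComodHom φ) ⊤
  have hT : ∀ φ : ι, IsSimpleSub (C := C) (T φ) := fun φ =>
    hVs.map (hhom φ.1) (hVs.injOn (hhom φ.1) φ.2)
  have hsupT : cfOf (C := C) (⊤ : Submodule k V) ≤ ⨆ φ : ι, T φ := by
    refine iSup_le fun φ => ?_
    by_cases hφ : ∃ s ∈ (⊤ : Submodule k V), coef (C := C) φ s ≠ 0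
    · exact le_iSup T ⟨φ, hφ⟩
    · push Not at hφ
      rintro _ ⟨s, hs, rfl⟩
      rw [hφ s hs]
      exact Submodule.zero_mem _
  have hgx0 : g x ≠ 0 := fun h => hx (hginj (by rw [h, map_zero]))
  have hgxmem : g x ∈ ⨆ φ : ι, T φ := hsupT (hle (coef_mem_cfOf φ' trivial))
  obtain ⟨φ, p, hp, hpY, hpne⟩ := exists_hom_of_mem_iSup (C := C) T hT (isSubcomod_range hg)
    (⟨x, rfl⟩ : g x ∈ LinearMap.range g) hgx0 hgxmem
  -- the comodule map `V → C` with image in `range g`
  set h : V →ₗ[k] C := p ∘ₗ coef (C := C) φ.1 with hhdef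
  have hh : Hoch.IsComodHom C h := by
    apply isComodHom_of_isHomOn_top
    intro v _
    have h1 := hp (coef (C := C) φ.1 v) (Submodule.mem_map_of_mem trivial)
    have h2 := LinearMap.congr_fun (coef_isComodHom (C := C) φ.1) v
    simp only [LinearMap.comp_apply] at h2
    rw [hhdef, LinearMap.comp_apply, h1, h2, LinearMap.rTensor_comp, LinearMap.comp_apply]
  have hhmem : ∀ v, h v ∈ LinearMap.range g := fun v =>
    hpY _ (Submodule.mem_map_of_mem trivial)
  have hhne : h ≠ 0 := by
    obtain ⟨s, ⟨v, _, rfl⟩, hs⟩ := hpne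
    intro h0
    apply hs
    have := LinearMap.congr_fun h0 v
    simpa [hhdef] using this
  set e₀ : V →ₗ[k] W := (LinearEquiv.ofInjective g hginj).symm.toLinearMap ∘ₗ
    LinearMap.codRestrict (LinearMap.range g) h hhmem with he₀
  have hge : g ∘ₗ e₀ = h := by
    ext v
    simp only [he₀, LinearMap.comp_apply, LinearEquiv.coe_coe]
    simp
  have he₀hom : Hoch.IsComodHom C e₀ :=
    isComodHom_of_comp_injective hg hginj (by rw [hge]; exact hh)
  have he₀ne : e₀ ≠ 0 := by
    intro h0
    apply hhne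
    rw [← hge, h0, LinearMap.comp_zero]
  have hbij := bijective_of_isSimpleComod hV ⟨hWnt, hWs.2.2 |> fun hs X hX => hs X hX le_top⟩
    he₀hom he₀ne
  exact ⟨LinearEquiv.ofBijective e₀ hbij, he₀hom⟩

end Iso

section Restr

variable {k : Type u} {C : Type v} [Field k] [AddCommGroup C] [Module k C] [Coalgebra k C]
variable {V : Type w} [AddCommGroup V] [Module k V] [c : HopfRep.Comod k C V]

/-- A simple subcomodule, with its induced structure, is a simple comodule. -/
theorem isSimpleComod_restr {S : Submodule k V} (hS : IsSimpleSub (C := C) S) :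
    @HopfRep.IsSimpleComod k C _ _ _ _ S _ _ (ComodSub.Comod.restr c S hS.1) := by
  let _ : HopfRep.Comod k C S := ComodSub.Comod.restr c S hS.1
  have hsub : Hoch.IsComodHom C S.subtype := ComodSub.isComodHom_subtype c S hS.1
  refine ⟨(Submodule.nontrivial_iff_ne_bot).2 hS.2.1, ?_⟩
  intro X hX
  have hmap : HopfRep.IsSubcomod (k := k) (A := C) (X.map S.subtype) := isSubcomod_map hsub hX
  have hle : X.map S.subtype ≤ S := by
    rintro _ ⟨x, _, rfl⟩
    exact x.2
  rcases hS.2.2 _ hmap hle with h | h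
  · left
    rw [eq_bot_iff]
    intro x hx
    have : (x : V) ∈ X.map S.subtype := Submodule.mem_map_of_mem hx
    rw [h, Submodule.mem_bot] at this
    rw [Submodule.mem_bot]
    exact Subtype.ext this
  · right
    rw [eq_top_iff]
    intro x _
    have : (x : V) ∈ X.map S.subtype := by rw [h]; exact x.2
    obtain ⟨y, hy, hyx⟩ := this
    have : y = x := Subtype.ext hyx
    rwa [← this]

end Restr

section Semisimple

variable {k : Type u} {C : Type v} [Field k] [AddCommGroup C] [Module k C] [Coalgebra k C]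
variable {V : Type w} [AddCommGroup V] [Module k V] [HopfRep.Comod k C V]

/-- the coefficient space of a simple subcomodule is a sum of simple subcomodules of the regular
comodule, all with the same coefficient space -/
theorem cfOf_le_sSup_simple_cf {S : Submodule k V} (hS : IsSimpleSub (C := C) S) :
    cfOf (C := C) S ≤ sSup {S' : Submodule k C | IsSimpleSub (C := C) (V := C) S' ∧
      cfOf (C := C) (V := C) S' = cfOf (C := C) S} := by
  refine iSup_le fun φ => ?_
  have hhom : IsHomOn (C := C) (coef (C := C) φ) S := isHomOn_of_isComodHom (coef_isComodHom φ) S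
  by_cases hφ : ∃ s ∈ S, coef (C := C) φ s ≠ 0
  · exact le_sSup ⟨hS.map hhom (hS.injOn hhom hφ),
      cfOf_map_eq_of_homOn hS.1 hhom (hS.injOn hhom hφ)⟩
  · push Not at hφ
    rintro _ ⟨s, hs, rfl⟩
    rw [hφ s hs]
    exact Submodule.zero_mem _

/-- a semisimple comodule is the sum of its simple subcomodules -/
theorem sSup_simple_eq_top_of_semisimple (h : HopfRep.IsSemisimpleComod k C V) :
    sSup {S : Submodule k V | IsSimpleSub (C := C) S} = ⊤ := by
  set soc := sSup {S : Submodule k V | IsSimpleSub (C := C) S} with hsoc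
  have hsocsub : HopfRep.IsSubcomod (k := k) (A := C) soc :=
    isSubcomod_sSup _ fun S hS => hS.1
  obtain ⟨Q, hQ, hcompl⟩ := h soc hsocsub
  by_cases hQ0 : Q = ⊥
  · have := hcompl.sup_eq_top
    rwa [hQ0, sup_bot_eq] at this
  · exfalso
    obtain ⟨S, hS, hSQ⟩ := exists_isSimpleSub_le (C := C) hQ hQ0
    have h1 : S ≤ soc := le_sSup hS
    have h2 : S ≤ soc ⊓ Q := le_inf h1 hSQ
    rw [hcompl.inf_eq_bot] at h2
    exact hS.2.1 (le_bot_iff.1 h2)

variable (k C) in
/-- the insertion `c ↦ v ⊗ c` of the regular comodule into the induced comodule -/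
noncomputable def ins (v : V) : C →ₗ[k] Hoch.Ind k C V :=
  (Hoch.Ind.equiv k C V).toLinearMap ∘ₗ TensorProduct.mk k V C v

theorem ins_isComodHom (v : V) : Hoch.IsComodHom C (ins k C v) := by
  unfold Hoch.IsComodHom
  ext c
  have key : ∀ t : C ⊗[k] C, (TensorProduct.assoc k V C C).symm (v ⊗ₜ[k] t) =
      (TensorProduct.mk k V C v).rTensor C t := by
    intro t
    induction t using TensorProduct.induction_on with
    | zero => simp
    | tmul a b => simp
    | add x y hx hy => simp only [TensorProduct.tmul_add, map_add, hx, hy]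
  exact key (CoalgebraStruct.comul (R := k) c)

theorem sSup_simple_ind_eq_top
    (hC : sSup {S : Submodule k C | IsSimpleSub (C := C) (V := C) S} = ⊤) :
    sSup {S : Submodule k (Hoch.Ind k C V) | IsSimpleSub (C := C) S} = ⊤ := by
  set T := sSup {S : Submodule k (Hoch.Ind k C V) | IsSimpleSub (C := C) S} with hT
  have hins : ∀ v : V, ∀ c : C, ins k C v c ∈ T := by
    intro v c
    have hle : sSup {S : Submodule k C | IsSimpleSub (C := C) (V := C) S} ≤ T.comap (ins k C v) := by
      refine sSup_le fun S hS => ?_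
      have hhom : IsHomOn (C := C) (ins k C v) S :=
        isHomOn_of_isComodHom (ins_isComodHom v) S
      by_cases hne : ∃ s ∈ S, ins k C v s ≠ 0
      · have hsimple : IsSimpleSub (C := C) (S.map (ins k C v)) :=
          IsSimpleSub.map hS hhom (IsSimpleSub.injOn hS hhom hne)
        exact Submodule.map_le_iff_le_comap.1 (le_sSup hsimple)
      · push Not at hne
        intro s hs
        rw [Submodule.mem_comap, hne s hs]
        exact Submodule.zero_mem _
    exact hle (by rw [hC]; trivial)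
  rw [eq_top_iff]
  intro t _
  have : ∀ t : V ⊗[k] C, (Hoch.Ind.equiv k C V t) ∈ T := by
    intro t
    induction t using TensorProduct.induction_on with
    | zero => rw [map_zero]; exact Submodule.zero_mem _
    | tmul v c => exact hins v c
    | add x y hx hy => rw [map_add]; exact Submodule.add_mem _ hx hy
  exact this t

/-- a comodule embedded in a sum of simple comodules is semisimple -/
theorem isSemisimpleComod_of_embedding {W : Type w'} [AddCommGroup W] [Module k W]
    [HopfRep.Comod k C W] (f : V →ₗ[k] W) (hf : Hoch.IsComodHom C f) (hinj : Function.Injective f)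
    (hW : sSup {S : Submodule k W | IsSimpleSub (C := C) S} = ⊤) :
    HopfRep.IsSemisimpleComod k C V := by
  intro X hX
  obtain ⟨s, -, -, hcompl, hQ⟩ := exists_compl_of_sSup_simple (C := C) _ (fun S hS => hS) hW
    (isSubcomod_map hf hX)
  refine ⟨(sSup s).comap f, isSubcomod_comap hf hQ, ?_⟩
  constructor
  · rw [disjoint_iff, eq_bot_iff]
    rintro x ⟨hxX, hxQ⟩
    have : f x ∈ X.map f ⊓ sSup s := ⟨Submodule.mem_map_of_mem hxX, hxQ⟩
    rw [hcompl.inf_eq_bot, Submodule.mem_bot] at this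
    rw [Submodule.mem_bot]
    exact hinj (by rw [this, map_zero])
  · rw [codisjoint_iff, eq_top_iff]
    intro v _
    have : f v ∈ X.map f ⊔ sSup s := by rw [hcompl.sup_eq_top]; trivial
    obtain ⟨a, ⟨x, hx, rfl⟩, q, hq, hsum⟩ := Submodule.mem_sup.1 this
    have hq' : f (v - x) = q := by rw [map_sub, ← hsum]; abel
    have : v = x + (v - x) := by abel
    rw [this]
    exact Submodule.add_mem _ (Submodule.mem_sup_left hx)
      (Submodule.mem_sup_right (by rw [Submodule.mem_comap, hq']; exact hq))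

end Semisimple

end Groth.Agent.H12Coeff
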