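import Mathlib
import Groth.Prelude.Def_W4c5flasquetoriphsGLat

set_option autoImplicit false
set_option linter.style.haveILetI false
set_option linter.unusedSectionVars false

namespace H12CF

section h1
variable {H : Type} [Group H] [Finite H] {X : Type} [MulAction H X]

lemma exists_rep : ∃ rep : X → X, (∀ x, ∃ b : H, b • x = rep x) ∧ ∀ (a : H) (x : X), rep (a • x) = rep x := by
  refine ⟨fun x => (Quotient.mk'' x : MulAction.orbitRel.Quotient H X).out, ?_, ?_⟩
  · intro x
    have h1 : (Quotient.mk'' ((Quotient.mk'' x : MulAction.orbitRel.Quotient H X).out) :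
        MulAction.orbitRel.Quotient H X) = Quotient.mk'' x := Quotient.out_eq' _
    have h3 := Quotient.exact' h1
    have h4 : (Quotient.mk'' x : MulAction.orbitRel.Quotient H X).out ∈ MulAction.orbit H x :=
      MulAction.orbitRel_apply.1 h3
    exact MulAction.mem_orbit_iff.1 h4
  · intro a x
    show (Quotient.mk'' (a • x) : MulAction.orbitRel.Quotient H X).out =
      (Quotient.mk'' x : MulAction.orbitRel.Quotient H X).out
    congr 1
    apply Quotient.sound'
    exact MulAction.orbitRel_apply.2 (MulAction.mem_orbit _ _)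

lemma h1_perm (f : H → X → ℤ)
    (hf : ∀ a b x, f (a * b) x = f a x + f b (a⁻¹ • x)) :
    ∃ m : X → ℤ, ∀ a x, f a x = m (a⁻¹ • x) - m x := by
  have h1 : ∀ x, f 1 x = 0 := by
    intro x
    have := hf 1 1 x
    simp only [mul_one, inv_one, one_smul] at this
    omega
  have hpow : ∀ (k : H) (x₀ : X), k • x₀ = x₀ → ∀ n : ℕ, f (k ^ n) x₀ = n * f k x₀ := by
    intro k x₀ hk n
    induction n with
    | zero => simp [h1]
    | succ n ih =>
      have hk' : k⁻¹ • x₀ = x₀ := by rw [inv_smul_eq_iff, hk]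
      rw [pow_succ', hf, hk', ih]
      push_cast
      ring
  have hstab : ∀ (k : H) (x₀ : X), k • x₀ = x₀ → f k x₀ = 0 := by
    intro k x₀ hk
    have h2 := hpow k x₀ hk (orderOf k)
    rw [pow_orderOf_eq_one, h1] at h2
    have hpos : 0 < orderOf k := orderOf_pos k
    rcases mul_eq_zero.1 h2.symm with h | h
    · have : (orderOf k : ℤ) ≠ 0 := by exact_mod_cast hpos.ne'
      exact absurd h this
    · exact h
  obtain ⟨rep, hrep_orbit, hrep_smul⟩ := exists_rep (H := H) (X := X)
  choose b hb using hrep_orbit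
  have h6 : ∀ x, (b x)⁻¹ • rep x = x := by
    intro x
    rw [inv_smul_eq_iff, hb x]
  have key : ∀ x (c : H), c • x = rep x → f c (rep x) = f (b x) (rep x) := by
    intro x c hc
    have hk : (c * (b x)⁻¹) • rep x = rep x := by
      rw [mul_smul, h6 x, hc]
    have h7 := hf (c * (b x)⁻¹) (b x) (rep x)
    rw [inv_mul_cancel_right] at h7
    have hk' : (c * (b x)⁻¹)⁻¹ • rep x = rep x := by rw [inv_smul_eq_iff, hk]
    rw [h7, hstab _ _ hk, zero_add, hk']
  refine ⟨fun x => f (b x) (rep x), fun a x => ?_⟩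
  have h4 := key (a⁻¹ • x) (b x * a) (by rw [mul_smul, smul_inv_smul, hb x, hrep_smul])
  rw [hrep_smul] at h4
  have h5 := hf (b x) a (rep x)
  rw [h6 x] at h5
  show f a x = f (b (a⁻¹ • x)) (rep (a⁻¹ • x)) - f (b x) (rep x)
  rw [hrep_smul, ← h4, h5]
  ring

end h1

section tau
variable (G : Type) [Group G] (X : Type) [MulAction G X]

/-- permutation representation on `X →₀ ℤ` -/
noncomputable def tau : Representation ℤ G (X →₀ ℤ) where
  toFun g := Finsupp.lmapDomain ℤ ℤ (g • ·)
  map_one' := by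
    apply Finsupp.lhom_ext
    intro x c
    simp [Finsupp.lmapDomain_apply, Finsupp.mapDomain_single]
  map_mul' g h := by
    apply Finsupp.lhom_ext
    intro x c
    simp [Finsupp.lmapDomain_apply, Finsupp.mapDomain_single, mul_smul]

lemma tau_single (g : G) (x : X) (c : ℤ) :
    tau G X g (Finsupp.single x c) = Finsupp.single (g • x) c := by
  show Finsupp.lmapDomain ℤ ℤ (g • ·) (Finsupp.single x c) = _
  rw [Finsupp.lmapDomain_apply, Finsupp.mapDomain_single]

lemma tau_apply (g : G) (p : X →₀ ℤ) (x : X) : tau G X g p x = p (g⁻¹ • x) := by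
  show Finsupp.lmapDomain ℤ ℤ (g • ·) p x = _
  rw [Finsupp.lmapDomain_apply]
  have := Finsupp.mapDomain_apply (MulAction.injective g) p (g⁻¹ • x)
  rw [smul_inv_smul] at this
  exact this

end tau

section construct
variable {G : Type} [Group G] {A : Type} [AddCommGroup A] (ρ : Representation ℤ G A)

/-- invariants of a subgroup -/
def inv (H : Subgroup G) : Submodule ℤ A where
  carrier := {a | ∀ h ∈ H, ρ h a = a}
  add_mem' := by
    intro a b ha hb h hh
    rw [map_add, ha h hh, hb h hh]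
  zero_mem' := by
    intro h _
    rw [map_zero]
  smul_mem' := by
    intro c a ha h hh
    rw [map_smul, ha h hh]

lemma mem_inv (H : Subgroup G) (a : A) : a ∈ inv ρ H ↔ ∀ h ∈ H, ρ h a = a := Iff.rfl

variable (r : Subgroup G → ℕ)

/-- index set of the permutation basis -/
def Idx : Type := Σ H : Subgroup G, Fin (r H) × (G ⧸ H)

instance [Finite G] : Finite (Idx r) := by
  unfold Idx
  infer_instance

/-- constructor -/
def Idx.mk' (H : Subgroup G) (j : Fin (r H)) (q : G ⧸ H) : Idx r := ⟨H, (j, q)⟩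

instance : MulAction G (Idx r) where
  smul g p := ⟨p.1, (p.2.1, g • p.2.2)⟩
  one_smul := by
    rintro ⟨H, j, q⟩
    show (⟨H, (j, (1 : G) • q)⟩ : Idx r) = ⟨H, (j, q)⟩
    rw [one_smul]
  mul_smul := by
    rintro g g' ⟨H, j, q⟩
    show (⟨H, (j, (g * g') • q)⟩ : Idx r) = ⟨H, (j, g • g' • q)⟩
    rw [mul_smul]

lemma smul_mk' (g : G) (H : Subgroup G) (j : Fin (r H)) (q : G ⧸ H) :
    g • Idx.mk' r H j q = Idx.mk' r H j (g • q) := rfl

variable (gen : ∀ H : Subgroup G, Fin (r H) → A)

/-- images of the basis vectors -/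
noncomputable def vmap : Idx r → A := fun p => ρ (Quotient.out p.2.2) (gen p.1 p.2.1)

lemma vmap_mk (hinv : ∀ H j, gen H j ∈ inv ρ H) (H : Subgroup G) (j : Fin (r H)) (g : G) :
    vmap ρ r gen (Idx.mk' r H j (g : G ⧸ H)) = ρ g (gen H j) := by
  obtain ⟨h, hh⟩ := QuotientGroup.mk_out_eq_mul H g
  show ρ (Quotient.out (g : G ⧸ H)) (gen H j) = _
  rw [hh, map_mul, Module.End.mul_apply, hinv H j h h.2]

lemma vmap_smul (hinv : ∀ H j, gen H j ∈ inv ρ H) (g : G) (p : Idx r) :
    vmap ρ r gen (g • p) = ρ g (vmap ρ r gen p) := by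
  obtain ⟨H, j, q⟩ := p
  induction q using QuotientGroup.induction_on with
  | H x =>
    show vmap ρ r gen (g • Idx.mk' r H j (x : G ⧸ H)) = ρ g (vmap ρ r gen (Idx.mk' r H j (x : G ⧸ H)))
    rw [smul_mk', MulAction.Quotient.smul_mk, vmap_mk ρ r gen hinv, vmap_mk ρ r gen hinv,
      smul_eq_mul, map_mul, Module.End.mul_apply]

/-- the surjection `P → A` -/
noncomputable def pi : (Idx r →₀ ℤ) →ₗ[ℤ] A := Finsupp.linearCombination ℤ (vmap ρ r gen)

lemma pi_single (p : Idx r) (c : ℤ) : pi ρ r gen (Finsupp.single p c) = c • vmap ρ r gen p := by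
  rw [pi, Finsupp.linearCombination_single]

lemma pi_equivariant (hinv : ∀ H j, gen H j ∈ inv ρ H) (g : G) (p : Idx r →₀ ℤ) :
    pi ρ r gen (tau G (Idx r) g p) = ρ g (pi ρ r gen p) := by
  have h : pi ρ r gen ∘ₗ tau G (Idx r) g = ρ g ∘ₗ pi ρ r gen := by
    apply Finsupp.lhom_ext
    intro x c
    rw [LinearMap.comp_apply, LinearMap.comp_apply, tau_single, pi_single, pi_single,
      vmap_smul ρ r gen hinv, map_smul]
  exact LinearMap.congr_fun h p

/-- invariant lifts -/
lemma exists_inv_lift (hinv : ∀ H j, gen H j ∈ inv ρ H)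
    (hgen : ∀ H, Submodule.span ℤ (Set.range (gen H)) = inv ρ H) (H : Subgroup G) (y : A)
    (hy : y ∈ inv ρ H) :
    ∃ p : Idx r →₀ ℤ, pi ρ r gen p = y ∧ ∀ a ∈ H, tau G (Idx r) a p = p := by
  rw [← hgen H, Submodule.mem_span_range_iff_exists_fun] at hy
  obtain ⟨c, hc⟩ := hy
  refine ⟨∑ j, Finsupp.single (Idx.mk' r H j ((1 : G) : G ⧸ H)) (c j), ?_, ?_⟩
  · rw [map_sum, ← hc]
    apply Finset.sum_congr rfl
    intro j _
    rw [pi_single, vmap_mk ρ r gen hinv, map_one, Module.End.one_apply]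
  · intro a ha
    rw [map_sum]
    apply Finset.sum_congr rfl
    intro j _
    rw [tau_single, smul_mk', MulAction.Quotient.smul_mk, smul_eq_mul, mul_one]
    congr 2
    rw [QuotientGroup.eq, mul_one]
    exact H.inv_mem ha

end construct

section final
variable (G : Type) [Group G] [Finite G] (A : Type) [AddCommGroup A] [Module.Finite ℤ A]
  (ρ : Representation ℤ G A)

theorem main : ∃ (Q : Type) (_ : AddCommGroup Q) (P : Type) (_ : AddCommGroup P)
      (_ : Module.Finite ℤ Q) (_ : Module.Free ℤ Q) (_ : Module.Finite ℤ P) (_ : Module.Free ℤ P)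
      (σ : Representation ℤ G Q) (τ : Representation ℤ G P) (i : Q →ₗ[ℤ] P) (π : P →ₗ[ℤ] A),
      GLat.IsEquivariant σ τ i ∧ GLat.IsEquivariant τ ρ π ∧ Function.Injective i ∧
      Function.Surjective π ∧
      LinearMap.range i = LinearMap.ker π ∧ GLat.IsPermutation τ ∧ GLat.IsCoflasque σ := by
  classical
  have hfg : ∀ H : Subgroup G, ∃ (n : ℕ) (s : Fin n → A),
      Submodule.span ℤ (Set.range s) = inv ρ H :=
    fun H => Submodule.fg_iff_exists_fin_generating_family.1 (IsNoetherian.noetherian _)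
  choose r gen hgen using hfg
  have hinv : ∀ H j, gen H j ∈ inv ρ H := by
    intro H j
    rw [← hgen H]
    exact Submodule.subset_span ⟨j, rfl⟩
  have hle : ∀ g, LinearMap.ker (pi ρ r gen) ≤
      (LinearMap.ker (pi ρ r gen)).comap (tau G (Idx r) g) := by
    intro g p hp
    rw [Submodule.mem_comap, LinearMap.mem_ker, pi_equivariant ρ r gen hinv,
      LinearMap.mem_ker.1 hp, map_zero]
  refine ⟨↥(LinearMap.ker (pi ρ r gen)), inferInstance, Idx r →₀ ℤ, inferInstance, inferInstance,
    inferInstance, inferInstance, inferInstance,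
    (tau G (Idx r)).subrepresentation (LinearMap.ker (pi ρ r gen)) hle, tau G (Idx r),
    (LinearMap.ker (pi ρ r gen)).subtype, pi ρ r gen, ?_, ?_, ?_, ?_, ?_, ?_, ?_⟩
  · intro g m
    rfl
  · intro g p
    exact pi_equivariant ρ r gen hinv g p
  · exact Submodule.subtype_injective _
  · intro y
    obtain ⟨p, hp, -⟩ := exists_inv_lift ρ r gen hinv hgen ⊥ y (by
      intro h hh
      rw [Subgroup.mem_bot.1 hh, map_one]
      rfl)
    exact ⟨p, hp⟩
  · exact Submodule.range_subtype _
  · refine ⟨Idx r, Finsupp.basisSingleOne, fun g i => ⟨g • i, ?_⟩⟩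
    rw [Finsupp.coe_basisSingleOne]
    exact tau_single G (Idx r) g i 1
  · intro H' f hf
    have hA : ∃ m : Idx r → ℤ, ∀ (a : H') (x : Idx r),
        (f a : Idx r →₀ ℤ) x = m (a⁻¹ • x) - m x := by
      apply h1_perm (H := H') (X := Idx r) (fun a x => (f a : Idx r →₀ ℤ) x)
      intro a b x
      have h2 := congrArg (fun q : ↥(LinearMap.ker (pi ρ r gen)) => (q : Idx r →₀ ℤ) x) (hf a b)
      rw [h2]
      show ((f a : Idx r →₀ ℤ) + tau G (Idx r) (a : G) (f b : Idx r →₀ ℤ)) x = _
      rw [Finsupp.add_apply, tau_apply]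
      rfl
    obtain ⟨m, hm⟩ := hA
    have hp : ∀ a : H', (f a : Idx r →₀ ℤ) =
        tau G (Idx r) (a : G) (Finsupp.equivFunOnFinite.symm m) -
          Finsupp.equivFunOnFinite.symm m := by
      intro a
      ext x
      rw [Finsupp.sub_apply, tau_apply, hm a x]
      rfl
    have hπp : pi ρ r gen (Finsupp.equivFunOnFinite.symm m) ∈ inv ρ H' := by
      intro h hh
      have h3 : pi ρ r gen (tau G (Idx r) h (Finsupp.equivFunOnFinite.symm m) -
          Finsupp.equivFunOnFinite.symm m) = 0 := by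
        rw [← hp ⟨h, hh⟩]
        exact (f ⟨h, hh⟩).2
      rw [map_sub, pi_equivariant ρ r gen hinv, sub_eq_zero] at h3
      exact h3
    obtain ⟨p', hp'1, hp'2⟩ := exists_inv_lift ρ r gen hinv hgen H' _ hπp
    have hmem : Finsupp.equivFunOnFinite.symm m - p' ∈ LinearMap.ker (pi ρ r gen) := by
      rw [LinearMap.mem_ker, map_sub, hp'1, sub_self]
    refine ⟨⟨Finsupp.equivFunOnFinite.symm m - p', hmem⟩, fun a => ?_⟩
    apply Subtype.ext
    show (f a : Idx r →₀ ℤ) = tau G (Idx r) (a : G) (Finsupp.equivFunOnFinite.symm m - p') -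
      (Finsupp.equivFunOnFinite.symm m - p')
    rw [hp a, map_sub, hp'2 a a.2]
    abel

end final

end H12CF
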