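import Mathlib
import Groth.Prelude.Def_W4c5flasquetoriphsGLat
import Groth.Agent.Lib.helper12.Coflasque

set_option autoImplicit false
set_option linter.style.haveILetI false
set_option linter.unusedSectionVars false

namespace H12FL

open H12CF

section sat
variable {A : Type} [AddCommGroup A]

/-- saturation of a subgroup -/
def sat (I : Submodule ℤ A) : Submodule ℤ A where
  carrier := {a | ∃ c : ℤ, c ≠ 0 ∧ c • a ∈ I}
  add_mem' := by
    rintro a b ⟨c, hc, hca⟩ ⟨d, hd, hdb⟩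
    refine ⟨c * d, mul_ne_zero hc hd, ?_⟩
    rw [smul_add]
    have h1 : (c * d) • a = d • (c • a) := by rw [smul_smul, mul_comm]
    have h2 : (c * d) • b = c • (d • b) := by rw [smul_smul]
    rw [h1, h2]
    exact I.add_mem (I.smul_mem d hca) (I.smul_mem c hdb)
  zero_mem' := ⟨1, one_ne_zero, by rw [smul_zero]; exact I.zero_mem⟩
  smul_mem' := by
    rintro n a ⟨c, hc, hca⟩
    refine ⟨c, hc, ?_⟩
    rw [smul_comm]
    exact I.smul_mem n hca

lemma mem_sat (I : Submodule ℤ A) (a : A) : a ∈ sat I ↔ ∃ c : ℤ, c ≠ 0 ∧ c • a ∈ I := Iff.rfl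

instance sat_torsionFree (I : Submodule ℤ A) : Module.IsTorsionFree ℤ (A ⧸ sat I) := by
  apply Module.IsTorsionFree.of_smul_eq_zero
  intro c q hq
  obtain ⟨a, rfl⟩ := Submodule.Quotient.mk_surjective _ q
  by_cases hc : c = 0
  · exact Or.inl hc
  · right
    rw [← Submodule.Quotient.mk_smul, Submodule.Quotient.mk_eq_zero] at hq
    obtain ⟨d, hd, hda⟩ := hq
    rw [Submodule.Quotient.mk_eq_zero]
    exact ⟨d * c, mul_ne_zero hd hc, by rw [mul_smul]; exact hda⟩

lemma exists_functionals [Module.Finite ℤ A] (I : Submodule ℤ A) :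
    ∃ (n : ℕ) (φ : Fin n → (A →ₗ[ℤ] ℤ)), (∀ j, ∀ a ∈ I, φ j a = 0) ∧
      ∀ (a : A) (m : ℤ), (∀ j, m ∣ φ j a) →
        ∃ a' : A, ∃ c : ℤ, c ≠ 0 ∧ c • (a - m • a') ∈ I := by
  haveI : Module.Free ℤ (A ⧸ sat I) := Module.free_of_finite_type_torsion_free'
  let e := Module.finBasis ℤ (A ⧸ sat I)
  refine ⟨Module.finrank ℤ (A ⧸ sat I), fun j => e.coord j ∘ₗ (sat I).mkQ, ?_, ?_⟩
  · intro j a ha
    have h0 : (sat I).mkQ a = 0 := by
      rw [Submodule.mkQ_apply, Submodule.Quotient.mk_eq_zero]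
      exact ⟨1, one_ne_zero, by rw [one_smul]; exact ha⟩
    show e.coord j ((sat I).mkQ a) = 0
    rw [h0, map_zero]
  · intro a m hdiv
    have hdiv' : ∀ j, ∃ c : ℤ, e.repr (Submodule.Quotient.mk a) j = m * c := fun j => hdiv j
    choose k hk using hdiv'
    obtain ⟨a', ha'⟩ := Submodule.Quotient.mk_surjective (sat I) (∑ j, k j • e j)
    refine ⟨a', ?_⟩
    have h0 : (Submodule.Quotient.mk (a - m • a') : A ⧸ sat I) = 0 := by
      rw [Submodule.Quotient.mk_sub, Submodule.Quotient.mk_smul, ha', sub_eq_zero]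
      have h1 : (Submodule.Quotient.mk a : A ⧸ sat I) =
          ∑ j, e.repr (Submodule.Quotient.mk a) j • e j := (e.sum_repr _).symm
      rw [h1, Finset.smul_sum]
      apply Finset.sum_congr rfl
      intro j _
      rw [hk j, smul_smul]
    exact (Submodule.Quotient.mk_eq_zero _).1 h0

end sat

section perm
variable {G : Type} [Group G] {X : Type} [MulAction G X]

/-- `Ĥ⁻¹` of a permutation module vanishes -/
lemma hm1_perm (H : Subgroup G) [Fintype H] (p : X →₀ ℤ)
    (hp : ∑ h : H, tau G X (h : G) p = 0) :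
    p ∈ Submodule.span ℤ
      {x : X →₀ ℤ | ∃ (h : H) (y : X →₀ ℤ), x = tau G X (h : G) y - y} := by
  obtain ⟨rep, hrep_orbit, hrep_smul⟩ := exists_rep (H := H) (X := X)
  choose b hb using hrep_orbit
  have hR : ∀ (h : H) (q : X →₀ ℤ),
      Finsupp.lmapDomain ℤ ℤ rep (tau G X (h : G) q) = Finsupp.lmapDomain ℤ ℤ rep q := by
    intro h
    have : Finsupp.lmapDomain ℤ ℤ rep ∘ₗ tau G X (h : G) = Finsupp.lmapDomain ℤ ℤ rep := by
      apply Finsupp.lhom_ext
      intro x c
      rw [LinearMap.comp_apply, tau_single, Finsupp.lmapDomain_apply, Finsupp.mapDomain_single,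
        Finsupp.lmapDomain_apply, Finsupp.mapDomain_single]
      have : rep ((h : G) • x) = rep x := hrep_smul h x
      rw [this]
    intro q
    exact LinearMap.congr_fun this q
  have hRp : Finsupp.lmapDomain ℤ ℤ rep p = 0 := by
    have h1 := congrArg (Finsupp.lmapDomain ℤ ℤ rep) hp
    rw [map_sum, map_zero, Finset.sum_congr rfl (fun h _ => hR h p), Finset.sum_const,
      Finset.card_univ, ← natCast_zsmul] at h1
    rcases smul_eq_zero.1 h1 with h | h
    · exact absurd h (by exact_mod_cast Fintype.card_ne_zero)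
    · exact h
  have hdecomp : p = p.sum (fun x c => Finsupp.single x c - Finsupp.single (rep x) c) := by
    rw [Finsupp.sum_sub, Finsupp.sum_single]
    have : (p.sum fun x c => Finsupp.single (rep x) c) = Finsupp.lmapDomain ℤ ℤ rep p := rfl
    rw [this, hRp, sub_zero]
  rw [hdecomp]
  unfold Finsupp.sum
  apply Submodule.sum_mem
  intro x _
  have e : Finsupp.single x (p x) - Finsupp.single (rep x) (p x) =
      (-(p x)) • (tau G X ((b x : H) : G) (Finsupp.single x 1) - Finsupp.single x 1) := by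
    rw [tau_single]
    have : ((b x : H) : G) • x = rep x := hb x
    rw [this, smul_sub, Finsupp.smul_single, Finsupp.smul_single, smul_eq_mul, mul_one]
    rw [Finsupp.single_neg, Finsupp.single_neg]
    abel
  show Finsupp.single x (p x) - Finsupp.single (rep x) (p x) ∈ _
  rw [e]
  exact Submodule.smul_mem _ _ (Submodule.subset_span ⟨b x, Finsupp.single x 1, rfl⟩)

end perm

section norm
variable {G : Type} [Group G] {A : Type} [AddCommGroup A] (ρ : Representation ℤ G A)

/-- augmentation submodule -/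
def IH (H : Subgroup G) : Submodule ℤ A :=
  Submodule.span ℤ {x : A | ∃ (h : H) (y : A), x = ρ (h : G) y - y}

/-- norm -/
noncomputable def nrm (H : Subgroup G) [Fintype H] : A →ₗ[ℤ] A := ∑ h : H, ρ (h : G)

lemma nrm_apply (H : Subgroup G) [Fintype H] (a : A) : nrm ρ H a = ∑ h : H, ρ (h : G) a := by
  rw [nrm, LinearMap.sum_apply]

lemma nrm_IH (H : Subgroup G) [Fintype H] {x : A} (hx : x ∈ IH ρ H) : nrm ρ H x = 0 := by
  have hle : IH ρ H ≤ LinearMap.ker (nrm ρ H) := by
    rw [IH, Submodule.span_le]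
    rintro _ ⟨h, y, rfl⟩
    rw [SetLike.mem_coe, LinearMap.mem_ker, nrm_apply]
    simp only [map_sub, Finset.sum_sub_distrib]
    rw [sub_eq_zero]
    exact Fintype.sum_equiv (Equiv.mulRight h) _ _ (fun h' => by
      show ρ (h' : G) (ρ (h : G) y) = ρ ((h' * h : H) : G) y
      rw [Subgroup.coe_mul, map_mul, Module.End.mul_apply])
  exact LinearMap.mem_ker.1 (hle hx)

lemma detect [Module.Free ℤ A] (H : Subgroup G) [Fintype H] (a : A)
    (ha : ∀ h ∈ H, ρ h a = a) (a' : A) (c : ℤ) (hc : c ≠ 0)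
    (hmem : c • (a - (Fintype.card H : ℤ) • a') ∈ IH ρ H) : a = nrm ρ H a' := by
  have h1 := nrm_IH ρ H hmem
  rw [map_smul, map_sub, map_smul] at h1
  have h2 : nrm ρ H a = (Fintype.card H : ℤ) • a := by
    rw [nrm_apply, Finset.sum_congr rfl (fun (h : H) _ => ha (h : G) h.2), Finset.sum_const,
      Finset.card_univ, natCast_zsmul]
  rw [h2, ← smul_sub] at h1
  rcases smul_eq_zero.1 h1 with h | h
  · exact absurd h hc
  · rcases smul_eq_zero.1 h with h' | h'
    · exact absurd h' (by exact_mod_cast Fintype.card_ne_zero)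
    · exact sub_eq_zero.1 h'

end norm

section construct
variable {G : Type} [Group G] [Finite G] {A : Type} [AddCommGroup A] (ρ : Representation ℤ G A)
variable (r : Subgroup G → ℕ) (φ : ∀ H : Subgroup G, Fin (r H) → (A →ₗ[ℤ] ℤ))

/-- the embedding `A → P` -/
noncomputable def imap : A →ₗ[ℤ] (Idx r →₀ ℤ) :=
  (Finsupp.linearEquivFunOnFinite ℤ ℤ (Idx r)).symm.toLinearMap ∘ₗ
    LinearMap.pi (fun p : Idx r => φ p.1 p.2.1 ∘ₗ ρ (Quotient.out p.2.2)⁻¹)

lemma imap_apply (a : A) (p : Idx r) :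
    imap ρ r φ a p = φ p.1 p.2.1 (ρ (Quotient.out p.2.2)⁻¹ a) := rfl

variable (hinv : ∀ (H : Subgroup G) (j : Fin (r H)) (h : G), h ∈ H → ∀ a, φ H j (ρ h a) = φ H j a)

include hinv in
lemma imap_mk (H : Subgroup G) (j : Fin (r H)) (g : G) (a : A) :
    imap ρ r φ a (Idx.mk' r H j (g : G ⧸ H)) = φ H j (ρ g⁻¹ a) := by
  obtain ⟨h, hh⟩ := QuotientGroup.mk_out_eq_mul H g
  rw [imap_apply]
  show φ H j (ρ (Quotient.out (g : G ⧸ H))⁻¹ a) = _
  rw [hh, mul_inv_rev, map_mul, Module.End.mul_apply]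
  exact hinv H j _ (H.inv_mem h.2) _

include hinv in
lemma imap_equivariant (g : G) (a : A) :
    imap ρ r φ (ρ g a) = tau G (Idx r) g (imap ρ r φ a) := by
  ext p
  obtain ⟨H, j, q⟩ := p
  induction q using QuotientGroup.induction_on with
  | H x =>
    show imap ρ r φ (ρ g a) (Idx.mk' r H j (x : G ⧸ H)) =
      (tau G (Idx r) g (imap ρ r φ a)) (Idx.mk' r H j (x : G ⧸ H))
    rw [tau_apply, smul_mk', MulAction.Quotient.smul_mk, imap_mk ρ r φ hinv,
      imap_mk ρ r φ hinv, smul_eq_mul, mul_inv_rev, inv_inv, map_mul, Module.End.mul_apply]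

lemma sum_tau_apply_one (H : Subgroup G) [Fintype H] (j : Fin (r H)) (p : Idx r →₀ ℤ) :
    (∑ h : H, tau G (Idx r) (h : G) p) (Idx.mk' r H j ((1 : G) : G ⧸ H)) =
      (Fintype.card H : ℤ) * p (Idx.mk' r H j ((1 : G) : G ⧸ H)) := by
  rw [Finsupp.finsetSum_apply]
  have h1 : ∀ h : H, (tau G (Idx r) (h : G) p) (Idx.mk' r H j ((1 : G) : G ⧸ H)) =
      p (Idx.mk' r H j ((1 : G) : G ⧸ H)) := by
    intro h
    rw [tau_apply, smul_mk', MulAction.Quotient.smul_mk, smul_eq_mul, mul_one]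
    have e : ((((h : G))⁻¹ : G) : G ⧸ H) = ((1 : G) : G ⧸ H) := by
      rw [QuotientGroup.eq, mul_one, inv_inv]
      exact h.2
    rw [e]
  rw [Finset.sum_congr rfl (fun h _ => h1 h), Finset.sum_const, Finset.card_univ, nsmul_eq_mul]

end construct

section final
variable (G : Type) [Group G] [Finite G] (A : Type) [AddCommGroup A] [Module.Finite ℤ A]
  [Module.Free ℤ A] (ρ : Representation ℤ G A)

theorem main : ∃ (P : Type) (_ : AddCommGroup P) (F : Type) (_ : AddCommGroup F)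
      (_ : Module.Finite ℤ P) (_ : Module.Free ℤ P) (_ : Module.Finite ℤ F) (_ : Module.Free ℤ F)
      (σ : Representation ℤ G P) (τ : Representation ℤ G F) (i : A →ₗ[ℤ] P) (π : P →ₗ[ℤ] F),
      GLat.IsEquivariant ρ σ i ∧ GLat.IsEquivariant σ τ π ∧ Function.Injective i ∧
      Function.Surjective π ∧
      LinearMap.range i = LinearMap.ker π ∧ GLat.IsPermutation σ ∧ GLat.IsFlasque τ := by
  classical
  have hE : ∀ H : Subgroup G, ∃ (n : ℕ) (φ : Fin n → (A →ₗ[ℤ] ℤ)),
      (∀ j, ∀ a ∈ IH ρ H, φ j a = 0) ∧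
      ∀ (a : A) (m : ℤ), (∀ j, m ∣ φ j a) →
        ∃ a' : A, ∃ c : ℤ, c ≠ 0 ∧ c • (a - m • a') ∈ IH ρ H :=
    fun H => exists_functionals (IH ρ H)
  choose r φ hφ0 hdet using hE
  have hinv : ∀ (H : Subgroup G) (j : Fin (r H)) (h : G), h ∈ H →
      ∀ a, φ H j (ρ h a) = φ H j a := by
    intro H j h hh a
    have h0 := hφ0 H j (ρ h a - a) (Submodule.subset_span ⟨⟨h, hh⟩, a, rfl⟩)
    rw [map_sub, sub_eq_zero] at h0
    exact h0
  have hbot : IH ρ (⊥ : Subgroup G) = ⊥ := by
    rw [IH, Submodule.span_eq_bot]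
    rintro x ⟨h, y, rfl⟩
    have h1 : (h : G) = 1 := Subgroup.mem_bot.1 h.2
    rw [h1, map_one, Module.End.one_apply, sub_self]
  have hkey : ∀ (a : A) (m : ℤ), (∀ j, m ∣ φ ⊥ j a) → ∃ a', a = m • a' := by
    intro a m hdiv
    obtain ⟨a', c, hc, hmem⟩ := hdet ⊥ a m hdiv
    rw [hbot, Submodule.mem_bot] at hmem
    refine ⟨a', ?_⟩
    rcases smul_eq_zero.1 hmem with h | h
    · exact absurd h hc
    · exact sub_eq_zero.1 h
  have hiφ : ∀ a j, imap ρ r φ a (Idx.mk' r ⊥ j ((1 : G) : G ⧸ (⊥ : Subgroup G))) = φ ⊥ j a := by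
    intro a j
    rw [imap_mk ρ r φ hinv, inv_one, map_one, Module.End.one_apply]
  have hinj : Function.Injective (imap ρ r φ) := by
    rw [injective_iff_map_eq_zero]
    intro a ha
    obtain ⟨a', ha'⟩ := hkey a 0 (fun j => by
      rw [← hiφ a j, ha, Finsupp.zero_apply])
    rw [ha', zero_smul]
  have hle : ∀ g, LinearMap.range (imap ρ r φ) ≤
      (LinearMap.range (imap ρ r φ)).comap (tau G (Idx r) g) := by
    rintro g _ ⟨a, rfl⟩
    exact Submodule.mem_comap.2 (LinearMap.mem_range.2 ⟨ρ g a, imap_equivariant ρ r φ hinv g a⟩)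
  haveI : Module.IsTorsionFree ℤ ((Idx r →₀ ℤ) ⧸ LinearMap.range (imap ρ r φ)) := by
    apply Module.IsTorsionFree.of_smul_eq_zero
    intro n q hq
    obtain ⟨p, rfl⟩ := Submodule.Quotient.mk_surjective _ q
    by_cases hn : n = 0
    · exact Or.inl hn
    right
    rw [← Submodule.Quotient.mk_smul, Submodule.Quotient.mk_eq_zero] at hq
    obtain ⟨a, ha⟩ := hq
    obtain ⟨a', ha'⟩ := hkey a n (fun j =>
      ⟨p (Idx.mk' r ⊥ j ((1 : G) : G ⧸ (⊥ : Subgroup G))), by
        rw [← hiφ a j, ha, Finsupp.smul_apply, smul_eq_mul]⟩)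
    rw [Submodule.Quotient.mk_eq_zero]
    refine ⟨a', ?_⟩
    have h3 : n • (imap ρ r φ a' - p) = 0 := by
      rw [smul_sub, ← map_smul, ← ha', ha, sub_self]
    rcases smul_eq_zero.1 h3 with h | h
    · exact absurd h hn
    · exact sub_eq_zero.1 h
  haveI : Module.Free ℤ ((Idx r →₀ ℤ) ⧸ LinearMap.range (imap ρ r φ)) :=
    Module.free_of_finite_type_torsion_free'
  refine ⟨Idx r →₀ ℤ, inferInstance, (Idx r →₀ ℤ) ⧸ LinearMap.range (imap ρ r φ), inferInstance,
    inferInstance, inferInstance, inferInstance, inferInstance,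
    tau G (Idx r), (tau G (Idx r)).quotient (LinearMap.range (imap ρ r φ)) hle,
    imap ρ r φ, (LinearMap.range (imap ρ r φ)).mkQ, ?_, ?_, hinj, Submodule.mkQ_surjective _,
    ?_, ?_, ?_⟩
  · intro g a
    exact imap_equivariant ρ r φ hinv g a
  · intro g p
    rfl
  · exact (Submodule.ker_mkQ _).symm
  · refine ⟨Idx r, Finsupp.basisSingleOne, fun g i => ⟨g • i, ?_⟩⟩
    rw [Finsupp.coe_basisSingleOne]
    exact tau_single G (Idx r) g i 1
  · intro H f hf
    haveI : Fintype H := Fintype.ofFinite H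
    obtain ⟨p, rfl⟩ := Submodule.Quotient.mk_surjective _ f
    rw [finsum_eq_sum_of_fintype] at hf
    have h1 : (∑ h : H, ((tau G (Idx r)).quotient (LinearMap.range (imap ρ r φ)) hle) (h : G)
        (Submodule.Quotient.mk p)) =
        Submodule.Quotient.mk (∑ h : H, tau G (Idx r) (h : G) p) := by
      have h2 : (Submodule.Quotient.mk (∑ h : H, tau G (Idx r) (h : G) p) :
          (Idx r →₀ ℤ) ⧸ LinearMap.range (imap ρ r φ)) =
          ∑ h : H, Submodule.Quotient.mk (tau G (Idx r) (h : G) p) :=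
        map_sum (LinearMap.range (imap ρ r φ)).mkQ _ _
      rw [h2]
      exact Finset.sum_congr rfl (fun h _ => rfl)
    rw [h1, Submodule.Quotient.mk_eq_zero] at hf
    obtain ⟨a, ha⟩ := hf
    have hainv : ∀ h ∈ H, ρ h a = a := by
      intro h hh
      apply hinj
      rw [imap_equivariant ρ r φ hinv, ha, map_sum]
      exact Fintype.sum_equiv (Equiv.mulLeft (⟨h, hh⟩ : H)) _ _ (fun h' => by
        show tau G (Idx r) h (tau G (Idx r) (h' : G) p) =
          tau G (Idx r) (((⟨h, hh⟩ : H) * h' : H) : G) p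
        rw [Subgroup.coe_mul, map_mul, Module.End.mul_apply])
    have hdiv : ∀ j, (Fintype.card H : ℤ) ∣ φ H j a := by
      intro j
      refine ⟨p (Idx.mk' r H j ((1 : G) : G ⧸ H)), ?_⟩
      have h2 := imap_mk ρ r φ hinv H j 1 a
      rw [inv_one, map_one, Module.End.one_apply] at h2
      rw [← h2, ha, sum_tau_apply_one]
    obtain ⟨a', c, hc, hmem⟩ := hdet H a _ hdiv
    have haN : a = nrm ρ H a' := detect ρ H a hainv a' c hc hmem
    have hN0 : ∑ h : H, tau G (Idx r) (h : G) (p - imap ρ r φ a') = 0 := by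
      simp only [map_sub, Finset.sum_sub_distrib]
      rw [sub_eq_zero, ← ha, haN, nrm_apply, map_sum]
      apply Finset.sum_congr rfl
      intro h _
      exact imap_equivariant ρ r φ hinv h a'
    have hspan := hm1_perm (G := G) (X := Idx r) H (p - imap ρ r φ a') hN0
    have hmk : (Submodule.Quotient.mk p : (Idx r →₀ ℤ) ⧸ LinearMap.range (imap ρ r φ)) =
        (LinearMap.range (imap ρ r φ)).mkQ (p - imap ρ r φ a') := by
      rw [Submodule.mkQ_apply, Submodule.Quotient.mk_sub,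
        (Submodule.Quotient.mk_eq_zero _).2 (LinearMap.mem_range_self _ a'), sub_zero]
    rw [hmk]
    have hle2 : Submodule.span ℤ
        {x : Idx r →₀ ℤ | ∃ (h : H) (y : Idx r →₀ ℤ), x = tau G (Idx r) (h : G) y - y} ≤
        (Submodule.span ℤ {x : (Idx r →₀ ℤ) ⧸ LinearMap.range (imap ρ r φ) |
          ∃ (h : H) (y : (Idx r →₀ ℤ) ⧸ LinearMap.range (imap ρ r φ)),
            x = ((tau G (Idx r)).quotient (LinearMap.range (imap ρ r φ)) hle) (h : G) y - y}).comap
          (LinearMap.range (imap ρ r φ)).mkQ := by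
      rw [Submodule.span_le]
      rintro _ ⟨h, y, rfl⟩
      apply Submodule.subset_span
      exact ⟨h, Submodule.Quotient.mk y, by rw [map_sub]; rfl⟩
    exact hle2 hspan

end final

end H12FL
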