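import Mathlib
import Groth.Prelude.Def_W4c5flasquetoriphsGLat
import Groth.Agent.Lib.helper12.Coflasque
import Groth.Agent.Lib.helper12.Flasque

set_option autoImplicit false
set_option linter.style.haveILetI false
set_option linter.unusedSectionVars false

namespace H12CF2

open H12CF

section perm
variable {G : Type} [Group G] [Finite G] {M : Type} [AddCommGroup M] [Module.Finite ℤ M]

/-- permutation lattices are coflasque -/
lemma perm_coflasque (σ : Representation ℤ G M) (h : GLat.IsPermutation σ) :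
    GLat.IsCoflasque σ := by
  classical
  obtain ⟨ι, b, hb⟩ := h
  choose act hact using hb
  haveI : Finite ι := Module.Finite.finite_basis b
  letI : MulAction G ι :=
    { smul := act
      one_smul := by
        intro i
        apply b.injective
        show b (act 1 i) = b i
        rw [← hact 1 i, map_one, Module.End.one_apply]
      mul_smul := by
        intro g g' i
        apply b.injective
        show b (act (g * g') i) = b (act g (act g' i))
        rw [← hact, ← hact, ← hact, map_mul, Module.End.mul_apply] }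
  have hsmul : ∀ (g : G) (i : ι), σ g (b i) = b (g • i) := hact
  have hrepr : ∀ (g : G) (m : M) (x : ι), b.repr (σ g m) x = b.repr m (g⁻¹ • x) := by
    intro g m x
    have h1 : (Finsupp.lapply x ∘ₗ b.repr.toLinearMap) ∘ₗ σ g =
        Finsupp.lapply (g⁻¹ • x) ∘ₗ b.repr.toLinearMap := by
      apply b.ext
      intro i
      simp only [LinearMap.comp_apply, LinearEquiv.coe_coe, Finsupp.lapply_apply]
      rw [hsmul, b.repr_self, b.repr_self, Finsupp.single_apply, Finsupp.single_apply]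
      by_cases hx : g • i = x
      · rw [if_pos hx, if_pos (by rw [← hx, inv_smul_smul])]
      · rw [if_neg hx, if_neg (fun h' => hx (by rw [h', smul_inv_smul]))]
    exact LinearMap.congr_fun h1 m
  intro H f hf
  obtain ⟨m, hm⟩ := h1_perm (H := H) (X := ι) (fun a x => b.repr (f a) x) (by
    intro a a' x
    show b.repr (f (a * a')) x = b.repr (f a) x + b.repr (f a') (a⁻¹ • x)
    rw [hf a a', map_add, Finsupp.add_apply, hrepr]
    rfl)
  refine ⟨b.repr.symm (Finsupp.equivFunOnFinite.symm m), fun a => ?_⟩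
  apply b.repr.injective
  ext x
  rw [map_sub, Finsupp.sub_apply, hrepr, LinearEquiv.apply_symm_apply]
  exact hm a x

end perm

section ext
variable {G : Type} [Group G]

/-- an extension of a coflasque module by a coflasque module is coflasque -/
lemma coflasque_ext {Q E P : Type} [AddCommGroup Q] [AddCommGroup E] [AddCommGroup P]
    (σQ : Representation ℤ G Q) (σE : Representation ℤ G E) (σP : Representation ℤ G P)
    (i : Q →ₗ[ℤ] E) (π : E →ₗ[ℤ] P)
    (hi : GLat.IsEquivariant σQ σE i) (hπ : GLat.IsEquivariant σE σP π)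
    (hinj : Function.Injective i) (hsurj : Function.Surjective π)
    (hex : LinearMap.range i = LinearMap.ker π)
    (hQ : GLat.IsCoflasque σQ) (hP : GLat.IsCoflasque σP) : GLat.IsCoflasque σE := by
  have hi' : ∀ g q, i (σQ g q) = σE g (i q) := hi
  have hπ' : ∀ g e, π (σE g e) = σP g (π e) := hπ
  intro H f hf
  obtain ⟨m, hm⟩ := hP H (fun a => π (f a)) (by
    intro a b
    show π (f (a * b)) = π (f a) + σP (a : G) (π (f b))
    rw [hf a b, map_add, hπ'])
  obtain ⟨e, rfl⟩ := hsurj m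
  have hker : ∀ a : H, ∃ q : Q, i q = f a - (σE (a : G) e - e) := by
    intro a
    have h1 : f a - (σE (a : G) e - e) ∈ LinearMap.range i := by
      rw [hex, LinearMap.mem_ker, map_sub, map_sub, hπ', sub_eq_zero]
      exact hm a
    exact LinearMap.mem_range.1 h1
  choose q hq using hker
  obtain ⟨q₀, hq₀⟩ := hQ H q (by
    intro a b
    apply hinj
    rw [map_add, hi', hq, hq, hq, hf a b, Subgroup.coe_mul, map_mul, Module.End.mul_apply,
      map_sub, map_sub]
    abel)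
  refine ⟨e + i q₀, fun a => ?_⟩
  have h1 := hq a
  rw [hq₀ a, map_sub, hi'] at h1
  have h2 : f a = (σE (a : G) (i q₀) - i q₀) + (σE (a : G) e - e) := by
    rw [h1]; abel
  rw [map_add, h2]
  abel

end ext

section final
variable (G : Type) [Group G] [Finite G] (A : Type) [AddCommGroup A] [Module.Finite ℤ A]
  [Module.Free ℤ A] (ρ : Representation ℤ G A)

theorem main : ∃ (Q : Type) (_ : AddCommGroup Q) (P : Type) (_ : AddCommGroup P)
      (_ : Module.Finite ℤ Q) (_ : Module.Free ℤ Q) (_ : Module.Finite ℤ P) (_ : Module.Free ℤ P)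
      (σ : Representation ℤ G Q) (τ : Representation ℤ G P) (i : A →ₗ[ℤ] Q) (π : Q →ₗ[ℤ] P),
      GLat.IsEquivariant ρ σ i ∧ GLat.IsEquivariant σ τ π ∧ Function.Injective i ∧
      Function.Surjective π ∧
      LinearMap.range i = LinearMap.ker π ∧ GLat.IsCoflasque σ ∧ GLat.IsPermutation τ := by
  obtain ⟨P₂, iP₂, F, iF, fP₂, frP₂, fF, frF, σ₂, τF, i₂, π₂, hi₂, hπ₂, hinj₂, hsurj₂, hex₂,
    hperm₂, -⟩ := H12FL.main G A ρ
  obtain ⟨Q', iQ', P₁, iP₁, fQ', frQ', fP₁, frP₁, σQ, τ₁, i₁, π₁, hi₁, hπ₁, hinj₁, hsurj₁, hex₁,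
    hperm₁, hcofl⟩ := H12CF.main G F τF
  have hi₂' : ∀ g a, i₂ (ρ g a) = σ₂ g (i₂ a) := hi₂
  have hπ₂' : ∀ g x, π₂ (σ₂ g x) = τF g (π₂ x) := hπ₂
  have hi₁' : ∀ g q, i₁ (σQ g q) = τ₁ g (i₁ q) := hi₁
  have hπ₁' : ∀ g y, π₁ (τ₁ g y) = τF g (π₁ y) := hπ₁
  let E : Submodule ℤ (P₂ × P₁) :=
    LinearMap.ker (π₂ ∘ₗ LinearMap.fst ℤ P₂ P₁ - π₁ ∘ₗ LinearMap.snd ℤ P₂ P₁)
  have memE : ∀ z : P₂ × P₁, z ∈ E ↔ π₂ z.1 = π₁ z.2 := by
    intro z
    show z ∈ LinearMap.ker (π₂ ∘ₗ LinearMap.fst ℤ P₂ P₁ - π₁ ∘ₗ LinearMap.snd ℤ P₂ P₁) ↔ _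
    rw [LinearMap.mem_ker, LinearMap.sub_apply, sub_eq_zero]
    rfl
  have hle : ∀ g, E ≤ E.comap ((σ₂.prod τ₁) g) := by
    intro g z hz
    rw [Submodule.mem_comap, memE]
    show π₂ (σ₂ g z.1) = π₁ (τ₁ g z.2)
    rw [hπ₂', hπ₁', (memE z).1 hz]
  let σE : Representation ℤ G ↥E := (σ₂.prod τ₁).subrepresentation E hle
  have hσE : ∀ g (z : ↥E), ((σE g z : ↥E) : P₂ × P₁) = (σ₂ g (z : P₂ × P₁).1, τ₁ g (z : P₂ × P₁).2) :=
    fun g z => rfl
  let iA : A →ₗ[ℤ] ↥E := LinearMap.codRestrict E (LinearMap.inl ℤ P₂ P₁ ∘ₗ i₂) (fun a => by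
    rw [memE]
    show π₂ (i₂ a) = π₁ 0
    rw [map_zero]
    have h1 : i₂ a ∈ LinearMap.ker π₂ := hex₂ ▸ LinearMap.mem_range_self i₂ a
    exact LinearMap.mem_ker.1 h1)
  have hiA : ∀ a, ((iA a : ↥E) : P₂ × P₁) = (i₂ a, 0) := fun a => rfl
  let πE : ↥E →ₗ[ℤ] P₁ := LinearMap.snd ℤ P₂ P₁ ∘ₗ E.subtype
  let fstE : ↥E →ₗ[ℤ] P₂ := LinearMap.fst ℤ P₂ P₁ ∘ₗ E.subtype
  let iQ : Q' →ₗ[ℤ] ↥E := LinearMap.codRestrict E (LinearMap.inr ℤ P₂ P₁ ∘ₗ i₁) (fun q => by
    rw [memE]
    show π₂ 0 = π₁ (i₁ q)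
    rw [map_zero]
    have h1 : i₁ q ∈ LinearMap.ker π₁ := hex₁ ▸ LinearMap.mem_range_self i₁ q
    exact (LinearMap.mem_ker.1 h1).symm)
  have hiQ : ∀ q, ((iQ q : ↥E) : P₂ × P₁) = (0, i₁ q) := fun q => rfl
  have hcoE : GLat.IsCoflasque σE := by
    refine coflasque_ext σQ σE σ₂ iQ fstE ?_ ?_ ?_ ?_ ?_ hcofl (perm_coflasque σ₂ hperm₂)
    · intro g q
      apply Subtype.ext
      rw [hσE, hiQ, hiQ, hi₁']
      show ((0 : P₂), τ₁ g (i₁ q)) = (σ₂ g 0, τ₁ g (i₁ q))
      rw [map_zero]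
    · intro g z
      rfl
    · intro q q' hqq
      have h1 := congrArg (fun z : ↥E => (z : P₂ × P₁).2) hqq
      exact hinj₁ h1
    · intro x
      obtain ⟨y, hy⟩ := hsurj₁ (π₂ x)
      exact ⟨⟨(x, y), (memE (x, y)).2 hy.symm⟩, rfl⟩
    · ext z
      constructor
      · rintro ⟨q, rfl⟩
        rw [LinearMap.mem_ker]
        rfl
      · intro hz
        have hz1 : (z : P₂ × P₁).1 = 0 := LinearMap.mem_ker.1 hz
        have hz2 := (memE (z : P₂ × P₁)).1 z.2
        rw [hz1, map_zero] at hz2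
        have h3 : (z : P₂ × P₁).2 ∈ LinearMap.range i₁ := by
          rw [hex₁, LinearMap.mem_ker]
          exact hz2.symm
        obtain ⟨q, hq⟩ := h3
        refine ⟨q, ?_⟩
        apply Subtype.ext
        rw [hiQ]
        exact Prod.ext hz1.symm hq
  refine ⟨↥E, inferInstance, P₁, iP₁, inferInstance, inferInstance, fP₁, frP₁, σE, τ₁, iA, πE,
    ?_, ?_, ?_, ?_, ?_, hcoE, hperm₁⟩
  · intro g a
    apply Subtype.ext
    rw [hσE, hiA, hiA, hi₂']
    show (σ₂ g (i₂ a), (0 : P₁)) = (σ₂ g (i₂ a), τ₁ g 0)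
    rw [map_zero]
  · intro g z
    rfl
  · intro a a' haa
    have h1 := congrArg (fun z : ↥E => (z : P₂ × P₁).1) haa
    exact hinj₂ h1
  · intro y
    obtain ⟨x, hx⟩ := hsurj₂ (π₁ y)
    exact ⟨⟨(x, y), (memE (x, y)).2 hx⟩, rfl⟩
  · ext z
    constructor
    · rintro ⟨a, rfl⟩
      rw [LinearMap.mem_ker]
      rfl
    · intro hz
      have hz2 : (z : P₂ × P₁).2 = 0 := LinearMap.mem_ker.1 hz
      have hz1 := (memE (z : P₂ × P₁)).1 z.2
      rw [hz2, map_zero] at hz1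
      have h3 : (z : P₂ × P₁).1 ∈ LinearMap.range i₂ := by
        rw [hex₂, LinearMap.mem_ker]
        exact hz1
      obtain ⟨a, ha⟩ := h3
      refine ⟨a, ?_⟩
      apply Subtype.ext
      rw [hiA]
      exact Prod.ext ha hz2.symm

end final

end H12CF2
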