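import Mathlib

/-!
# `dualTensorHom` is bijective for a finitely presented source and a flat target
-/

namespace H12DFP
open TensorProduct

universe u v w

theorem dualTensorHom_bijective_of_fp_flat (k : Type u) [CommRing k] (M : Type v) [AddCommGroup M]
    [Module k M] [Module.FinitePresentation k M] (N : Type w) [AddCommGroup N] [Module k N]
    [Module.Flat k N] :
    Function.Bijective (dualTensorHom k M N) := by
  obtain ⟨n, m, f, g, hf, hfg⟩ := Module.FinitePresentation.exists_fin' k M
  have hinj : Function.Injective f.dualMap := LinearMap.dualMap_injective_of_surjective hf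
  have hex : Function.Exact f.dualMap g.dualMap := by
    intro φ
    have := LinearMap.exact_lcomp_of_exact_of_surjective k hfg hf φ
    exact this
  have hinjN : Function.Injective (f.dualMap.rTensor N) :=
    Module.Flat.rTensor_preserves_injective_linearMap _ hinj
  have hexN : Function.Exact (f.dualMap.rTensor N) (g.dualMap.rTensor N) :=
    Module.Flat.rTensor_exact N hex
  have b0 := dualTensorHom_bijective (R := k) (M := Fin n → k) (N := N)
  have b1 := dualTensorHom_bijective (R := k) (M := Fin m → k) (N := N)
  have nat0 : ∀ x, dualTensorHom k (Fin n → k) N (f.dualMap.rTensor N x) =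
      (dualTensorHom k M N x) ∘ₗ f := fun x =>
    LinearMap.congr_fun (dualTensorHom_comp_rTensor_dualMap (R := k) (P := N) f) x
  have nat1 : ∀ y, dualTensorHom k (Fin m → k) N (g.dualMap.rTensor N y) =
      (dualTensorHom k (Fin n → k) N y) ∘ₗ g := fun y =>
    LinearMap.congr_fun (dualTensorHom_comp_rTensor_dualMap (R := k) (P := N) g) y
  constructor
  · intro x y hxy
    apply hinjN
    apply b0.1
    rw [nat0, nat0, hxy]
  · intro h
    obtain ⟨y, hy⟩ := b0.2 (h ∘ₗ f)
    have hy0 : g.dualMap.rTensor N y = 0 := by
      apply b1.1
      rw [map_zero, nat1, hy]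
      ext i
      simp [hfg.apply_apply_eq_zero]
    obtain ⟨x, hx⟩ := (hexN y).1 hy0
    refine ⟨x, ?_⟩
    apply LinearMap.lcomp_injective_of_surjective (S := k) (N := N) f hf
    change (dualTensorHom k M N x) ∘ₗ f = h ∘ₗ f
    rw [← nat0, hx, hy]

end H12DFP
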