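import Mathlib
import Groth.Prelude.Def_ComodTens
import Groth.Prelude.Def_ComodDual
import Groth.Prelude.Def_Hoch
import Groth.Agent.Lib.helper12.DualFP

/-!
# Invariants of `B ⊗ M^*` and comodule maps `M → B`
-/

set_option linter.style.haveILetI false

namespace H12CDI
open TensorProduct

universe u v w w'

variable {k : Type u} [CommRing k] {A : Type v} [CommRing A] [HopfAlgebra k A]
  {B : Type w} [AddCommGroup B] [Module k B]
  {M : Type w'} [AddCommGroup M] [Module k M]

local notation "S" => (HopfAlgebraStruct.antipode (R := k) (A := A))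

/-- right multiplication `(B ⊗ A) ⊗ A → B ⊗ A`. -/
noncomputable def μR : (B ⊗[k] A) ⊗[k] A →ₗ[k] B ⊗[k] A :=
  (LinearMap.mul' k A).lTensor B ∘ₗ (TensorProduct.assoc k B A A).toLinearMap

@[simp] lemma μR_tmul (b : B) (a a' : A) :
    μR (k := k) ((b ⊗ₜ[k] a) ⊗ₜ[k] a') = b ⊗ₜ[k] (a * a') := by
  simp [μR]

lemma μR_one (X : B ⊗[k] A) : μR (k := k) (X ⊗ₜ[k] (1 : A)) = X := by
  induction X using TensorProduct.induction_on with
  | zero => simp
  | add x y hx hy => rw [TensorProduct.add_tmul, map_add, hx, hy]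
  | tmul b a => rw [μR_tmul, mul_one]

lemma μR_μR (X : B ⊗[k] A) (a a' : A) :
    μR (k := k) (μR (k := k) (X ⊗ₜ[k] a) ⊗ₜ[k] a') = μR (k := k) (X ⊗ₜ[k] (a * a')) := by
  induction X using TensorProduct.induction_on with
  | zero => simp
  | add x y hx hy => simp only [TensorProduct.add_tmul, map_add, hx, hy]
  | tmul b a'' => simp only [μR_tmul, mul_assoc]

/-- `b ⊗ φ ↦ (m ↦ φ m • b)`. -/
noncomputable def F : B ⊗[k] Module.Dual k M →ₗ[k] (M →ₗ[k] B) :=
  dualTensorHom k M B ∘ₗ (TensorProduct.comm k B (Module.Dual k M)).toLinearMap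

@[simp] lemma F_tmul (b : B) (φ : Module.Dual k M) (m : M) :
    F (k := k) (b ⊗ₜ[k] φ) m = φ m • b := by simp [F]

/-- the twisted map. -/
noncomputable def T (cB : HopfRep.Comod k A B) (cM : HopfRep.Comod k A M) (h : M →ₗ[k] B) :
    M →ₗ[k] B ⊗[k] A :=
  μR ∘ₗ TensorProduct.map (cB.coact ∘ₗ h) S ∘ₗ cM.coact

lemma T_add (cB : HopfRep.Comod k A B) (cM : HopfRep.Comod k A M) (h h' : M →ₗ[k] B) :
    T cB cM (h + h') = T cB cM h + T cB cM h' := by
  simp only [T, LinearMap.comp_add, LinearMap.add_comp, TensorProduct.map_add_left]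

lemma T_zero (cB : HopfRep.Comod k A B) (cM : HopfRep.Comod k A M) :
    T cB cM (0 : M →ₗ[k] B) = 0 := by
  simp only [T, LinearMap.comp_zero, LinearMap.zero_comp, TensorProduct.map_zero_left]

/-- the reassociation. -/
noncomputable def e : (B ⊗[k] Module.Dual k M) ⊗[k] A ≃ₗ[k] Module.Dual k M ⊗[k] (B ⊗[k] A) :=
  (LinearEquiv.rTensor A (TensorProduct.comm k B (Module.Dual k M))) ≪≫ₗ
    TensorProduct.assoc k (Module.Dual k M) B A

/-- `(b ⊗ φ) ⊗ a ↦ (m ↦ φ m • (b ⊗ a))`. -/
noncomputable def Ψ : (B ⊗[k] Module.Dual k M) ⊗[k] A →ₗ[k] (M →ₗ[k] B ⊗[k] A) :=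
  dualTensorHom k M (B ⊗[k] A) ∘ₗ (e (k := k) (A := A) (B := B) (M := M)).toLinearMap

@[simp] lemma Ψ_tmul (b : B) (φ : Module.Dual k M) (a : A) (m : M) :
    Ψ (k := k) ((b ⊗ₜ[k] φ) ⊗ₜ[k] a) m = φ m • (b ⊗ₜ[k] a) := by
  simp [Ψ, e]

lemma Ψ_injective [Module.Flat k A] [Module.Flat k B] [Module.FinitePresentation k M] :
    Function.Injective (Ψ (k := k) (A := A) (B := B) (M := M)) := by
  have h1 := (H12DFP.dualTensorHom_bijective_of_fp_flat k M (B ⊗[k] A)).1
  intro x y hxy
  exact (e (k := k) (A := A) (B := B) (M := M)).injective (h1 hxy)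

lemma F_bijective [Module.Flat k B] [Module.FinitePresentation k M] :
    Function.Bijective (F (k := k) (B := B) (M := M)) := by
  have h1 := H12DFP.dualTensorHom_bijective_of_fp_flat k M B
  exact h1.comp (TensorProduct.comm k B (Module.Dual k M)).bijective

lemma L1 (X : B ⊗[k] A) (Y : Module.Dual k M ⊗[k] A) (m : M) :
    Ψ (k := k) (TensorProduct.map LinearMap.id (LinearMap.mul' k A)
      (AlgebraTensorModule.tensorTensorTensorComm k k k k B A (Module.Dual k M) A (X ⊗ₜ[k] Y))) m =
    μR (k := k) (X ⊗ₜ[k] dualTensorHom k M A Y m) := by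
  induction X using TensorProduct.induction_on with
  | zero => simp
  | add X X' h h' => simp only [TensorProduct.add_tmul, map_add, LinearMap.add_apply, h, h']
  | tmul b' a' =>
    induction Y using TensorProduct.induction_on with
    | zero => simp
    | add Y Y' h h' => simp only [TensorProduct.tmul_add, map_add, LinearMap.add_apply, h, h']
    | tmul ψ a'' =>
      simp only [AlgebraTensorModule.tensorTensorTensorComm_tmul, TensorProduct.map_tmul,
        LinearMap.id_apply, LinearMap.mul'_apply, Ψ_tmul, dualTensorHom_apply,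
        TensorProduct.tmul_smul, map_smul, μR_tmul]

lemma LF (cB : HopfRep.Comod k A B) (b : B) (φ : Module.Dual k M) (z : M ⊗[k] A) :
    TensorProduct.map (cB.coact ∘ₗ F (k := k) (b ⊗ₜ[k] φ)) S z =
      cB.coact b ⊗ₜ[k] TensorProduct.lid k A (TensorProduct.map φ S z) := by
  induction z using TensorProduct.induction_on with
  | zero => simp
  | add x y hx hy => simp only [map_add, TensorProduct.tmul_add, hx, hy]
  | tmul m' a =>
    simp only [TensorProduct.map_tmul, LinearMap.comp_apply, F_tmul, map_smul,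
      TensorProduct.lid_tmul, TensorProduct.tmul_smul, TensorProduct.smul_tmul']

theorem claimA (cB : HopfRep.Comod k A B) (cM : HopfRep.Comod k A M)
    (d : HopfRep.Comod k A (Module.Dual k M)) (hd : ComodTens.Comod.IsDual cM d)
    (x : B ⊗[k] Module.Dual k M) :
    Ψ (k := k) ((ComodTens.Comod.tensor cB d).coact x) = T cB cM (F (k := k) x) := by
  induction x using TensorProduct.induction_on with
  | zero => simp only [map_zero, T_zero]
  | add x y hx hy => simp only [map_add, T_add, hx, hy]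
  | tmul b φ =>
    ext m
    rw [ComodTens.tensor_coact_tmul, L1, hd φ]
    simp only [T, LinearMap.comp_apply, LF]
    rfl

theorem claimB (x : B ⊗[k] Module.Dual k M) :
    Ψ (k := k) (A := A) (x ⊗ₜ[k] (1 : A)) = (TensorProduct.mk k B A).flip 1 ∘ₗ F (k := k) x := by
  induction x using TensorProduct.induction_on with
  | zero => simp
  | add x y hx hy => simp only [TensorProduct.add_tmul, map_add, hx, hy, LinearMap.comp_add]
  | tmul b φ =>
    ext m
    simp only [Ψ_tmul, LinearMap.comp_apply, F_tmul, LinearMap.flip_apply, TensorProduct.mk_apply,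
      TensorProduct.smul_tmul']

theorem T_eq_of_isComodHom (cB : HopfRep.Comod k A B) (cM : HopfRep.Comod k A M) (h : M →ₗ[k] B)
    (hh : cB.coact ∘ₗ h = h.rTensor A ∘ₗ cM.coact) :
    T cB cM h = (TensorProduct.mk k B A).flip 1 ∘ₗ h := by
  have K1 : (μR : (B ⊗[k] A) ⊗[k] A →ₗ[k] B ⊗[k] A) ∘ₗ TensorProduct.map (h.rTensor A) S =
      TensorProduct.map h (LinearMap.mul' k A ∘ₗ (S).lTensor A) ∘ₗ
        (TensorProduct.assoc k M A A).toLinearMap := by
    ext m a a'
    simp
  have K2 : TensorProduct.map (h.rTensor A ∘ₗ cM.coact) S =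
      TensorProduct.map (h.rTensor A) S ∘ₗ cM.coact.rTensor A := by
    ext m a
    simp
  have K3 : TensorProduct.map h (LinearMap.mul' k A ∘ₗ (S).lTensor A) ∘ₗ
      (CoalgebraStruct.comul (R := k) (A := A)).lTensor M =
      TensorProduct.map h (Algebra.linearMap k A ∘ₗ CoalgebraStruct.counit (R := k) (A := A)) := by
    ext m a
    simp
  have K4 : TensorProduct.map h (Algebra.linearMap k A ∘ₗ CoalgebraStruct.counit (R := k) (A := A)) =
      TensorProduct.map h (Algebra.linearMap k A) ∘ₗ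
        (CoalgebraStruct.counit (R := k) (A := A)).lTensor M := by
    ext m a
    simp
  ext m
  have hco := LinearMap.congr_fun cM.coassoc m
  have hcu := LinearMap.congr_fun cM.counit_comp m
  simp only [LinearMap.comp_apply, LinearEquiv.coe_coe] at hco hcu
  calc T cB cM h m = μR (TensorProduct.map (cB.coact ∘ₗ h) S (cM.coact m)) := rfl
    _ = μR (TensorProduct.map (h.rTensor A) S (cM.coact.rTensor A (cM.coact m))) := by
        rw [hh, K2]; rfl
    _ = TensorProduct.map h (LinearMap.mul' k A ∘ₗ (S).lTensor A)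
          (TensorProduct.assoc k M A A (cM.coact.rTensor A (cM.coact m))) :=
        LinearMap.congr_fun K1 _
    _ = TensorProduct.map h (LinearMap.mul' k A ∘ₗ (S).lTensor A)
          ((CoalgebraStruct.comul (R := k) (A := A)).lTensor M (cM.coact m)) := by rw [hco]
    _ = TensorProduct.map h (Algebra.linearMap k A ∘ₗ CoalgebraStruct.counit (R := k) (A := A))
          (cM.coact m) := LinearMap.congr_fun K3 _
    _ = TensorProduct.map h (Algebra.linearMap k A)
          ((CoalgebraStruct.counit (R := k) (A := A)).lTensor M (cM.coact m)) :=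
        LinearMap.congr_fun K4 _
    _ = ((TensorProduct.mk k B A).flip 1 ∘ₗ h) m := by
        rw [hcu]; simp

theorem isComodHom_of_T_eq (cB : HopfRep.Comod k A B) (cM : HopfRep.Comod k A M) (h : M →ₗ[k] B)
    (hT : T cB cM h = (TensorProduct.mk k B A).flip 1 ∘ₗ h) :
    cB.coact ∘ₗ h = h.rTensor A ∘ₗ cM.coact := by
  have K5 : (μR : (B ⊗[k] A) ⊗[k] A →ₗ[k] B ⊗[k] A) ∘ₗ
      ((TensorProduct.mk k B A).flip 1 ∘ₗ h).rTensor A = h.rTensor A := by
    ext m a
    simp
  have K6 : (μR : (B ⊗[k] A) ⊗[k] A →ₗ[k] B ⊗[k] A) ∘ₗ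
      (μR : (B ⊗[k] A) ⊗[k] A →ₗ[k] B ⊗[k] A).rTensor A ∘ₗ
      (TensorProduct.map (cB.coact ∘ₗ h) S).rTensor A =
      μR ∘ₗ TensorProduct.map (cB.coact ∘ₗ h) (LinearMap.mul' k A ∘ₗ (S).rTensor A) ∘ₗ
        (TensorProduct.assoc k M A A).toLinearMap := by
    ext m a a'
    simp [μR_μR]
  have K3 : TensorProduct.map (cB.coact ∘ₗ h) (LinearMap.mul' k A ∘ₗ (S).rTensor A) ∘ₗ
      (CoalgebraStruct.comul (R := k) (A := A)).lTensor M =
      TensorProduct.map (cB.coact ∘ₗ h)
        (Algebra.linearMap k A ∘ₗ CoalgebraStruct.counit (R := k) (A := A)) := by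
    ext m a
    simp
  have K4 : TensorProduct.map (cB.coact ∘ₗ h)
      (Algebra.linearMap k A ∘ₗ CoalgebraStruct.counit (R := k) (A := A)) =
      TensorProduct.map (cB.coact ∘ₗ h) (Algebra.linearMap k A) ∘ₗ
        (CoalgebraStruct.counit (R := k) (A := A)).lTensor M := by
    ext m a
    simp
  have K7 : (T cB cM h).rTensor A = (μR : (B ⊗[k] A) ⊗[k] A →ₗ[k] B ⊗[k] A).rTensor A ∘ₗ
      (TensorProduct.map (cB.coact ∘ₗ h) S).rTensor A ∘ₗ cM.coact.rTensor A := by
    rw [T, LinearMap.rTensor_comp, LinearMap.rTensor_comp]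
  ext m
  have hco := LinearMap.congr_fun cM.coassoc m
  have hcu := LinearMap.congr_fun cM.counit_comp m
  simp only [LinearMap.comp_apply, LinearEquiv.coe_coe] at hco hcu
  have way1 : μR ((T cB cM h).rTensor A (cM.coact m)) = h.rTensor A (cM.coact m) := by
    rw [hT]
    exact LinearMap.congr_fun K5 _
  have way2 : μR ((T cB cM h).rTensor A (cM.coact m)) = cB.coact (h m) := by
    calc μR ((T cB cM h).rTensor A (cM.coact m))
        = μR ((μR : (B ⊗[k] A) ⊗[k] A →ₗ[k] B ⊗[k] A).rTensor A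
            ((TensorProduct.map (cB.coact ∘ₗ h) S).rTensor A
              (cM.coact.rTensor A (cM.coact m)))) := by rw [K7]; rfl
      _ = μR (TensorProduct.map (cB.coact ∘ₗ h) (LinearMap.mul' k A ∘ₗ (S).rTensor A)
            (TensorProduct.assoc k M A A (cM.coact.rTensor A (cM.coact m)))) :=
          LinearMap.congr_fun K6 _
      _ = μR (TensorProduct.map (cB.coact ∘ₗ h) (LinearMap.mul' k A ∘ₗ (S).rTensor A)
            ((CoalgebraStruct.comul (R := k) (A := A)).lTensor M (cM.coact m))) := by rw [hco]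
      _ = μR (TensorProduct.map (cB.coact ∘ₗ h)
            (Algebra.linearMap k A ∘ₗ CoalgebraStruct.counit (R := k) (A := A)) (cM.coact m)) := by
          rw [← K3]; rfl
      _ = μR (TensorProduct.map (cB.coact ∘ₗ h) (Algebra.linearMap k A)
            ((CoalgebraStruct.counit (R := k) (A := A)).lTensor M (cM.coact m))) := by
          rw [K4]; rfl
      _ = cB.coact (h m) := by
          rw [hcu]
          simp [μR_one]
  simp only [LinearMap.comp_apply]
  rw [← way2, way1]

theorem main (cB : HopfRep.Comod k A B) (cM : HopfRep.Comod k A M)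
    [Module.Flat k A] [Module.Flat k B] [Module.FinitePresentation k M]
    (d : HopfRep.Comod k A (Module.Dual k M)) (hd : ComodTens.Comod.IsDual cM d) :
    Set.BijOn (fun x : B ⊗[k] Module.Dual k M => F (k := k) x)
      {x | (ComodTens.Comod.tensor cB d).coact x = x ⊗ₜ[k] (1 : A)}
      {h : M →ₗ[k] B | cB.coact ∘ₗ h = h.rTensor A ∘ₗ cM.coact} := by
  have key : ∀ x : B ⊗[k] Module.Dual k M,
      (ComodTens.Comod.tensor cB d).coact x = x ⊗ₜ[k] (1 : A) ↔
        T cB cM (F (k := k) x) = (TensorProduct.mk k B A).flip 1 ∘ₗ F (k := k) x := by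
    intro x
    rw [← claimA cB cM d hd, ← claimB]
    exact ⟨fun h => by rw [h], fun h => Ψ_injective h⟩
  refine ⟨?_, ?_, ?_⟩
  · intro x hx
    exact isComodHom_of_T_eq cB cM _ ((key x).1 hx)
  · intro x _ y _ hxy
    exact F_bijective.1 hxy
  · intro h hh
    obtain ⟨x, rfl⟩ := F_bijective.2 h
    exact ⟨x, (key x).2 (T_eq_of_isComodHom cB cM _ hh), rfl⟩

end H12CDI
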