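import Mathlib

set_option autoImplicit false
set_option linter.style.haveILetI false
set_option linter.unusedSectionVars false
universe u

namespace H12CR

open PowerSeries

section
variable {k : Type u} [Field k]

/-- the lattice `R·1 + t^n (R × R)` -/
noncomputable def T (n : ℕ) : Submodule (PowerSeries k) (Fin 2 → PowerSeries k) :=
  Submodule.span (PowerSeries k) {(1 : Fin 2 → PowerSeries k)} ⊔
    Ideal.span {(PowerSeries.X : PowerSeries k) ^ n} •
      (⊤ : Submodule (PowerSeries k) (Fin 2 → PowerSeries k))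

lemma mem_T (n : ℕ) (v : Fin 2 → PowerSeries k) :
    v ∈ T n ↔ (X : PowerSeries k) ^ n ∣ v 0 - v 1 := by
  constructor
  · intro hv
    obtain ⟨y, hy, w, hw, rfl⟩ := Submodule.mem_sup.1 hv
    obtain ⟨c, rfl⟩ := Submodule.mem_span_singleton.1 hy
    have hw' : (X : PowerSeries k) ^ n ∣ w 0 - w 1 := by
      refine Submodule.smul_induction_on hw ?_ ?_
      · intro r hr m _
        obtain ⟨c', rfl⟩ := Ideal.mem_span_singleton'.1 hr
        refine ⟨c' * (m 0 - m 1), ?_⟩
        simp only [Pi.smul_apply, smul_eq_mul]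
        ring
      · intro a b ha hb
        have e : (a + b) 0 - (a + b) 1 = (a 0 - a 1) + (b 0 - b 1) := by
          simp only [Pi.add_apply]
          ring
        rw [e]
        exact dvd_add ha hb
    have e : (c • (1 : Fin 2 → PowerSeries k) + w) 0 - (c • (1 : Fin 2 → PowerSeries k) + w) 1 =
        w 0 - w 1 := by
      simp only [Pi.add_apply, Pi.smul_apply, Pi.one_apply]
      ring
    rw [e]
    exact hw'
  · rintro ⟨h, hh⟩
    have e : v = (v 1) • (1 : Fin 2 → PowerSeries k) +
        ((X : PowerSeries k) ^ n) • (![h, 0] : Fin 2 → PowerSeries k) := by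
      funext i
      fin_cases i
      · show v 0 = (v 1 • (1 : Fin 2 → PowerSeries k) + X ^ n • ![h, 0]) 0
        simp only [Pi.add_apply, Pi.smul_apply, Pi.one_apply, smul_eq_mul, Matrix.cons_val_zero,
          mul_one]
        linear_combination hh
      · show v 1 = (v 1 • (1 : Fin 2 → PowerSeries k) + X ^ n • ![h, 0]) 1
        simp
    rw [e]
    exact Submodule.add_mem_sup (Submodule.smul_mem _ _ (Submodule.mem_span_singleton_self _))
      (Submodule.smul_mem_smul (Ideal.mem_span_singleton_self _) Submodule.mem_top)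

variable (S : Subalgebra (PowerSeries k) (Fin 2 → PowerSeries k))

lemma mem_S_iff {n : ℕ} (hS : Subalgebra.toSubmodule S = T n) (v : Fin 2 → PowerSeries k) :
    v ∈ S ↔ (X : PowerSeries k) ^ n ∣ v 0 - v 1 := by
  rw [← Subalgebra.mem_toSubmodule, hS, mem_T]

/-- second basis vector -/
noncomputable def e2v (n : ℕ) : Fin 2 → PowerSeries k := ![(X : PowerSeries k) ^ n, 0]

lemma e2v_mem {n : ℕ} (hS : Subalgebra.toSubmodule S = T n) : e2v (k := k) n ∈ S := by
  rw [mem_S_iff S hS]
  exact ⟨1, by simp [e2v]⟩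

/-- the standard basis -/
noncomputable def b0 {n : ℕ} (hS : Subalgebra.toSubmodule S = T n) :
    Module.Basis (Fin 2) (PowerSeries k) S :=
  Module.Basis.mk (v := ![(1 : S), ⟨e2v n, e2v_mem S hS⟩])
    (by
      rw [LinearIndependent.pair_iff]
      intro s t hst
      have h1 := congrArg (fun x : S => (x : Fin 2 → PowerSeries k) 1) hst
      have h0 := congrArg (fun x : S => (x : Fin 2 → PowerSeries k) 0) hst
      simp [e2v] at h1 h0
      subst h1
      simpa using h0)
    (by
      intro x _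
      rw [Submodule.mem_span_range_iff_exists_fun]
      obtain ⟨h, hh⟩ := (mem_S_iff S hS x.1).1 x.2
      refine ⟨![x.1 1, h], ?_⟩
      rw [Fin.sum_univ_two]
      apply Subtype.ext
      funext i
      fin_cases i
      · show ((x.1 1 • (1 : Fin 2 → PowerSeries k) + h • e2v n : Fin 2 → PowerSeries k)) 0 = x.1 0
        simp only [e2v, Pi.add_apply, Pi.smul_apply, Pi.one_apply, smul_eq_mul,
          Matrix.cons_val_zero, mul_one]
        linear_combination -hh
      · show ((x.1 1 • (1 : Fin 2 → PowerSeries k) + h • e2v n : Fin 2 → PowerSeries k)) 1 = x.1 1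
        simp [e2v])

lemma b0_zero {n : ℕ} (hS : Subalgebra.toSubmodule S = T n) : b0 S hS 0 = 1 := by
  rw [b0, Module.Basis.mk_apply]
  rfl

lemma b0_one {n : ℕ} (hS : Subalgebra.toSubmodule S = T n) :
    b0 S hS 1 = ⟨e2v n, e2v_mem S hS⟩ := by
  rw [b0, Module.Basis.mk_apply]
  rfl

lemma b0_one_sq {n : ℕ} (hS : Subalgebra.toSubmodule S = T n) :
    b0 S hS 1 * b0 S hS 1 = ((X : PowerSeries k) ^ n) • b0 S hS 1 := by
  rw [b0_one]
  apply Subtype.ext
  funext i
  fin_cases i
  · show e2v (k := k) n 0 * e2v n 0 = X ^ n * e2v n 0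
    simp [e2v]
  · show e2v (k := k) n 1 * e2v n 1 = X ^ n * e2v n 1
    simp [e2v]

lemma trace_eq {n : ℕ} (hS : Subalgebra.toSubmodule S = T n) (s : S) :
    Algebra.trace (PowerSeries k) S s =
      (b0 S hS).repr (s * b0 S hS 0) 0 + (b0 S hS).repr (s * b0 S hS 1) 1 := by
  rw [Algebra.trace_eq_matrix_trace (b0 S hS), Matrix.trace_fin_two,
    Algebra.leftMulMatrix_eq_repr_mul, Algebra.leftMulMatrix_eq_repr_mul]

lemma trace_one {n : ℕ} (hS : Subalgebra.toSubmodule S = T n) :
    Algebra.trace (PowerSeries k) S (1 : S) = 2 := by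
  rw [trace_eq S hS, one_mul, one_mul, Module.Basis.repr_self, Module.Basis.repr_self,
    Finsupp.single_eq_same, Finsupp.single_eq_same]
  norm_num

lemma trace_e2 {n : ℕ} (hS : Subalgebra.toSubmodule S = T n) :
    Algebra.trace (PowerSeries k) S (b0 S hS 1) = (X : PowerSeries k) ^ n := by
  rw [trace_eq S hS, b0_one_sq, b0_zero, mul_one, map_smul, Module.Basis.repr_self,
    Finsupp.smul_apply, Finsupp.single_eq_same, Finsupp.single_eq_of_ne (by decide), smul_eq_mul,
    mul_one, zero_add]

lemma discr_b0 {n : ℕ} (hS : Subalgebra.toSubmodule S = T n) :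
    Algebra.discr (PowerSeries k) (b0 S hS : Fin 2 → S) = (X : PowerSeries k) ^ (2 * n) := by
  rw [Algebra.discr_def, Matrix.det_fin_two]
  simp only [Algebra.traceMatrix_apply, Algebra.traceForm_apply]
  rw [b0_one_sq S hS, b0_zero S hS, one_mul, one_mul, mul_one, map_smul, trace_one S hS,
    trace_e2 S hS, smul_eq_mul]
  ring

end

section A
variable {k : Type u} [Field k] (S : Subalgebra (PowerSeries k) (Fin 2 → PowerSeries k))

/-- difference map -/
noncomputable def delta : (Fin 2 → PowerSeries k) →ₗ[PowerSeries k] PowerSeries k :=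
  (LinearMap.proj (R := PowerSeries k) (φ := fun _ : Fin 2 => PowerSeries k) 0) -
    (LinearMap.proj (R := PowerSeries k) (φ := fun _ : Fin 2 => PowerSeries k) 1)

lemma delta_apply (v : Fin 2 → PowerSeries k) : delta v = v 0 - v 1 := rfl

lemma exists_n (bS : Module.Basis (Fin 2) (PowerSeries k) S) :
    ∃ n : ℕ, Subalgebra.toSubmodule S = T n := by
  let D : Ideal (PowerSeries k) := Submodule.map delta (Subalgebra.toSubmodule S)
  have hD : D ≠ ⊥ := by
    intro h0
    have hdiag : ∀ x : S, (x : Fin 2 → PowerSeries k) 0 = (x : Fin 2 → PowerSeries k) 1 := by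
      intro x
      have h1 : delta (x : Fin 2 → PowerSeries k) ∈ D := Submodule.mem_map_of_mem x.2
      rw [h0, Submodule.mem_bot, delta_apply, sub_eq_zero] at h1
      exact h1
    have hli := bS.linearIndependent
    rw [Fintype.linearIndependent_iff] at hli
    have hrel : ∑ i, (![(bS 1 : Fin 2 → PowerSeries k) 0,
        -((bS 0 : Fin 2 → PowerSeries k) 0)] : Fin 2 → PowerSeries k) i • bS i = 0 := by
      rw [Fin.sum_univ_two]
      apply Subtype.ext
      funext i
      have h1 := hdiag (bS 0)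
      have h2 := hdiag (bS 1)
      fin_cases i
      · show (bS 1 : Fin 2 → PowerSeries k) 0 * (bS 0 : Fin 2 → PowerSeries k) 0 +
          -((bS 0 : Fin 2 → PowerSeries k) 0) * (bS 1 : Fin 2 → PowerSeries k) 0 = 0
        ring
      · show (bS 1 : Fin 2 → PowerSeries k) 0 * (bS 0 : Fin 2 → PowerSeries k) 1 +
          -((bS 0 : Fin 2 → PowerSeries k) 0) * (bS 1 : Fin 2 → PowerSeries k) 1 = 0
        rw [← h1, ← h2]
        ring
    have h3 := hli _ hrel
    have h31 : -((bS 0 : Fin 2 → PowerSeries k) 0) = 0 := h3 1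
    have hb0 : bS 0 = 0 := by
      apply Subtype.ext
      funext i
      fin_cases i
      · show (bS 0 : Fin 2 → PowerSeries k) 0 = 0
        exact neg_eq_zero.1 h31
      · show (bS 0 : Fin 2 → PowerSeries k) 1 = 0
        rw [← hdiag (bS 0)]
        exact neg_eq_zero.1 h31
    exact bS.ne_zero 0 hb0
  obtain ⟨n, hn⟩ :=
    IsDiscreteValuationRing.ideal_eq_span_pow_irreducible hD PowerSeries.X_irreducible
  refine ⟨n, ?_⟩
  ext v
  rw [mem_T, Subalgebra.mem_toSubmodule]
  constructor
  · intro hv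
    have h1 : delta v ∈ D := Submodule.mem_map_of_mem hv
    rw [hn, Ideal.mem_span_singleton] at h1
    exact h1
  · intro hv
    have h1 : delta v ∈ D := by
      rw [hn, Ideal.mem_span_singleton]
      exact hv
    obtain ⟨w, hw, hwv⟩ := h1
    have hw' : w ∈ S := hw
    have e : v = w + (v 1 - w 1) • (1 : Fin 2 → PowerSeries k) := by
      rw [delta_apply, delta_apply] at hwv
      funext i
      fin_cases i
      · show v 0 = (w + (v 1 - w 1) • (1 : Fin 2 → PowerSeries k)) 0
        simp only [Pi.add_apply, Pi.smul_apply, Pi.one_apply, smul_eq_mul, mul_one]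
        linear_combination -hwv
      · show v 1 = (w + (v 1 - w 1) • (1 : Fin 2 → PowerSeries k)) 1
        simp only [Pi.add_apply, Pi.smul_apply, Pi.one_apply, smul_eq_mul, mul_one]
        ring
    rw [e]
    exact S.add_mem hw' (S.smul_mem S.one_mem _)

lemma discr_assoc {n : ℕ} (hS : Subalgebra.toSubmodule S = T n)
    (bS : Module.Basis (Fin 2) (PowerSeries k) S) :
    Associated (Algebra.discr (PowerSeries k) (bS : Fin 2 → S)) ((X : PowerSeries k) ^ (2 * n)) := by
  have h1 := Module.Basis.toMatrix_map_vecMul (b0 S hS) (bS : Fin 2 → S)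
  have h2 := Algebra.discr_of_matrix_vecMul (A := PowerSeries k) (b0 S hS : Fin 2 → S)
    ((b0 S hS).toMatrix bS)
  rw [h1, discr_b0] at h2
  rw [h2]
  have hu : IsUnit ((b0 S hS).toMatrix bS).det := by
    have h3 := (b0 S hS).isUnit_det bS
    rwa [Module.Basis.det_apply] at h3
  exact (associated_isUnit_mul_left_iff (hu.pow 2)).2 (Associated.refl _)

lemma pow_assoc_iff (a c : ℕ)
    (h : Associated ((X : PowerSeries k) ^ a) ((X : PowerSeries k) ^ c)) : a = c := by
  have hX0 : (X : PowerSeries k) ≠ 0 := PowerSeries.X_ne_zero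
  have hXu : ¬ IsUnit (X : PowerSeries k) := PowerSeries.X_irreducible.not_isUnit
  have h1 := (pow_dvd_pow_iff hX0 hXu).1 h.dvd
  have h2 := (pow_dvd_pow_iff hX0 hXu).1 h.symm.dvd
  omega

theorem iff_part (b : ℕ) :
    (∃ bS : Module.Basis (Fin 2) (PowerSeries k) S,
      Ideal.span {Algebra.discr (PowerSeries k) ⇑bS} =
        Ideal.span {(PowerSeries.X : PowerSeries k) ^ b}) ↔
    ∃ n : ℕ, b = 2 * n ∧ Subalgebra.toSubmodule S = T n := by
  constructor
  · rintro ⟨bS, hbS⟩
    obtain ⟨n, hS⟩ := exists_n S bS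
    refine ⟨n, ?_, hS⟩
    have h1 := Ideal.span_singleton_eq_span_singleton.1 hbS
    have h2 := discr_assoc S hS bS
    exact pow_assoc_iff b (2 * n) (h1.symm.trans h2)
  · rintro ⟨n, hb, hS⟩
    exact ⟨b0 S hS, by rw [discr_b0, hb]⟩

end A

section B
variable {k : Type u} [Field k] [CharZero k]
  (S : Subalgebra (PowerSeries k) (Fin 2 → PowerSeries k))

/-- the generator `(t^n, -t^n)` -/
noncomputable def yv (n : ℕ) : Fin 2 → PowerSeries k :=
  ![(X : PowerSeries k) ^ n, -(X : PowerSeries k) ^ n]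

lemma yv_mem {n : ℕ} (hS : Subalgebra.toSubmodule S = T n) : yv (k := k) n ∈ S := by
  rw [mem_S_iff S hS]
  refine ⟨2, ?_⟩
  simp only [yv, Matrix.cons_val_zero, Matrix.cons_val_one]
  ring

theorem algEquiv {n : ℕ} (hS : Subalgebra.toSubmodule S = T n) :
    Nonempty (S ≃ₐ[PowerSeries k] AdjoinRoot
      (Polynomial.X ^ 2 - Polynomial.C ((PowerSeries.X : PowerSeries k) ^ (2 * n)))) := by
  have hmonic : (Polynomial.X ^ 2 - Polynomial.C ((PowerSeries.X : PowerSeries k) ^ (2 * n)) :
      Polynomial (PowerSeries k)).Monic := Polynomial.monic_X_pow_sub_C _ (by norm_num)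
  have hnd : (Polynomial.X ^ 2 - Polynomial.C ((PowerSeries.X : PowerSeries k) ^ (2 * n)) :
      Polynomial (PowerSeries k)).natDegree = 2 := Polynomial.natDegree_X_pow_sub_C
  let y : S := ⟨yv n, yv_mem S hS⟩
  have hy : (Polynomial.X ^ 2 - Polynomial.C ((PowerSeries.X : PowerSeries k) ^ (2 * n)) :
      Polynomial (PowerSeries k)).eval₂ (Algebra.ofId (PowerSeries k) S) y = 0 := by
    rw [Polynomial.eval₂_sub, Polynomial.eval₂_pow, Polynomial.eval₂_X, Polynomial.eval₂_C]
    apply Subtype.ext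
    funext i
    fin_cases i
    · show yv (k := k) n 0 ^ 2 - X ^ (2 * n) = 0
      simp only [yv, Matrix.cons_val_zero]
      ring
    · show yv (k := k) n 1 ^ 2 - X ^ (2 * n) = 0
      simp only [yv, Matrix.cons_val_one, Matrix.cons_val_zero]
      ring
  let φ := AdjoinRoot.liftAlgHom
    (Polynomial.X ^ 2 - Polynomial.C ((PowerSeries.X : PowerSeries k) ^ (2 * n)))
    (Algebra.ofId (PowerSeries k) S) y hy
  have hφ : ∀ a1 a0 : PowerSeries k,
      φ (AdjoinRoot.mk _ (Polynomial.C a1 * Polynomial.X + Polynomial.C a0)) =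
        algebraMap (PowerSeries k) S a1 * y + algebraMap (PowerSeries k) S a0 := by
    intro a1 a0
    show Polynomial.eval₂ _ y _ = _
    rw [Polynomial.eval₂_add, Polynomial.eval₂_mul, Polynomial.eval₂_C, Polynomial.eval₂_C,
      Polynomial.eval₂_X]
    rfl
  have hhalf : (2 : PowerSeries k) * PowerSeries.C (2⁻¹ : k) = 1 := by
    have e2 : (2 : PowerSeries k) = PowerSeries.C (2 : k) := (map_ofNat PowerSeries.C 2).symm
    rw [e2, ← map_mul, mul_inv_cancel₀ (two_ne_zero), map_one]
  have h2 : (2 : PowerSeries k) ≠ 0 := by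
    intro h
    rw [h, zero_mul] at hhalf
    exact zero_ne_one hhalf
  have hXn : (X : PowerSeries k) ^ n ≠ 0 := pow_ne_zero _ PowerSeries.X_ne_zero
  have hinj : Function.Injective φ := by
    rw [injective_iff_map_eq_zero]
    intro t ht
    obtain ⟨p, rfl⟩ := AdjoinRoot.mk_surjective t
    have hP1 : (Polynomial.X ^ 2 - Polynomial.C ((PowerSeries.X : PowerSeries k) ^ (2 * n)) :
        Polynomial (PowerSeries k)) ≠ 1 := by
      intro h
      rw [h, Polynomial.natDegree_one] at hnd
      omega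
    have hlt := Polynomial.natDegree_modByMonic_lt p hmonic hP1
    rw [hnd] at hlt
    obtain ⟨a1, a0, hr⟩ := Polynomial.exists_eq_X_add_C_of_natDegree_le_one
      (p := p %ₘ (Polynomial.X ^ 2 - Polynomial.C ((PowerSeries.X : PowerSeries k) ^ (2 * n))))
      (by omega)
    have hmk : AdjoinRoot.mk (Polynomial.X ^ 2 -
        Polynomial.C ((PowerSeries.X : PowerSeries k) ^ (2 * n))) p =
        AdjoinRoot.mk _ (Polynomial.C a1 * Polynomial.X + Polynomial.C a0) := by
      rw [← hr, AdjoinRoot.mk_eq_mk]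
      refine ⟨p /ₘ (Polynomial.X ^ 2 - Polynomial.C ((PowerSeries.X : PowerSeries k) ^ (2 * n))), ?_⟩
      have h3 := Polynomial.modByMonic_add_div p
        (Polynomial.X ^ 2 - Polynomial.C ((PowerSeries.X : PowerSeries k) ^ (2 * n)))
      linear_combination -h3
    rw [hmk] at ht ⊢
    rw [hφ] at ht
    have c0 : a1 * (X : PowerSeries k) ^ n + a0 = 0 :=
      congrArg (fun s : S => (s : Fin 2 → PowerSeries k) 0) ht
    have c1 : a1 * (-(X : PowerSeries k) ^ n) + a0 = 0 :=
      congrArg (fun s : S => (s : Fin 2 → PowerSeries k) 1) ht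
    have ha0 : a0 = 0 := by
      have h4 : (2 : PowerSeries k) * a0 = 0 := by linear_combination c0 + c1
      exact (mul_eq_zero.1 h4).resolve_left h2
    have ha1 : a1 = 0 := by
      rw [ha0, add_zero] at c0
      exact (mul_eq_zero.1 c0).resolve_right hXn
    rw [ha0, ha1, map_zero, zero_mul, add_zero, map_zero]
  have hsurj : Function.Surjective φ := by
    intro s
    obtain ⟨h, hh⟩ := (mem_S_iff S hS s.1).1 s.2
    refine ⟨AdjoinRoot.mk _ (Polynomial.C (PowerSeries.C (2⁻¹ : k) * h) * Polynomial.X +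
      Polynomial.C (s.1 1 + X ^ n * (PowerSeries.C (2⁻¹ : k) * h))), ?_⟩
    rw [hφ]
    apply Subtype.ext
    funext i
    fin_cases i
    · show PowerSeries.C (2⁻¹ : k) * h * X ^ n + (s.1 1 + X ^ n * (PowerSeries.C (2⁻¹ : k) * h)) =
        s.1 0
      linear_combination (X ^ n * h) * hhalf - hh
    · show PowerSeries.C (2⁻¹ : k) * h * (-X ^ n) +
        (s.1 1 + X ^ n * (PowerSeries.C (2⁻¹ : k) * h)) = s.1 1
      ring
  exact ⟨(AlgEquiv.ofBijective φ ⟨hinj, hsurj⟩).symm⟩

end B

end H12CR
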