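import Mathlib

set_option autoImplicit false
set_option linter.style.haveILetI false
set_option linter.unusedSectionVars false
universe u

namespace H12CR2

open PowerSeries

/-- ambient algebra `R[x]/(x^2 - t)` -/
abbrev Sp (k : Type u) [Field k] : Type u :=
  AdjoinRoot (Polynomial.X ^ 2 - Polynomial.C (PowerSeries.X : PowerSeries k))

section
variable {k : Type u} [Field k]

lemma monicP : (Polynomial.X ^ 2 - Polynomial.C (PowerSeries.X : PowerSeries k) :
    Polynomial (PowerSeries k)).Monic := Polynomial.monic_X_pow_sub_C _ (by norm_num)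

lemma natDegP : (Polynomial.X ^ 2 - Polynomial.C (PowerSeries.X : PowerSeries k) :
    Polynomial (PowerSeries k)).natDegree = 2 := Polynomial.natDegree_X_pow_sub_C

/-- the root -/
noncomputable def rt : Sp k :=
  AdjoinRoot.root (Polynomial.X ^ 2 - Polynomial.C (PowerSeries.X : PowerSeries k))

/-- basis `{1, root}` -/
noncomputable def bas : Module.Basis (Fin 2) (PowerSeries k) (Sp k) :=
  (AdjoinRoot.powerBasis' (monicP (k := k))).basis.reindex
    (finCongr (by rw [AdjoinRoot.powerBasis'_dim, natDegP]))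

lemma bas_apply (i : Fin 2) : bas (k := k) i = rt ^ (i : ℕ) := by
  rw [bas, Module.Basis.reindex_apply, PowerBasis.basis_eq_pow, AdjoinRoot.powerBasis'_gen]
  rfl

lemma bas_zero : bas (k := k) 0 = 1 := by
  rw [bas_apply]
  exact pow_zero _

lemma bas_one : bas (k := k) 1 = rt := by
  rw [bas_apply]
  exact pow_one _

lemma rt_sq : (rt : Sp k) * rt = (X : PowerSeries k) • (1 : Sp k) := by
  have h := AdjoinRoot.eval₂_root
    (Polynomial.X ^ 2 - Polynomial.C (PowerSeries.X : PowerSeries k))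
  rw [Polynomial.eval₂_sub, Polynomial.eval₂_pow, Polynomial.eval₂_X, Polynomial.eval₂_C,
    sub_eq_zero] at h
  rw [Algebra.smul_def, mul_one, AdjoinRoot.algebraMap_eq, ← h]
  exact (pow_two _).symm

/-- coordinates -/
noncomputable def c0 : Sp k →ₗ[PowerSeries k] PowerSeries k := (bas (k := k)).coord 0
/-- coordinates -/
noncomputable def c1 : Sp k →ₗ[PowerSeries k] PowerSeries k := (bas (k := k)).coord 1

lemma decomp (v : Sp k) : v = c0 v • (1 : Sp k) + c1 v • rt := by
  have h := (bas (k := k)).sum_repr v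
  rw [Fin.sum_univ_two, bas_zero, bas_one] at h
  exact h.symm

lemma c0_comb (a b : PowerSeries k) : c0 (a • (1 : Sp k) + b • rt) = a := by
  have h0 : (1 : Sp k) = bas 0 := bas_zero.symm
  have h1 : (rt : Sp k) = bas 1 := bas_one.symm
  rw [h0, h1, c0, map_add, map_smul, map_smul, Module.Basis.coord_apply, Module.Basis.coord_apply,
    Module.Basis.repr_self, Module.Basis.repr_self, Finsupp.single_eq_same,
    Finsupp.single_eq_of_ne (by decide), smul_eq_mul, smul_eq_mul, mul_one, mul_zero, add_zero]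

lemma c1_comb (a b : PowerSeries k) : c1 (a • (1 : Sp k) + b • rt) = b := by
  have h0 : (1 : Sp k) = bas 0 := bas_zero.symm
  have h1 : (rt : Sp k) = bas 1 := bas_one.symm
  rw [h0, h1, c1, map_add, map_smul, map_smul, Module.Basis.coord_apply, Module.Basis.coord_apply,
    Module.Basis.repr_self, Module.Basis.repr_self, Finsupp.single_eq_same,
    Finsupp.single_eq_of_ne (by decide), smul_eq_mul, smul_eq_mul, mul_one, mul_zero, zero_add]

lemma c1_one : c1 (1 : Sp k) = 0 := by
  have h := c1_comb (k := k) 1 0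
  rwa [one_smul, zero_smul, add_zero] at h

lemma c0_one : c0 (1 : Sp k) = 1 := by
  have h := c0_comb (k := k) 1 0
  rwa [one_smul, zero_smul, add_zero] at h

lemma c1_rt : c1 (rt : Sp k) = 1 := by
  have h := c1_comb (k := k) 0 1
  rwa [one_smul, zero_smul, zero_add] at h

lemma c0_rt : c0 (rt : Sp k) = 0 := by
  have h := c0_comb (k := k) 0 1
  rwa [one_smul, zero_smul, zero_add] at h

/-- the lattice `R·1 + t^n S'` -/
noncomputable def T (n : ℕ) : Submodule (PowerSeries k) (Sp k) :=
  Submodule.span (PowerSeries k) {(1 : Sp k)} ⊔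
    Ideal.span {(PowerSeries.X : PowerSeries k) ^ n} • (⊤ : Submodule (PowerSeries k) (Sp k))

lemma mem_T (n : ℕ) (v : Sp k) : v ∈ T n ↔ (X : PowerSeries k) ^ n ∣ c1 v := by
  constructor
  · intro hv
    obtain ⟨y, hy, w, hw, rfl⟩ := Submodule.mem_sup.1 hv
    obtain ⟨c, rfl⟩ := Submodule.mem_span_singleton.1 hy
    have hw' : (X : PowerSeries k) ^ n ∣ c1 w := by
      refine Submodule.smul_induction_on hw ?_ ?_
      · intro r hr m _
        obtain ⟨c', rfl⟩ := Ideal.mem_span_singleton'.1 hr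
        refine ⟨c' * c1 m, ?_⟩
        rw [map_smul, smul_eq_mul]
        ring
      · intro a b ha hb
        rw [map_add]
        exact dvd_add ha hb
    rw [map_add, map_smul, c1_one, smul_zero, zero_add]
    exact hw'
  · rintro ⟨h, hh⟩
    have e : v = c0 v • (1 : Sp k) + ((X : PowerSeries k) ^ n) • (h • rt) := by
      rw [smul_smul, ← hh]
      exact decomp v
    rw [e]
    exact Submodule.add_mem_sup (Submodule.smul_mem _ _ (Submodule.mem_span_singleton_self _))
      (Submodule.smul_mem_smul (Ideal.mem_span_singleton_self _) Submodule.mem_top)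

variable (S : Subalgebra (PowerSeries k) (Sp k))

lemma mem_S_iff {n : ℕ} (hS : Subalgebra.toSubmodule S = T n) (v : Sp k) :
    v ∈ S ↔ (X : PowerSeries k) ^ n ∣ c1 v := by
  rw [← Subalgebra.mem_toSubmodule, hS, mem_T]

/-- second basis vector -/
noncomputable def e2v (n : ℕ) : Sp k := ((X : PowerSeries k) ^ n) • rt

lemma c1_e2v (n : ℕ) : c1 (e2v (k := k) n) = X ^ n := by
  rw [e2v, map_smul, c1_rt, smul_eq_mul, mul_one]

lemma c0_e2v (n : ℕ) : c0 (e2v (k := k) n) = 0 := by
  rw [e2v, map_smul, c0_rt, smul_zero]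

lemma e2v_sq (n : ℕ) : e2v (k := k) n * e2v n = ((X : PowerSeries k) ^ (2 * n + 1)) • (1 : Sp k) := by
  rw [e2v, smul_mul_smul_comm, rt_sq, smul_smul]
  congr 1
  ring

lemma e2v_mem {n : ℕ} (hS : Subalgebra.toSubmodule S = T n) : e2v (k := k) n ∈ S := by
  rw [mem_S_iff S hS, c1_e2v]

/-- the standard basis -/
noncomputable def b0 {n : ℕ} (hS : Subalgebra.toSubmodule S = T n) :
    Module.Basis (Fin 2) (PowerSeries k) S :=
  Module.Basis.mk (v := ![(1 : S), ⟨e2v n, e2v_mem S hS⟩])
    (by
      rw [LinearIndependent.pair_iff]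
      intro s t hst
      have h := congrArg Subtype.val hst
      have h' : s • (1 : Sp k) + t • e2v n = 0 := h
      have h0 := congrArg c0 h'
      have h1 := congrArg c1 h'
      rw [map_add, map_smul, map_smul, c0_one, c0_e2v, map_zero, smul_zero, add_zero, smul_eq_mul,
        mul_one] at h0
      rw [map_add, map_smul, map_smul, c1_one, c1_e2v, map_zero, smul_zero, zero_add,
        smul_eq_mul] at h1
      refine ⟨h0, ?_⟩
      exact (mul_eq_zero.1 h1).resolve_right (pow_ne_zero _ PowerSeries.X_ne_zero))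
    (by
      intro x _
      rw [Submodule.mem_span_range_iff_exists_fun]
      obtain ⟨h, hh⟩ := (mem_S_iff S hS x.1).1 x.2
      refine ⟨![c0 x.1, h], ?_⟩
      rw [Fin.sum_univ_two]
      apply Subtype.ext
      show c0 x.1 • (1 : Sp k) + h • e2v n = x.1
      rw [e2v, smul_smul, mul_comm, ← hh]
      exact (decomp x.1).symm)

lemma b0_zero {n : ℕ} (hS : Subalgebra.toSubmodule S = T n) : b0 S hS 0 = 1 := by
  rw [b0, Module.Basis.mk_apply]
  rfl

lemma b0_one {n : ℕ} (hS : Subalgebra.toSubmodule S = T n) :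
    b0 S hS 1 = ⟨e2v n, e2v_mem S hS⟩ := by
  rw [b0, Module.Basis.mk_apply]
  rfl

lemma b0_one_sq {n : ℕ} (hS : Subalgebra.toSubmodule S = T n) :
    b0 S hS 1 * b0 S hS 1 = ((X : PowerSeries k) ^ (2 * n + 1)) • b0 S hS 0 := by
  rw [b0_one, b0_zero]
  apply Subtype.ext
  exact e2v_sq n

lemma trace_eq {n : ℕ} (hS : Subalgebra.toSubmodule S = T n) (s : S) :
    Algebra.trace (PowerSeries k) S s =
      (b0 S hS).repr (s * b0 S hS 0) 0 + (b0 S hS).repr (s * b0 S hS 1) 1 := by
  rw [Algebra.trace_eq_matrix_trace (b0 S hS), Matrix.trace_fin_two,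
    Algebra.leftMulMatrix_eq_repr_mul, Algebra.leftMulMatrix_eq_repr_mul]

lemma trace_one {n : ℕ} (hS : Subalgebra.toSubmodule S = T n) :
    Algebra.trace (PowerSeries k) S (1 : S) = 2 := by
  rw [trace_eq S hS, one_mul, one_mul, Module.Basis.repr_self, Module.Basis.repr_self,
    Finsupp.single_eq_same, Finsupp.single_eq_same]
  norm_num

lemma trace_e2 {n : ℕ} (hS : Subalgebra.toSubmodule S = T n) :
    Algebra.trace (PowerSeries k) S (b0 S hS 1) = 0 := by
  rw [trace_eq S hS, b0_one_sq, map_smul, Module.Basis.repr_self, b0_zero, mul_one,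
    Module.Basis.repr_self, Finsupp.smul_apply, Finsupp.single_eq_of_ne (by decide),
    Finsupp.single_eq_of_ne (by decide), smul_zero, add_zero]

lemma discr_b0 {n : ℕ} (hS : Subalgebra.toSubmodule S = T n) :
    Algebra.discr (PowerSeries k) (b0 S hS : Fin 2 → S) =
      4 * (X : PowerSeries k) ^ (2 * n + 1) := by
  rw [Algebra.discr_def, Matrix.det_fin_two]
  simp only [Algebra.traceMatrix_apply, Algebra.traceForm_apply]
  rw [b0_one_sq S hS, b0_zero S hS, one_mul, one_mul, mul_one, map_smul, trace_one S hS,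
    trace_e2 S hS, smul_eq_mul]
  ring

end

section A
variable {k : Type u} [Field k] (S : Subalgebra (PowerSeries k) (Sp k))

lemma exists_n (bS : Module.Basis (Fin 2) (PowerSeries k) S) :
    ∃ n : ℕ, Subalgebra.toSubmodule S = T n := by
  let D : Ideal (PowerSeries k) := Submodule.map c1 (Subalgebra.toSubmodule S)
  have hD : D ≠ ⊥ := by
    intro h0
    have hx : ∀ x : S, (x : Sp k) = c0 (x : Sp k) • (1 : Sp k) := by
      intro x
      have h1 : c1 (x : Sp k) ∈ D := Submodule.mem_map_of_mem x.2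
      rw [h0, Submodule.mem_bot] at h1
      have h2 := decomp (x : Sp k)
      rw [h1, zero_smul, add_zero] at h2
      exact h2
    have hli := bS.linearIndependent
    rw [Fintype.linearIndependent_iff] at hli
    have hrel : ∑ i, (![c0 (bS 1 : Sp k), -(c0 (bS 0 : Sp k))] : Fin 2 → PowerSeries k) i • bS i =
        0 := by
      rw [Fin.sum_univ_two]
      apply Subtype.ext
      show c0 (bS 1 : Sp k) • (bS 0 : Sp k) + (-(c0 (bS 0 : Sp k))) • (bS 1 : Sp k) = 0
      calc c0 (bS 1 : Sp k) • (bS 0 : Sp k) + (-(c0 (bS 0 : Sp k))) • (bS 1 : Sp k)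
          = c0 (bS 1 : Sp k) • (c0 (bS 0 : Sp k) • (1 : Sp k)) +
            (-(c0 (bS 0 : Sp k))) • (c0 (bS 1 : Sp k) • (1 : Sp k)) := by
            rw [← hx (bS 0), ← hx (bS 1)]
        _ = 0 := by
            rw [smul_smul, smul_smul, ← add_smul]
            have e : c0 (bS 1 : Sp k) * c0 (bS 0 : Sp k) +
                -(c0 (bS 0 : Sp k)) * c0 (bS 1 : Sp k) = 0 := by ring
            rw [e, zero_smul]
    have h3 := hli _ hrel
    have h31 : -(c0 (bS 0 : Sp k)) = 0 := h3 1
    have hb0 : bS 0 = 0 := by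
      apply Subtype.ext
      rw [hx (bS 0), neg_eq_zero.1 h31, zero_smul]
      rfl
    exact bS.ne_zero 0 hb0
  obtain ⟨n, hn⟩ :=
    IsDiscreteValuationRing.ideal_eq_span_pow_irreducible hD PowerSeries.X_irreducible
  refine ⟨n, ?_⟩
  ext v
  rw [mem_T, Subalgebra.mem_toSubmodule]
  constructor
  · intro hv
    have h1 : c1 v ∈ D := Submodule.mem_map_of_mem hv
    rw [hn, Ideal.mem_span_singleton] at h1
    exact h1
  · intro hv
    have h1 : c1 v ∈ D := by
      rw [hn, Ideal.mem_span_singleton]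
      exact hv
    obtain ⟨w, hw, hwv⟩ := h1
    have hw' : w ∈ S := hw
    have e : v = w + (c0 v - c0 w) • (1 : Sp k) := by
      have hv' := decomp v
      have hw'' := decomp w
      rw [hwv] at hw''
      calc v = c0 v • (1 : Sp k) + c1 v • rt := hv'
        _ = (c0 w • (1 : Sp k) + c1 v • rt) + (c0 v - c0 w) • (1 : Sp k) := by
            rw [sub_smul]; abel
        _ = w + (c0 v - c0 w) • (1 : Sp k) := by rw [← hw'']
    rw [e]
    exact S.add_mem hw' (S.smul_mem S.one_mem _)

lemma pow_assoc_iff (a c : ℕ)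
    (h : Associated ((X : PowerSeries k) ^ a) ((X : PowerSeries k) ^ c)) : a = c := by
  have hX0 : (X : PowerSeries k) ≠ 0 := PowerSeries.X_ne_zero
  have hXu : ¬ IsUnit (X : PowerSeries k) := PowerSeries.X_irreducible.not_isUnit
  have h1 := (pow_dvd_pow_iff hX0 hXu).1 h.dvd
  have h2 := (pow_dvd_pow_iff hX0 hXu).1 h.symm.dvd
  omega

variable [CharZero k]

lemma isUnit_four : IsUnit (4 : PowerSeries k) := by
  have e4 : (4 : PowerSeries k) = PowerSeries.C (4 : k) := (map_ofNat PowerSeries.C 4).symm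
  rw [e4]
  exact (isUnit_iff_ne_zero.2 (by norm_num : (4 : k) ≠ 0)).map PowerSeries.C

lemma discr_assoc {n : ℕ} (hS : Subalgebra.toSubmodule S = T n)
    (bS : Module.Basis (Fin 2) (PowerSeries k) S) :
    Associated (Algebra.discr (PowerSeries k) (bS : Fin 2 → S))
      ((X : PowerSeries k) ^ (2 * n + 1)) := by
  have h1 := Module.Basis.toMatrix_map_vecMul (b0 S hS) (bS : Fin 2 → S)
  have h2 := Algebra.discr_of_matrix_vecMul (A := PowerSeries k) (b0 S hS : Fin 2 → S)
    ((b0 S hS).toMatrix bS)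
  rw [h1, discr_b0] at h2
  rw [h2]
  have hu : IsUnit ((b0 S hS).toMatrix bS).det := by
    have h3 := (b0 S hS).isUnit_det bS
    rwa [Module.Basis.det_apply] at h3
  exact (associated_isUnit_mul_left_iff (hu.pow 2)).2
    ((associated_isUnit_mul_left_iff isUnit_four).2 (Associated.refl _))

theorem iff_part (b : ℕ) :
    (∃ bS : Module.Basis (Fin 2) (PowerSeries k) S,
      Ideal.span {Algebra.discr (PowerSeries k) ⇑bS} =
        Ideal.span {(PowerSeries.X : PowerSeries k) ^ b}) ↔
    ∃ n : ℕ, b = 2 * n + 1 ∧ Subalgebra.toSubmodule S = T n := by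
  constructor
  · rintro ⟨bS, hbS⟩
    obtain ⟨n, hS⟩ := exists_n S bS
    refine ⟨n, ?_, hS⟩
    have h1 := Ideal.span_singleton_eq_span_singleton.1 hbS
    have h2 := discr_assoc S hS bS
    exact pow_assoc_iff b (2 * n + 1) (h1.symm.trans h2)
  · rintro ⟨n, hb, hS⟩
    refine ⟨b0 S hS, ?_⟩
    rw [discr_b0, hb]
    exact Ideal.span_singleton_eq_span_singleton.2
      ((associated_isUnit_mul_left_iff isUnit_four).2 (Associated.refl _))

theorem algEquiv {n : ℕ} (hS : Subalgebra.toSubmodule S = T n) :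
    Nonempty (S ≃ₐ[PowerSeries k] AdjoinRoot
      (Polynomial.X ^ 2 - Polynomial.C ((PowerSeries.X : PowerSeries k) ^ (2 * n + 1)))) := by
  have hmonic : (Polynomial.X ^ 2 - Polynomial.C ((PowerSeries.X : PowerSeries k) ^ (2 * n + 1)) :
      Polynomial (PowerSeries k)).Monic := Polynomial.monic_X_pow_sub_C _ (by norm_num)
  have hnd : (Polynomial.X ^ 2 - Polynomial.C ((PowerSeries.X : PowerSeries k) ^ (2 * n + 1)) :
      Polynomial (PowerSeries k)).natDegree = 2 := Polynomial.natDegree_X_pow_sub_C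
  let y : S := ⟨e2v n, e2v_mem S hS⟩
  have hy : (Polynomial.X ^ 2 - Polynomial.C ((PowerSeries.X : PowerSeries k) ^ (2 * n + 1)) :
      Polynomial (PowerSeries k)).eval₂ (Algebra.ofId (PowerSeries k) S) y = 0 := by
    rw [Polynomial.eval₂_sub, Polynomial.eval₂_pow, Polynomial.eval₂_X, Polynomial.eval₂_C]
    apply Subtype.ext
    show e2v (k := k) n ^ 2 - algebraMap (PowerSeries k) (Sp k) (X ^ (2 * n + 1)) = 0
    have e : e2v (k := k) n ^ 2 = e2v n * e2v n := pow_two _
    rw [e, e2v_sq, Algebra.algebraMap_eq_smul_one, sub_self]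
  let φ := AdjoinRoot.liftAlgHom
    (Polynomial.X ^ 2 - Polynomial.C ((PowerSeries.X : PowerSeries k) ^ (2 * n + 1)))
    (Algebra.ofId (PowerSeries k) S) y hy
  have hφ : ∀ a1 a0 : PowerSeries k,
      ((φ (AdjoinRoot.mk _ (Polynomial.C a1 * Polynomial.X + Polynomial.C a0)) : S) : Sp k) =
        a0 • (1 : Sp k) + (a1 * X ^ n) • rt := by
    intro a1 a0
    have h1 : φ (AdjoinRoot.mk _ (Polynomial.C a1 * Polynomial.X + Polynomial.C a0)) =
        algebraMap (PowerSeries k) S a1 * y + algebraMap (PowerSeries k) S a0 := by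
      show Polynomial.eval₂ _ y _ = _
      rw [Polynomial.eval₂_add, Polynomial.eval₂_mul, Polynomial.eval₂_C, Polynomial.eval₂_C,
        Polynomial.eval₂_X]
      rfl
    rw [h1]
    show algebraMap (PowerSeries k) (Sp k) a1 * e2v n + algebraMap (PowerSeries k) (Sp k) a0 = _
    rw [← Algebra.smul_def, Algebra.algebraMap_eq_smul_one, e2v, smul_smul, add_comm]
  have hXn : (X : PowerSeries k) ^ n ≠ 0 := pow_ne_zero _ PowerSeries.X_ne_zero
  have hinj : Function.Injective φ := by
    rw [injective_iff_map_eq_zero]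
    intro t ht
    obtain ⟨p, rfl⟩ := AdjoinRoot.mk_surjective t
    have hP1 : (Polynomial.X ^ 2 - Polynomial.C ((PowerSeries.X : PowerSeries k) ^ (2 * n + 1)) :
        Polynomial (PowerSeries k)) ≠ 1 := by
      intro h
      rw [h, Polynomial.natDegree_one] at hnd
      omega
    have hlt := Polynomial.natDegree_modByMonic_lt p hmonic hP1
    rw [hnd] at hlt
    obtain ⟨a1, a0, hr⟩ := Polynomial.exists_eq_X_add_C_of_natDegree_le_one
      (p := p %ₘ (Polynomial.X ^ 2 - Polynomial.C ((PowerSeries.X : PowerSeries k) ^ (2 * n + 1))))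
      (by omega)
    have hmk : AdjoinRoot.mk (Polynomial.X ^ 2 -
        Polynomial.C ((PowerSeries.X : PowerSeries k) ^ (2 * n + 1))) p =
        AdjoinRoot.mk _ (Polynomial.C a1 * Polynomial.X + Polynomial.C a0) := by
      rw [← hr, AdjoinRoot.mk_eq_mk]
      refine ⟨p /ₘ (Polynomial.X ^ 2 -
        Polynomial.C ((PowerSeries.X : PowerSeries k) ^ (2 * n + 1))), ?_⟩
      have h3 := Polynomial.modByMonic_add_div p
        (Polynomial.X ^ 2 - Polynomial.C ((PowerSeries.X : PowerSeries k) ^ (2 * n + 1)))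
      linear_combination -h3
    rw [hmk] at ht ⊢
    have h4 := congrArg Subtype.val ht
    rw [hφ] at h4
    have h5 : a0 • (1 : Sp k) + (a1 * X ^ n) • rt = 0 := h4
    have c0' := congrArg c0 h5
    have c1' := congrArg c1 h5
    rw [c0_comb, map_zero] at c0'
    rw [c1_comb, map_zero] at c1'
    have ha1 : a1 = 0 := (mul_eq_zero.1 c1').resolve_right hXn
    rw [c0', ha1, map_zero, zero_mul, add_zero, map_zero]
  have hsurj : Function.Surjective φ := by
    intro s
    obtain ⟨h, hh⟩ := (mem_S_iff S hS s.1).1 s.2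
    refine ⟨AdjoinRoot.mk _ (Polynomial.C h * Polynomial.X + Polynomial.C (c0 s.1)), ?_⟩
    apply Subtype.ext
    rw [hφ, mul_comm, ← hh]
    exact (decomp s.1).symm
  exact ⟨(AlgEquiv.ofBijective φ ⟨hinj, hsurj⟩).symm⟩

end A

end H12CR2
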