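import Groth.Agent.Lib.helper12.Coeff
import Mathlib.RingTheory.HopfAlgebra.Convolution
import Mathlib.Tactic

/-!
helper12: the group of `k`-points `WithConv (A →ₐ[k] k)` of a commutative Hopf algebra acting on
comodules (general universes): `act` is a monoid hom, commutes with comodule maps, preserves
subcomodules; existence of a faithful finite-dimensional subcomodule of `A`.
-/

set_option autoImplicit false
set_option linter.unusedSectionVars false
universe u v w w'

open TensorProduct

namespace Groth.Agent.H12Pts

open Groth.Agent.H12Comod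

section Basic

variable {k : Type u} {A : Type v} [CommRing k] [CommRing A] [Bialgebra k A]
variable {V : Type w} [AddCommGroup V] [Module k V]

lemma T_lTensor (φ : A →ₗ[k] k) (ψ : A →ₗ[k] A) (t : V ⊗[k] A) :
    T V φ (ψ.lTensor V t) = T V (φ ∘ₗ ψ) t := by
  induction t using TensorProduct.induction_on with
  | zero => simp
  | tmul x c => simp
  | add x y hx hy => simp only [map_add, hx, hy]

lemma T_rTensor {W : Type w'} [AddCommGroup W] [Module k W] (φ : A →ₗ[k] k) (f : V →ₗ[k] W)
    (t : V ⊗[k] A) : T W φ (f.rTensor A t) = f (T V φ t) := by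
  induction t using TensorProduct.induction_on with
  | zero => simp
  | tmul x c => simp
  | add x y hx hy => simp only [map_add, hx, hy]

variable [HopfRep.Comod k A V]

lemma act_eq (g : A →ₐ[k] k) (v : V) :
    HopfRep.Comod.act k A V g v =
      T V g.toLinearMap (HopfRep.Comod.coact (k := k) (A := A) v) := rfl

lemma act_act (h g : A →ₐ[k] k) (v : V) :
    HopfRep.Comod.act k A V h (HopfRep.Comod.act k A V g v) =
      T V (h.toLinearMap ∘ₗ S g.toLinearMap) (HopfRep.Comod.coact (k := k) (A := A) v) := by
  rw [act_eq g v, act_eq h, coact_T_coact, T_lTensor]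

lemma conv_toLinearMap (h g : WithConv (A →ₐ[k] k)) :
    (h * g).ofConv.toLinearMap = h.ofConv.toLinearMap ∘ₗ S g.ofConv.toLinearMap := by
  have key : ∀ t : A ⊗[k] A, Algebra.TensorProduct.lmul' k
      (Algebra.TensorProduct.map h.ofConv g.ofConv t) = h.ofConv (T A g.ofConv.toLinearMap t) := by
    intro t
    induction t using TensorProduct.induction_on with
    | zero => simp
    | tmul a b => simp [mul_comm]
    | add x y hx hy => simp only [map_add, hx, hy]
  ext c
  simp only [AlgHom.toLinearMap_apply, LinearMap.comp_apply, S]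
  rw [AlgHom.convMul_def]
  simp only [WithConv.ofConv_toConv, AlgHom.comp_apply, Bialgebra.comulAlgHom_apply]
  exact key _

theorem act_mul (h g : WithConv (A →ₐ[k] k)) :
    HopfRep.Comod.act k A V (h * g).ofConv =
      HopfRep.Comod.act k A V h.ofConv * HopfRep.Comod.act k A V g.ofConv := by
  ext v
  rw [Module.End.mul_apply, act_act, act_eq, conv_toLinearMap]

theorem act_one : HopfRep.Comod.act k A V (1 : WithConv (A →ₐ[k] k)).ofConv = 1 := by
  ext v
  rw [act_eq]
  have h1 : ((1 : WithConv (A →ₐ[k] k)).ofConv).toLinearMap =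
      (CoalgebraStruct.counit (R := k) (A := A)) := by
    ext a
    simp [AlgHom.convOne_def]
  rw [h1, T, LinearMap.comp_apply]
  have := LinearMap.congr_fun (HopfRep.Comod.counit_comp (k := k) (A := A) (V := V)) v
  simp only [LinearMap.comp_apply] at this
  rw [this]
  simp

variable (k A V) in
/-- the action of the monoid of points on a comodule -/
noncomputable def actHom : WithConv (A →ₐ[k] k) →* Module.End k V where
  toFun g := HopfRep.Comod.act k A V g.ofConv
  map_one' := act_one
  map_mul' := act_mul

@[simp] lemma actHom_apply (g : WithConv (A →ₐ[k] k)) (v : V) :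
    actHom k A V g v = HopfRep.Comod.act k A V g.ofConv v := rfl

/-- comodule maps commute with the action of points -/
theorem act_comodHom {W : Type w'} [AddCommGroup W] [Module k W] [HopfRep.Comod k A W]
    (f : V →ₗ[k] W) (hf : Hoch.IsComodHom A f) (g : A →ₐ[k] k) (v : V) :
    HopfRep.Comod.act k A W g (f v) = f (HopfRep.Comod.act k A V g v) := by
  rw [act_eq, act_eq]
  have := LinearMap.congr_fun hf v
  simp only [LinearMap.comp_apply] at this
  rw [this, T_rTensor]

/-- subcomodules are stable under points -/
theorem act_mem_of_isSubcomod (X : Submodule k V) (hX : HopfRep.IsSubcomod (k := k) (A := A) X)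
    (g : A →ₐ[k] k) (v : V) (hv : v ∈ X) : HopfRep.Comod.act k A V g v ∈ X := by
  obtain ⟨y, hy⟩ := hX v hv
  rw [act_eq, ← hy, T_rTensor]
  exact Subtype.mem _

/-- a fixed vector is fixed by every point -/
theorem act_of_mem_fixedPts (g : A →ₐ[k] k) (v : V) (hv : v ∈ HopfRep.fixedPts k A V) :
    HopfRep.Comod.act k A V g v = v := by
  have hv' : HopfRep.Comod.coact (k := k) (A := A) v = v ⊗ₜ[k] (1 : A) := hv
  rw [act_eq, hv', T_tmul]
  simp

/-- if `coact v - v ⊗ 1 ∈ X ⊗ A` then `g v - v ∈ X`. -/
theorem act_sub_mem (X : Submodule k V) (g : A →ₐ[k] k) (v : V)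
    (hv : HopfRep.Comod.coact (k := k) (A := A) v - v ⊗ₜ[k] (1 : A) ∈
      LinearMap.range (X.subtype.rTensor A)) :
    HopfRep.Comod.act k A V g v - v ∈ X := by
  obtain ⟨y, hy⟩ := hv
  have h1 : HopfRep.Comod.act k A V g v - v =
      T V g.toLinearMap (HopfRep.Comod.coact (k := k) (A := A) v - v ⊗ₜ[k] (1 : A)) := by
    rw [map_sub, T_tmul, act_eq]
    simp
  rw [h1, ← hy, T_rTensor]
  exact Subtype.mem _

end Basic

section Faithful

variable {k : Type u} {A : Type v} [Field k] [CommRing A] [Bialgebra k A]

/-- the counit applied to the action of a point on the regular comodule recovers the point. -/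
theorem counit_act_regular (g : A →ₐ[k] k) (a : A) :
    CoalgebraStruct.counit (R := k) (HopfRep.Comod.act k A A g a) = g a := by
  rw [act_eq]
  show CoalgebraStruct.counit (R := k) (T A g.toLinearMap (CoalgebraStruct.comul (R := k) a)) = g a
  have key : ∀ t : A ⊗[k] A, CoalgebraStruct.counit (R := k) (T A g.toLinearMap t) =
      g (TensorProduct.lid k A ((CoalgebraStruct.counit (R := k) (A := A)).rTensor A t)) := by
    intro t
    induction t using TensorProduct.induction_on with
    | zero => simp
    | tmul a b => simp [mul_comm]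
    | add x y hx hy => simp only [map_add, hx, hy]
  rw [key, Coalgebra.rTensor_counit_comul]
  simp

/-- a finitely generated Hopf algebra has a faithful finite-dimensional subcomodule (of the
regular comodule). -/
theorem exists_faithful [Algebra.FiniteType k A] :
    ∃ W : Submodule k A, HopfRep.IsSubcomod (k := k) (A := A) W ∧ Module.Finite k W ∧
      ∀ g : A →ₐ[k] k, (∀ w ∈ W, HopfRep.Comod.act k A A g w = w) →
        g = Bialgebra.counitAlgHom k A := by
  classical
  obtain ⟨s, hs⟩ := (Algebra.FiniteType.out : (⊤ : Subalgebra k A).FG)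
  have hex : ∀ a : A, ∃ W : Submodule k A, Module.Finite k W ∧ a ∈ W ∧
      HopfRep.IsSubcomod (k := k) (A := A) W :=
    fun a => exists_finite_subcomod (k := k) (C := A) a
  choose Wf hfin hmem hsub using hex
  let W : Submodule k A := ⨆ a ∈ s, Wf a
  have hWsub : HopfRep.IsSubcomod (k := k) (A := A) W :=
    H12Coeff.isSubcomod_iSup _ fun a => H12Coeff.isSubcomod_iSup _ fun _ => hsub a
  have hWfin : Module.Finite k W := by
    haveI : ∀ a : A, Module.Finite k (Wf a) := hfin
    have hW : W = s.sup Wf := (Finset.sup_eq_iSup s Wf).symm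
    rw [hW]
    exact Submodule.finite_finset_sup s Wf
  refine ⟨W, hWsub, hWfin, ?_⟩
  intro g hg
  apply AlgHom.ext_of_adjoin_eq_top hs
  intro a ha
  have haW : a ∈ W := (le_iSup₂ (f := fun a (_ : a ∈ s) => Wf a) a ha) (hmem a)
  have := hg a haW
  rw [← counit_act_regular g a, this]
  rfl

end Faithful

section FaithfulGroup

variable {k : Type u} {A : Type v} [Field k] [CommRing A] [HopfAlgebra k A]

/-- a finitely generated Hopf algebra has a finite-dimensional comodule (in the universe of `A`)
on which the group of points acts faithfully. -/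
theorem exists_faithful_comod [Algebra.FiniteType k A] :
    ∃ (W : Submodule k A) (hW : HopfRep.IsSubcomod (k := k) (A := A) W), Module.Finite k W ∧
      (@actHom k A _ _ _ W _ _ (ComodSub.Comod.restr (HopfRep.Comod.regular k A) W hW)).ker = ⊥ := by
  obtain ⟨W, hWsub, hWfin, hfaith⟩ := exists_faithful (k := k) (A := A)
  refine ⟨W, hWsub, hWfin, ?_⟩
  letI cW : HopfRep.Comod k A W := ComodSub.Comod.restr (HopfRep.Comod.regular k A) W hWsub
  rw [eq_bot_iff]
  intro g hg
  rw [MonoidHom.mem_ker] at hg
  rw [Subgroup.mem_bot]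
  have h1 : g.ofConv = Bialgebra.counitAlgHom k A := by
    apply hfaith
    intro w hw
    have h2 := act_comodHom (k := k) (A := A) W.subtype
      (ComodSub.isComodHom_subtype (HopfRep.Comod.regular k A) W hWsub) g.ofConv ⟨w, hw⟩
    have h3 : HopfRep.Comod.act k A W g.ofConv ⟨w, hw⟩ = ⟨w, hw⟩ := by
      have := LinearMap.congr_fun hg ⟨w, hw⟩
      simpa using this
    rw [h3] at h2
    exact h2
  apply WithConv.ofConv_injective
  rw [h1]
  ext a
  simp [AlgHom.convOne_def]

end FaithfulGroup

end Groth.Agent.H12Pts
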