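import Mathlib
import Groth.Agent.Lib.helper12.Points

/-!
helper12: Deligne's theorem for finite free commutative group schemes (Hopf form): if `H` is a
commutative cocommutative Hopf algebra over `R` with a finite basis indexed by `ι`, every point
`u : H →ₐ[R] R` satisfies `u ^ card ι = 1` in the convolution group.  Proof: the norm argument,
carried out with matrices over the convolution ring `WithConv (H →ₗ[R] R)`.
-/

set_option autoImplicit false
set_option linter.unusedSectionVars false
set_option linter.style.haveILetI false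
universe u v w

open TensorProduct

namespace Groth.Agent.H12Del

open Groth.Agent.H12Comod Groth.Agent.H12Pts WithConv

section Core

variable {R : Type u} [CommRing R] {H : Type v} [CommRing H] [HopfAlgebra R H]
variable {ι : Type w} [Fintype ι] [DecidableEq ι] (b : Module.Basis ι R H)

/-- the `(i,k)` entry of the left multiplication matrix, as a functional -/
noncomputable def ent (i k : ι) : H →ₗ[R] R :=
  (Matrix.entryLinearMap R R i k) ∘ₗ (Algebra.leftMulMatrix b).toLinearMap

lemma ent_apply (i k : ι) (y : H) : ent b i k y = Algebra.leftMulMatrix b y i k := rfl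

lemma ent_mul (i k : ι) (x y : H) : ent b i k (x * y) = ∑ j, ent b i j x * ent b j k y := by
  simp only [ent_apply, map_mul, Matrix.mul_apply]

lemma ent_algebraMap (i k : ι) (r : R) :
    ent b i k (algebraMap R H r) = if i = k then r else 0 := by
  rw [ent_apply, AlgHom.commutes, Matrix.algebraMap_matrix_apply]
  rfl

/-- the matrix over the convolution ring attached to an endomorphism -/
noncomputable def Mat (f : H →ₗ[R] H) : Matrix ι ι (WithConv (H →ₗ[R] R)) :=
  fun i k => toConv (ent b i k ∘ₗ f)

lemma key (f g : H →ₗ[R] H) (i k : ι) (t : H ⊗[R] H) :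
    ent b i k (LinearMap.mul' R H (TensorProduct.map f g t)) =
      ∑ j, LinearMap.mul' R R (TensorProduct.map (ent b i j ∘ₗ f) (ent b j k ∘ₗ g) t) := by
  induction t using TensorProduct.induction_on with
  | zero => simp
  | tmul x y => simp [ent_mul]
  | add x y hx hy => simp only [map_add, hx, hy, Finset.sum_add_distrib]

lemma mat_mul (f g : WithConv (H →ₗ[R] H)) :
    Mat b (f * g).ofConv = Mat b f.ofConv * Mat b g.ofConv := by
  ext i k : 1
  rw [Matrix.mul_apply]
  apply WithConv.ofConv_injective
  rw [WithConv.ofConv_sum]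
  ext x
  rw [LinearMap.sum_apply]
  simp only [Mat, WithConv.ofConv_toConv, LinearMap.comp_apply]
  rw [LinearMap.convMul_apply, key]
  rfl

lemma mat_one : Mat b (1 : WithConv (H →ₗ[R] H)).ofConv = 1 := by
  ext i k : 1
  apply WithConv.ofConv_injective
  ext x
  simp only [Mat, WithConv.ofConv_toConv, LinearMap.comp_apply]
  rw [LinearMap.convOne_def, WithConv.ofConv_toConv, LinearMap.comp_apply, Algebra.linearMap_apply,
    ent_algebraMap, Matrix.one_apply]
  split_ifs <;> simp

lemma mat_unit (φ : WithConv (H →ₗ[R] R)) :
    Mat b (Algebra.linearMap R H ∘ₗ φ.ofConv) = φ • (1 : Matrix ι ι (WithConv (H →ₗ[R] R))) := by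
  ext i k : 1
  apply WithConv.ofConv_injective
  ext x
  simp only [Mat, WithConv.ofConv_toConv, LinearMap.comp_apply, Algebra.linearMap_apply,
    ent_algebraMap, Matrix.smul_apply, Matrix.one_apply, smul_eq_mul]
  split_ifs <;> simp

lemma mat_conj (τ : H →ₐ[R] H) (f : H →ₗ[R] H) :
    Mat b (τ.toLinearMap ∘ₗ f) *
        (LinearMap.toMatrix b b τ.toLinearMap).map (algebraMap R (WithConv (H →ₗ[R] R))) =
      (LinearMap.toMatrix b b τ.toLinearMap).map (algebraMap R (WithConv (H →ₗ[R] R))) *
        Mat b f := by
  have hmat : ∀ y : H, Algebra.leftMulMatrix b (τ y) * LinearMap.toMatrix b b τ.toLinearMap =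
      LinearMap.toMatrix b b τ.toLinearMap * Algebra.leftMulMatrix b y := by
    intro y
    rw [Algebra.leftMulMatrix_apply, Algebra.leftMulMatrix_apply, ← LinearMap.toMatrix_comp,
      ← LinearMap.toMatrix_comp]
    congr 1
    ext z
    simp
  ext i k : 1
  rw [Matrix.mul_apply, Matrix.mul_apply]
  apply WithConv.ofConv_injective
  rw [WithConv.ofConv_sum, WithConv.ofConv_sum]
  ext x
  rw [LinearMap.sum_apply, LinearMap.sum_apply]
  have h1 := congrFun (congrFun (hmat (f x)) i) k
  rw [Matrix.mul_apply, Matrix.mul_apply] at h1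
  convert h1 using 1
  · refine Finset.sum_congr rfl fun j _ => ?_
    rw [Matrix.map_apply, ← Algebra.commutes, ← Algebra.smul_def]
    simp [Mat, ent_apply, mul_comm]
  · refine Finset.sum_congr rfl fun j _ => ?_
    rw [Matrix.map_apply, ← Algebra.smul_def]
    simp [Mat, ent_apply]

end Core

section Main

variable {R : Type u} [CommRing R] {H : Type v} [CommRing H] [HopfAlgebra R H]
variable {ι : Type w} [Fintype ι] [DecidableEq ι] (b : Module.Basis ι R H)

lemma T_alg_mul (g : H →ₐ[R] R) (s t : H ⊗[R] H) :
    T H g.toLinearMap (s * t) = T H g.toLinearMap s * T H g.toLinearMap t := by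
  induction s using TensorProduct.induction_on with
  | zero => simp
  | add x y hx hy => simp only [add_mul, map_add, hx, hy]
  | tmul x y =>
    induction t using TensorProduct.induction_on with
    | zero => simp
    | add x' y' hx hy => simp only [mul_add, map_add, hx, hy]
    | tmul x' y' =>
      rw [Algebra.TensorProduct.tmul_mul_tmul, T_tmul, T_tmul, T_tmul]
      simp only [AlgHom.toLinearMap_apply, map_mul, smul_mul_smul_comm]

lemma act_regular_mul (g : H →ₐ[R] R) (a c : H) :
    HopfRep.Comod.act R H H g (a * c) =
      HopfRep.Comod.act R H H g a * HopfRep.Comod.act R H H g c := by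
  rw [act_eq, act_eq, act_eq]
  show T H g.toLinearMap (CoalgebraStruct.comul (R := R) (a * c)) =
    T H g.toLinearMap (CoalgebraStruct.comul (R := R) a) *
      T H g.toLinearMap (CoalgebraStruct.comul (R := R) c)
  rw [Bialgebra.comul_mul, T_alg_mul]

lemma act_regular_one (g : H →ₐ[R] R) : HopfRep.Comod.act R H H g (1 : H) = 1 := by
  rw [act_eq]
  show T H g.toLinearMap (CoalgebraStruct.comul (R := R) (1 : H)) = 1
  rw [Bialgebra.comul_one, Algebra.TensorProduct.one_def, T_tmul]
  simp

lemma act_inv_act (g : H →ₐ[R] R) (a : H) :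
    HopfRep.Comod.act R H H g
      (HopfRep.Comod.act R H H ((WithConv.toConv g)⁻¹).ofConv a) = a := by
  have h := act_mul (k := R) (A := H) (V := H) (WithConv.toConv g) (WithConv.toConv g)⁻¹
  rw [mul_inv_cancel, act_one] at h
  have h2 := LinearMap.congr_fun h a
  rw [Module.End.mul_apply, Module.End.one_apply] at h2
  exact h2.symm

/-- translation by a point, as an algebra endomorphism -/
noncomputable def tr (g : H →ₐ[R] R) : H →ₐ[R] H :=
  AlgHom.ofLinearMap (HopfRep.Comod.act R H H g) (act_regular_one g) (act_regular_mul g)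

lemma tr_apply (g : H →ₐ[R] R) (a : H) : tr g a = HopfRep.Comod.act R H H g a := rfl

lemma T_eq_conv (φ : H →ₗ[R] R) (t : H ⊗[R] H) :
    T H φ t = LinearMap.mul' R H (TensorProduct.map LinearMap.id (Algebra.linearMap R H ∘ₗ φ) t) := by
  induction t using TensorProduct.induction_on with
  | zero => simp
  | tmul x y => simp [Algebra.smul_def, mul_comm]
  | add x y hx hy => simp only [map_add, hx, hy]

lemma tr_eq_conv (g : H →ₐ[R] R) :
    (tr g).toLinearMap = (toConv (LinearMap.id : H →ₗ[R] H) *
      toConv (Algebra.linearMap R H ∘ₗ g.toLinearMap)).ofConv := by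
  ext x
  rw [AlgHom.toLinearMap_apply, tr_apply, act_eq, LinearMap.convMul_apply]
  exact T_eq_conv _ _

lemma isUnit_det_tr (g : H →ₐ[R] R) :
    IsUnit (LinearMap.toMatrix b b (tr g).toLinearMap).det := by
  have h : (tr g).toLinearMap ∘ₗ (tr ((toConv g)⁻¹).ofConv).toLinearMap = LinearMap.id := by
    ext a
    exact act_inv_act g a
  have h2 := congrArg (LinearMap.toMatrix b b) h
  rw [LinearMap.toMatrix_comp b b b, LinearMap.toMatrix_id] at h2
  exact IsUnit.of_mul_eq_one _ (by rw [← Matrix.det_mul, h2, Matrix.det_one])

variable [Coalgebra.IsCocomm R H]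

include b in
/-- **Deligne's theorem**, free case, for `R`-points. -/
theorem pow_card_eq_one (u : WithConv (H →ₐ[R] R)) : u ^ Fintype.card ι = 1 := by
  let D := WithConv (H →ₗ[R] R)
  let uD : D := toConv u.ofConv.toLinearMap
  let M : Matrix ι ι D := Mat b LinearMap.id
  let P := LinearMap.toMatrix b b (tr u.ofConv).toLinearMap
  have h1 : Mat b (tr u.ofConv).toLinearMap = M * (uD • (1 : Matrix ι ι D)) := by
    rw [tr_eq_conv, mat_mul, ← mat_unit]
  have h2 : Mat b (tr u.ofConv).toLinearMap * P.map (algebraMap R D) =
      P.map (algebraMap R D) * M := by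
    have := mat_conj b (tr u.ofConv) LinearMap.id
    simpa using this
  have hM : IsUnit M.det := by
    have : M * Mat b (HopfAlgebra.antipode R (A := H)) = 1 := by
      rw [← mat_one b, ← LinearMap.id_mul_antipode, mat_mul]
    exact IsUnit.of_mul_eq_one _ (by rw [← Matrix.det_mul, this, Matrix.det_one])
  have hP : IsUnit (P.map (algebraMap R D)).det := by
    have : (P.map (algebraMap R D)).det = algebraMap R D P.det := by
      rw [← RingHom.mapMatrix_apply, ← RingHom.map_det]
    rw [this]
    exact (isUnit_det_tr b u.ofConv).map _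
  have h3 := congrArg Matrix.det h2
  rw [Matrix.det_mul, Matrix.det_mul, h1, Matrix.det_mul, Matrix.det_smul, Matrix.det_one,
    mul_one] at h3
  have h4 : uD ^ Fintype.card ι = 1 := by
    have : (M.det * (P.map (algebraMap R D)).det) * uD ^ Fintype.card ι =
        (M.det * (P.map (algebraMap R D)).det) * 1 := by
      rw [mul_one]
      linear_combination h3
    exact (hM.mul hP).mul_left_cancel this
  apply (toConv_injective.comp (AlgHom.toLinearMap_injective.comp ofConv_injective))
  simp only [Function.comp]
  rw [AlgHom.toLinearMap_convPow]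
  exact h4

end Main

section Points

variable {R : Type u} [CommRing R] {A : Type v} [CommRing A] [HopfAlgebra R A]
variable {S : Type w} [CommRing S] [Algebra R S]

/-- restriction of an `S`-point of `S ⊗ A` to an `S`-valued point of `A` -/
noncomputable def res (v : (S ⊗[R] A) →ₐ[S] S) : A →ₐ[R] S :=
  (v.restrictScalars R).comp Algebra.TensorProduct.includeRight

lemma res_apply (v : (S ⊗[R] A) →ₐ[S] S) (a : A) : res v a = v (1 ⊗ₜ a) := rfl

lemma res_key (v w : (S ⊗[R] A) →ₐ[S] S) (t : A ⊗[R] A) :
    Algebra.TensorProduct.lift v w (fun _ _ => Commute.all _ _)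
      (TensorProduct.AlgebraTensorModule.tensorTensorTensorComm R S R S S S A A
        (((1 : S) ⊗ₜ[S] (1 : S)) ⊗ₜ[R] t)) =
    Algebra.TensorProduct.lift (res v) (res w) (fun _ _ => Commute.all _ _) t := by
  induction t using TensorProduct.induction_on with
  | zero => simp
  | tmul x y => simp [res_apply]
  | add x y hx hy => simp only [tmul_add, map_add, hx, hy]

lemma res_mul (v w : WithConv ((S ⊗[R] A) →ₐ[S] S)) :
    toConv (res (v * w).ofConv) = toConv (res v.ofConv) * toConv (res w.ofConv) := by
  apply WithConv.ofConv_injective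
  ext a
  rw [WithConv.ofConv_toConv, res_apply, AlgHom.convMul_apply, AlgHom.convMul_apply,
    TensorProduct.comul_tmul, Bialgebra.comul_one, Algebra.TensorProduct.one_def]
  exact res_key _ _ _

lemma res_one : toConv (res (1 : WithConv ((S ⊗[R] A) →ₐ[S] S)).ofConv) = 1 := by
  apply WithConv.ofConv_injective
  ext a
  rw [WithConv.ofConv_toConv, res_apply, AlgHom.convOne_apply, AlgHom.convOne_apply,
    TensorProduct.counit_tmul]
  simp [Algebra.smul_def]

/-- `res` as a monoid hom -/
noncomputable def resHom : WithConv ((S ⊗[R] A) →ₐ[S] S) →* WithConv (A →ₐ[R] S) where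
  toFun v := toConv (res v.ofConv)
  map_one' := res_one
  map_mul' := res_mul

variable [Coalgebra.IsCocomm R A]

/-- Deligne's theorem for `S`-valued points when `S ⊗ A` is finite free over `S`. -/
theorem pow_finrank_eq_one [Module.Free S (S ⊗[R] A)] [Module.Finite S (S ⊗[R] A)]
    (u : A →ₐ[R] S) : toConv u ^ Module.finrank S (S ⊗[R] A) = 1 := by
  classical
  rcases subsingleton_or_nontrivial S with hS | hS
  · apply WithConv.ofConv_injective
    ext a
    exact Subsingleton.elim _ _
  let uS : (S ⊗[R] A) →ₐ[S] S :=
    Algebra.TensorProduct.lift (Algebra.ofId S S) u (fun _ _ => Commute.all _ _)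
  have h1 := pow_card_eq_one (Module.finBasis S (S ⊗[R] A)) (toConv uS)
  rw [Fintype.card_fin] at h1
  have h2 := congrArg (resHom (R := R) (A := A) (S := S)) h1
  rw [map_pow, map_one] at h2
  have h3 : resHom (R := R) (A := A) (S := S) (toConv uS) = toConv u := by
    apply WithConv.ofConv_injective
    ext a
    show uS (1 ⊗ₜ a) = u a
    simp [uS]
  rwa [h3] at h2

end Points

section Global

variable {R : Type u} [CommRing R] {A : Type v} [CommRing A] [HopfAlgebra R A]

/-- composition with an algebra hom on the target is a monoid hom of convolution monoids -/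
noncomputable def compHom {B : Type w} {B' : Type*} [CommRing B] [Algebra R B] [CommRing B']
    [Algebra R B'] (h : B →ₐ[R] B') : WithConv (A →ₐ[R] B) →* WithConv (A →ₐ[R] B') where
  toFun f := toConv (h.comp f.ofConv)
  map_one' := by
    apply WithConv.ofConv_injective
    ext a
    simp [AlgHom.convOne_apply]
  map_mul' f g := by
    apply WithConv.ofConv_injective
    exact AlgHom.comp_convMul_distrib h f g

variable [Coalgebra.IsCocomm R A]

/-- **Deligne's theorem**: a commutative finite locally free group scheme of constant rank `n`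
is killed by `n`. -/
theorem deligne [Module.Finite R A] [Module.Projective R A] (n : ℕ)
    (hn : ∀ p : PrimeSpectrum R, Module.rankAtStalk A p = n) :
    (toConv (AlgHom.id R A)) ^ n = 1 := by
  apply WithConv.ofConv_injective
  ext a
  rw [← sub_eq_zero]
  apply eq_zero_of_localization
  intro J hJ
  let S := Localization.AtPrime J
  let ι : A →ₐ[R] S := IsScalarTower.toAlgHom R A S
  haveI : Module.Free S (S ⊗[R] A) := Module.free_of_flat_of_isLocalRing
  have hrank : Module.finrank S (S ⊗[R] A) = n := by
    have h1 := Module.rankAtStalk_baseChange (R := R) (M := A) (S := S) (IsLocalRing.closedPoint S)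
    rw [hn, Module.rankAtStalk_eq_finrank_of_free] at h1
    exact_mod_cast h1
  have h2 := pow_finrank_eq_one (R := R) (A := A) (S := S) ι
  rw [hrank] at h2
  have h3 : compHom (A := A) ι (toConv (AlgHom.id R A)) = toConv ι := rfl
  have h5 : compHom (A := A) ι ((toConv (AlgHom.id R A)) ^ n) = 1 := by rw [map_pow, h3, h2]
  have h6 := congrArg (fun f : WithConv (A →ₐ[R] S) => f.ofConv a) h5
  simp only [AlgHom.convOne_apply] at h6
  rw [map_sub, sub_eq_zero, AlgHom.convOne_apply]
  rw [← IsScalarTower.algebraMap_apply]
  exact h6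

end Global

end Groth.Agent.H12Del
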