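import Mathlib
import Groth.Agent.Lib.helper12.Deligne
import Groth.Agent.Lib.helper12.FinEtale

/-!
helper12: base change of the convolution algebra `WithConv (A →ₗ[k] k)` along a field extension
(`rhoHom`, injective monoid hom), and: the convolution algebra (Cartier dual) of a finite étale
commutative cocommutative Hopf algebra of `p`-power dimension in characteristic `p` is local.
-/

set_option autoImplicit false
set_option linter.unusedSectionVars false
set_option linter.style.haveILetI false
universe u v w

open TensorProduct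

namespace Groth.Agent.H12Del

open WithConv

section BC

variable {k : Type u} [Field k] {A : Type v} [CommRing A] [HopfAlgebra k A]
variable (K : Type w) [Field K] [Algebra k K]

/-- base change of functionals -/
noncomputable def rho (φ : WithConv (A →ₗ[k] k)) : WithConv ((K ⊗[k] A) →ₗ[K] K) :=
  toConv (LinearMap.liftBaseChange K (Algebra.linearMap k K ∘ₗ φ.ofConv))

lemma rho_tmul (φ : WithConv (A →ₗ[k] k)) (c : K) (a : A) :
    (rho K φ).ofConv (c ⊗ₜ a) = c * algebraMap k K (φ.ofConv a) := by
  simp [rho, LinearMap.liftBaseChange_tmul]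

lemma ext_one_tmul {P : Type*} [AddCommGroup P] [Module K P] [Module k P] [IsScalarTower k K P]
    (f g : (K ⊗[k] A) →ₗ[K] P)
    (h : ∀ a, f (1 ⊗ₜ a) = g (1 ⊗ₜ a)) : f = g := by
  apply TensorProduct.AlgebraTensorModule.ext
  intro x y
  have : x ⊗ₜ[k] y = x • ((1 : K) ⊗ₜ[k] y) := by
    rw [TensorProduct.smul_tmul', smul_eq_mul, mul_one]
  rw [this, map_smul, map_smul, h]

lemma rho_key (φ ψ : WithConv (A →ₗ[k] k)) (t : A ⊗[k] A) :
    LinearMap.mul' K K (TensorProduct.map (rho K φ).ofConv (rho K ψ).ofConv
      (TensorProduct.AlgebraTensorModule.tensorTensorTensorComm k K k K K K A A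
        (((1 : K) ⊗ₜ[K] (1 : K)) ⊗ₜ[k] t))) =
    algebraMap k K (LinearMap.mul' k k (TensorProduct.map φ.ofConv ψ.ofConv t)) := by
  induction t using TensorProduct.induction_on with
  | zero => simp
  | tmul x y => simp [rho_tmul]
  | add x y hx hy => simp only [tmul_add, map_add, hx, hy]

lemma rho_mul (φ ψ : WithConv (A →ₗ[k] k)) : rho K (φ * ψ) = rho K φ * rho K ψ := by
  apply WithConv.ofConv_injective
  apply ext_one_tmul
  intro a
  rw [rho_tmul, one_mul]
  have h2 : (rho K φ * rho K ψ).ofConv ((1 : K) ⊗ₜ[k] a) =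
      LinearMap.mul' K K (TensorProduct.map (rho K φ).ofConv (rho K ψ).ofConv
        (Coalgebra.comul (R := K) ((1 : K) ⊗ₜ[k] a))) := rfl
  rw [h2, TensorProduct.comul_tmul, Bialgebra.comul_one, Algebra.TensorProduct.one_def, rho_key]
  rfl

lemma rho_one : rho K (1 : WithConv (A →ₗ[k] k)) = 1 := by
  apply WithConv.ofConv_injective
  apply ext_one_tmul
  intro a
  rw [rho_tmul, one_mul]
  have h2 : (1 : WithConv ((K ⊗[k] A) →ₗ[K] K)).ofConv ((1 : K) ⊗ₜ[k] a) =
      algebraMap K K (Coalgebra.counit (R := K) ((1 : K) ⊗ₜ[k] a)) := rfl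
  rw [h2, TensorProduct.counit_tmul]
  simp [Algebra.smul_def]

/-- base change of functionals as a monoid hom of convolution algebras -/
noncomputable def rhoHom : WithConv (A →ₗ[k] k) →* WithConv ((K ⊗[k] A) →ₗ[K] K) where
  toFun := rho K
  map_one' := rho_one K
  map_mul' := rho_mul K

lemma rho_injective : Function.Injective (rho K (k := k) (A := A)) := by
  intro φ ψ h
  apply WithConv.ofConv_injective
  ext a
  have h1 := congrArg (fun f => f.ofConv ((1 : K) ⊗ₜ[k] a)) h
  simp only [rho_tmul, one_mul] at h1
  exact (algebraMap k K).injective h1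

end BC

section Local

variable {K : Type u} [Field K] [IsAlgClosed K] {H : Type v} [CommRing H] [HopfAlgebra K H]
  [Coalgebra.IsCocomm K H] [Module.Finite K H] [IsReduced H]
variable (p : ℕ) [Fact p.Prime] [CharP K p]

lemma conv_one_apply_one : (1 : WithConv (H →ₗ[K] K)).ofConv 1 = 1 := by
  show algebraMap K K (Coalgebra.counit (R := K) (1 : H)) = 1
  simp

include p in
/-- over an algebraically closed field of characteristic `p`, in the convolution algebra of a
reduced finite commutative cocommutative Hopf algebra of dimension `p ^ n`, every functional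
vanishing at `1` is nilpotent. -/
theorem isNilpotent_of_apply_one_eq_zero (n : ℕ) (hH : Module.finrank K H = p ^ n)
    (ψ : WithConv (H →ₗ[K] K)) (h1 : ψ.ofConv 1 = 0) : IsNilpotent ψ := by
  classical
  haveI : Nontrivial H := Module.nontrivial_of_finrank_pos (R := K)
    (by rw [hH]; exact pos_of_ne_zero (pow_ne_zero _ (Fact.out : p.Prime).ne_zero))
  haveI : Nontrivial (WithConv (H →ₗ[K] K)) :=
    ⟨⟨1, 0, fun h => by
      have := congrArg (fun f : WithConv (H →ₗ[K] K) => f.ofConv 1) h
      simp only [conv_one_apply_one] at this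
      exact one_ne_zero this⟩⟩
  haveI : CharP (WithConv (H →ₗ[K] K)) p :=
    charP_of_injective_algebraMap (algebraMap K (WithConv (H →ₗ[K] K))).injective p
  have key : ∀ ψ' : Module.Dual K H,
      IsNilpotent (toConv ψ' - (ψ' 1) • (1 : WithConv (H →ₗ[K] K))) := by
    intro ψ'
    have hmem : ψ' ∈ Submodule.span K (Set.range (fun χ : H →ₐ[K] K => χ.toLinearMap)) := by
      rw [Groth.Agent.H12FE.span_points_eq_top]; trivial
    induction hmem using Submodule.span_induction with
    | mem x hx =>
      obtain ⟨γ, rfl⟩ := hx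
      have hd := pow_card_eq_one (Module.finBasis K H) (toConv γ)
      rw [Fintype.card_fin, hH] at hd
      have hd2 : (toConv γ.toLinearMap : WithConv (H →ₗ[K] K)) ^ (p ^ n) = 1 := by
        have := AlgHom.toLinearMap_convPow (toConv γ) (p ^ n)
        rw [hd] at this
        exact this.symm
      refine ⟨p ^ n, ?_⟩
      have h11 : (γ.toLinearMap : H →ₗ[K] K) 1 = 1 := by simp
      rw [h11, one_smul, sub_pow_char_pow, hd2, one_pow, sub_self]
    | zero => simp
    | add x y _ _ hx hy =>
      have : toConv (x + y) - ((x + y) 1) • (1 : WithConv (H →ₗ[K] K)) =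
          (toConv x - (x 1) • (1 : WithConv (H →ₗ[K] K))) +
            (toConv y - (y 1) • (1 : WithConv (H →ₗ[K] K))) := by
        rw [LinearMap.add_apply, add_smul, WithConv.toConv_add]; abel
      rw [this]
      exact Commute.isNilpotent_add (Commute.all _ _) hx hy
    | smul c x _ hx =>
      have : toConv (c • x) - ((c • x) 1) • (1 : WithConv (H →ₗ[K] K)) =
          c • (toConv x - (x 1) • (1 : WithConv (H →ₗ[K] K))) := by
        rw [LinearMap.smul_apply, smul_eq_mul, mul_smul, WithConv.toConv_smul, smul_sub]
      rw [this]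
      exact hx.smul c
  have := key ψ.ofConv
  rwa [h1, zero_smul, sub_zero] at this

end Local

end Groth.Agent.H12Del
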