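import Mathlib

set_option autoImplicit false
set_option linter.style.haveILetI false
set_option linter.unusedSectionVars false
universe u v

namespace H12DI

open PiTensorProduct
open scoped TensorProduct

section
variable (k : Type u) [Field k] (A : Type v) [CommRing A] [Algebra k A] (n : ℕ)

/-- algebra endomorphism induced by a permutation of the factors -/
noncomputable def T (σ : Equiv.Perm (Fin n)) :
    (⨂[k] _ : Fin n, A) →ₐ[k] (⨂[k] _ : Fin n, A) :=
  PiTensorProduct.liftAlgHom
    ((PiTensorProduct.tprod k : MultilinearMap k (fun _ : Fin n => A) (⨂[k] _ : Fin n, A)).domDomCongr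
      σ.symm)
    (by
      rw [MultilinearMap.domDomCongr_apply]
      rfl)
    (by
      intro x y
      rw [MultilinearMap.domDomCongr_apply, MultilinearMap.domDomCongr_apply,
        MultilinearMap.domDomCongr_apply, tprod_mul_tprod]
      rfl)

lemma T_tprod (σ : Equiv.Perm (Fin n)) (x : Fin n → A) :
    T k A n σ (tprod k x) = tprod k (fun i => x (σ.symm i)) := by
  rw [T, liftAlgHom_apply, lift.tprod, MultilinearMap.domDomCongr_apply]

lemma T_eq_reindex (σ : Equiv.Perm (Fin n)) (x : ⨂[k] _ : Fin n, A) :
    T k A n σ x = PiTensorProduct.reindex k (fun _ : Fin n => A) σ x := by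
  have h : (T k A n σ).toLinearMap =
      (PiTensorProduct.reindex k (fun _ : Fin n => A) σ).toLinearMap := by
    apply PiTensorProduct.ext
    apply MultilinearMap.ext
    intro y
    simp only [LinearMap.compMultilinearMap_apply, AlgHom.toLinearMap_apply,
      LinearEquiv.coe_coe, T_tprod, reindex_tprod]
  exact LinearMap.congr_fun h x

lemma T_single (σ : Equiv.Perm (Fin n)) (l : Fin n) (a : A) :
    T k A n σ (singleAlgHom (R := k) (A := fun _ : Fin n => A) l a) =
      singleAlgHom (R := k) (A := fun _ : Fin n => A) (σ l) a := by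
  rw [singleAlgHom_apply, singleAlgHom_apply, T_tprod]
  congr 1
  funext i
  simp only [MonoidHom.mulSingle_apply, Pi.mulSingle_apply]
  by_cases h : i = σ l
  · rw [if_pos h, if_pos (by rw [h, Equiv.symm_apply_apply])]
  · rw [if_neg h, if_neg (fun h' => h (by rw [← h', Equiv.apply_symm_apply]))]

/-- the ideal of the `(i,j)` diagonal -/
noncomputable def Ip (i j : Fin n) : Ideal (⨂[k] _ : Fin n, A) :=
  Ideal.span (Set.range fun a : A =>
    singleAlgHom (R := k) (A := fun _ : Fin n => A) i a -
      singleAlgHom (R := k) (A := fun _ : Fin n => A) j a)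

lemma gen_mem (i j : Fin n) (a : A) :
    singleAlgHom (R := k) (A := fun _ : Fin n => A) i a -
      singleAlgHom (R := k) (A := fun _ : Fin n => A) j a ∈ Ip k A n i j :=
  Ideal.subset_span ⟨a, rfl⟩

lemma T_sub_mem (i j : Fin n) (r : ⨂[k] _ : Fin n, A) :
    T k A n (Equiv.swap i j) r - r ∈ Ip k A n i j := by
  have h : (Ideal.Quotient.mkₐ k (Ip k A n i j)).comp (T k A n (Equiv.swap i j)) =
      Ideal.Quotient.mkₐ k (Ip k A n i j) := by
    apply PiTensorProduct.algHom_ext
    intro l
    apply AlgHom.ext
    intro a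
    simp only [AlgHom.comp_apply, T_single, Ideal.Quotient.mkₐ_eq_mk]
    rw [Ideal.Quotient.eq]
    by_cases hli : l = i
    · subst hli
      rw [Equiv.swap_apply_left, ← neg_sub]
      exact neg_mem (gen_mem k A n l j a)
    · by_cases hlj : l = j
      · subst hlj
        rw [Equiv.swap_apply_right]
        exact gen_mem k A n i l a
      · rw [Equiv.swap_apply_of_ne_of_ne hli hlj, sub_self]
        exact zero_mem _
  have h2 := AlgHom.congr_fun h r
  rw [AlgHom.comp_apply] at h2
  exact Ideal.Quotient.eq.1 h2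

lemma T_mem (i j : Fin n) {g : ⨂[k] _ : Fin n, A} (hg : g ∈ Ip k A n i j) :
    T k A n (Equiv.swap i j) g ∈ Ip k A n i j := by
  have h1 := T_sub_mem k A n i j g
  have h : T k A n (Equiv.swap i j) g = (T k A n (Equiv.swap i j) g - g) + g := by ring
  rw [h]
  exact add_mem h1 hg

lemma T_mem_pow (i j : Fin n) (s : ℕ) {y : ⨂[k] _ : Fin n, A}
    (hy : y ∈ (Ip k A n i j) ^ s) :
    T k A n (Equiv.swap i j) y ∈ (Ip k A n i j) ^ s := by
  have h1 : Ideal.map (T k A n (Equiv.swap i j)) (Ip k A n i j) ≤ Ip k A n i j := by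
    rw [Ideal.map_le_iff_le_comap]
    intro g hg
    exact T_mem k A n i j hg
  have h2 : Ideal.map (T k A n (Equiv.swap i j)) ((Ip k A n i j) ^ s) ≤ (Ip k A n i j) ^ s := by
    rw [Ideal.map_pow]
    exact Ideal.pow_right_mono h1 s
  exact h2 (Ideal.mem_map_of_mem _ hy)

lemma T_add_mem_sq (i j : Fin n) {g : ⨂[k] _ : Fin n, A} (hg : g ∈ Ip k A n i j) :
    T k A n (Equiv.swap i j) g + g ∈ (Ip k A n i j) ^ 2 := by
  have hg' : g ∈ Submodule.span (⨂[k] _ : Fin n, A) (Set.range fun a : A =>
    singleAlgHom (R := k) (A := fun _ : Fin n => A) i a -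
      singleAlgHom (R := k) (A := fun _ : Fin n => A) j a) := hg
  induction hg' using Submodule.span_induction with
  | mem x h =>
    obtain ⟨a, rfl⟩ := h
    have e : T k A n (Equiv.swap i j) (singleAlgHom (R := k) (A := fun _ : Fin n => A) i a -
        singleAlgHom (R := k) (A := fun _ : Fin n => A) j a) +
        (singleAlgHom (R := k) (A := fun _ : Fin n => A) i a -
        singleAlgHom (R := k) (A := fun _ : Fin n => A) j a) = 0 := by
      rw [map_sub, T_single, T_single, Equiv.swap_apply_left, Equiv.swap_apply_right]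
      ring
    rw [e]
    exact zero_mem _
  | zero =>
    rw [map_zero, zero_add]
    exact zero_mem _
  | add x y hx hy hpx hpy =>
    have e : T k A n (Equiv.swap i j) (x + y) + (x + y) =
        (T k A n (Equiv.swap i j) x + x) + (T k A n (Equiv.swap i j) y + y) := by
      rw [map_add]; ring
    rw [e]
    exact add_mem (hpx hx) (hpy hy)
  | smul r x hx hpx =>
    rw [smul_eq_mul, map_mul]
    have e : T k A n (Equiv.swap i j) r * T k A n (Equiv.swap i j) x + r * x =
        T k A n (Equiv.swap i j) r * (T k A n (Equiv.swap i j) x + x) -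
          (T k A n (Equiv.swap i j) r - r) * x := by ring
    rw [e]
    refine sub_mem (Ideal.mul_mem_left _ _ (hpx hx)) ?_
    rw [pow_two]
    exact Ideal.mul_mem_mul (T_sub_mem k A n i j r) hx

lemma T_sub_sign_mem (i j : Fin n) (s : ℕ) : ∀ {y : ⨂[k] _ : Fin n, A},
    y ∈ (Ip k A n i j) ^ s →
    T k A n (Equiv.swap i j) y - (-1) ^ s * y ∈ (Ip k A n i j) ^ (s + 1) := by
  induction s with
  | zero =>
    intro y _
    rw [pow_zero, one_mul, zero_add, pow_one]
    exact T_sub_mem k A n i j y
  | succ s ih =>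
    intro y hy
    rw [pow_succ'] at hy
    have hy' : y ∈ (Ip k A n i j) • ((Ip k A n i j) ^ s) := hy
    refine Submodule.smul_induction_on hy' ?_ ?_
    · intro g hg z hz
      rw [smul_eq_mul, map_mul]
      have e : T k A n (Equiv.swap i j) g * T k A n (Equiv.swap i j) z -
          (-1) ^ (s + 1) * (g * z) =
          (T k A n (Equiv.swap i j) g + g) * T k A n (Equiv.swap i j) z -
            g * (T k A n (Equiv.swap i j) z - (-1) ^ s * z) := by ring
      rw [e]
      refine sub_mem ?_ ?_
      · have h1 := Ideal.mul_mem_mul (T_add_mem_sq k A n i j hg) (T_mem_pow k A n i j s hz)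
        rw [← pow_add] at h1
        have e2 : 2 + s = s + 1 + 1 := by omega
        rw [e2] at h1
        exact h1
      · have h1 := Ideal.mul_mem_mul hg (ih hz)
        rw [← pow_succ'] at h1
        exact h1
    · intro a b ha hb
      have e : T k A n (Equiv.swap i j) (a + b) - (-1) ^ (s + 1) * (a + b) =
          (T k A n (Equiv.swap i j) a - (-1) ^ (s + 1) * a) +
            (T k A n (Equiv.swap i j) b - (-1) ^ (s + 1) * b) := by
        rw [map_add]; ring
      rw [e]
      exact add_mem ha hb

lemma main [CharZero k] (i j : Fin n) (s : ℕ) (hs : Odd s) (x : ⨂[k] _ : Fin n, A)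
    (hx : T k A n (Equiv.swap i j) x = x) (hmem : x ∈ (Ip k A n i j) ^ s) :
    x ∈ (Ip k A n i j) ^ (s + 1) := by
  have h1 := T_sub_sign_mem k A n i j s hmem
  rw [hx, hs.neg_one_pow] at h1
  have e : x = (2⁻¹ : k) • (x - (-1) * x) := by
    have e2 : x - (-1) * x = (2 : k) • x := by
      rw [two_smul]; ring
    rw [e2, smul_smul, inv_mul_cancel₀ (two_ne_zero), one_smul]
  rw [e]
  exact Submodule.smul_of_tower_mem _ _ h1

end

end H12DI
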