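import Mathlib

/-!
# Rigidity of homomorphisms into diagonalizable groups modulo nilpotents (helper12)

Convolution idempotents congruent modulo a nilpotent ideal are equal; consequently two bialgebra maps
`C → S[M]` congruent modulo a nilpotent ideal and whose coefficient functionals commute are equal.
-/

set_option autoImplicit false
set_option linter.style.haveILetI false

open TensorProduct Coalgebra WithConv

namespace H12MR

universe u v w

section Conv

variable {S : Type u} [CommRing S] {C : Type v} [AddCommGroup C] [Module S C] [Coalgebra S C]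

/-- A functional with values in the ideal `N`. -/
def Val (N : Ideal S) (α : WithConv (C →ₗ[S] S)) : Prop := ∀ c, α.ofConv c ∈ N

theorem Val.mono {N N' : Ideal S} (h : N ≤ N') {α : WithConv (C →ₗ[S] S)} (ha : Val N α) :
    Val N' α := fun c => h (ha c)

theorem Val.mul {N₁ N₂ : Ideal S} {α β : WithConv (C →ₗ[S] S)} (ha : Val N₁ α) (hb : Val N₂ β) :
    Val (N₁ * N₂) (α * β) := by
  intro c
  have key : ∀ t : C ⊗[S] C, LinearMap.mul' S S (TensorProduct.map α.ofConv β.ofConv t) ∈ N₁ * N₂ := by
    intro t
    induction t using TensorProduct.induction_on with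
    | zero => simp
    | tmul x y =>
      rw [TensorProduct.map_tmul, LinearMap.mul'_apply]
      exact Ideal.mul_mem_mul (ha x) (hb y)
    | add x y hx hy => rw [map_add, map_add]; exact Ideal.add_mem _ hx hy
  exact key (comul c)

theorem cube_eq {K : Type*} [Ring K] (e f : K) (he : e * e = e) (hf : f * f = f) (hc : e * f = f * e) :
    (e - f) * (e - f) * (e - f) = e - f := by
  have h3 : f * e = e * f := hc.symm
  have h1 : e * f * e = e * f := by rw [mul_assoc, h3, ← mul_assoc, he]
  have h2 : e * f * f = e * f := by rw [mul_assoc, hf]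
  simp only [sub_mul, mul_sub, he, hf, h1, h2, h3, ← mul_assoc]
  abel

theorem eq_of_idem {N : Ideal S} (hN : IsNilpotent N) (e f : WithConv (C →ₗ[S] S))
    (he : e * e = e) (hf : f * f = f) (hc : e * f = f * e) (hv : Val N (e - f)) : e = f := by
  set d := e - f with hd
  have hcube : d * d * d = d := cube_eq e f he hf hc
  have hdd : Val N (d * d) := (hv.mul hv).mono Ideal.mul_le_left
  have hpow : ∀ j : ℕ, Val (N ^ (j + 1)) d := by
    intro j
    induction j with
    | zero => simpa using hv
    | succ j ih =>
      have := hdd.mul ih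
      rw [hcube, ← pow_succ'] at this
      exact this
  obtain ⟨k, hk⟩ := hN
  have h0 : Val (⊥ : Ideal S) d := by
    have := (hpow k).mono (Ideal.pow_le_pow_right (Nat.le_succ k))
    rwa [hk, Ideal.zero_eq_bot] at this
  have hd0 : d = 0 := by
    apply WithConv.ofConv_injective
    ext c
    simpa using h0 c
  exact sub_eq_zero.mp hd0

end Conv

section MonAlg

variable {S : Type u} [CommRing S] {M : Type w} [Monoid M]

/-- The coefficient functional at `m`. -/
noncomputable def ev (m : M) : MonoidAlgebra S M →ₗ[S] S :=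
  (Finsupp.lapply m) ∘ₗ (MonoidAlgebra.coeffLinearEquiv S).toLinearMap

theorem ev_apply (m : M) (x : MonoidAlgebra S M) : ev m x = x.coeff m := rfl

theorem ev_single (m g : M) (a : S) [Decidable (g = m)] :
    ev m (MonoidAlgebra.single g a) = if g = m then a else 0 := by
  classical
  rw [ev_apply, MonoidAlgebra.coeff_single, Finsupp.single_apply]

theorem ev_ev_comul (m m' : M) (x : MonoidAlgebra S M) [Decidable (m = m')] :
    LinearMap.mul' S S (TensorProduct.map (ev m) (ev m') (comul (R := S) x))
      = if m = m' then ev m x else 0 := by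
  classical
  induction x using MonoidAlgebra.induction_linear with
  | zero => simp
  | add x y hx hy =>
    rw [map_add, map_add, map_add, hx, hy, map_add]
    split_ifs <;> simp
  | single g a =>
    rw [MonoidAlgebra.comul_single, CommSemiring.comul_apply, TensorProduct.map_tmul,
      TensorProduct.map_tmul, LinearMap.mul'_apply, MonoidAlgebra.lsingle_apply,
      MonoidAlgebra.lsingle_apply, ev_single, ev_single, ev_single]
    by_cases h1 : g = m
    · subst h1
      by_cases h2 : g = m'
      · subst h2; simp
      · simp [h2]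
    · simp [h1]

variable {C : Type v} [AddCommGroup C] [Module S C] [Coalgebra S C]

/-- The coefficient functionals of a coalgebra map to a monoid algebra are orthogonal idempotents for
convolution. -/
theorem coeff_conv (Φ : C →ₗc[S] MonoidAlgebra S M) (m m' : M) [Decidable (m = m')] :
    (toConv ((ev m) ∘ₗ (Φ : C →ₗ[S] MonoidAlgebra S M)) : WithConv (C →ₗ[S] S))
        * toConv ((ev m') ∘ₗ (Φ : C →ₗ[S] MonoidAlgebra S M))
      = if m = m' then toConv ((ev m) ∘ₗ (Φ : C →ₗ[S] MonoidAlgebra S M)) else 0 := by
  apply WithConv.ofConv_injective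
  ext c
  rw [LinearMap.convMul_apply]
  have h1 : TensorProduct.map (((ev m) ∘ₗ (Φ : C →ₗ[S] MonoidAlgebra S M)))
      (((ev m') ∘ₗ (Φ : C →ₗ[S] MonoidAlgebra S M))) (comul c)
      = TensorProduct.map (ev m) (ev m') (comul (R := S) (Φ c)) := by
    rw [← CoalgHomClass.map_comp_comul_apply, TensorProduct.map_comp, LinearMap.comp_apply]
  simp only [WithConv.ofConv_toConv]
  rw [h1, ev_ev_comul]
  split_ifs <;> simp

theorem coalgHom_eq {N : Ideal S} (hN : IsNilpotent N) (Φ Ψ : C →ₗc[S] MonoidAlgebra S M)
    (hcong : ∀ c m, ev m (Φ c - Ψ c) ∈ N)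
    (hcomm : ∀ m, (toConv ((ev m) ∘ₗ (Φ : C →ₗ[S] MonoidAlgebra S M)) : WithConv (C →ₗ[S] S))
        * toConv ((ev m) ∘ₗ (Ψ : C →ₗ[S] MonoidAlgebra S M))
      = toConv ((ev m) ∘ₗ (Ψ : C →ₗ[S] MonoidAlgebra S M))
        * toConv ((ev m) ∘ₗ (Φ : C →ₗ[S] MonoidAlgebra S M))) :
    ∀ c, Φ c = Ψ c := by
  classical
  intro c
  apply MonoidAlgebra.coeff_injective
  ext m
  have h := eq_of_idem hN _ _ (by simpa using coeff_conv Φ m m) (by simpa using coeff_conv Ψ m m)
    (hcomm m) (by
      intro c
      simpa [map_sub] using hcong c m)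
  have := congrArg (fun α : WithConv (C →ₗ[S] S) => α.ofConv c) h
  simpa [ev_apply] using this

end MonAlg

end H12MR
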