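import Mathlib
import Groth.Prelude.Def_SGA3b
import Groth.Agent.Lib.helper12.TorsionIdeal
import Groth.Agent.Lib.helper12.MultRigid

/-!
# Subgroups of multiplicative type of a diagonalisable group over a connected base (helper12)

* `ann b`: the annihilator ideal of an element, and its flat base change `map_ann`.
* `ann_const`, `ann_connected`: for a group-like element `g` of a Hopf algebra of multiplicative
  type, the annihilator of `g - 1` is generated by an idempotent; over a connected base it is
  `⊥` or `⊤`.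
* `isDiag_of_surjective`: a quotient Hopf algebra of multiplicative type of a group algebra over a
  connected ring is a group algebra.
-/

set_option autoImplicit false
universe u
open TensorProduct

namespace Groth.Agent.H12DS

section loc
variable {S : Type u} [CommRing S] {M' : Type u} [CommGroup M']

lemma coeff_mul_coeff (x : MonoidAlgebra S M') (hx : IsGroupLikeElem S x) (m m' : M')
    [Decidable (m = m')] : x.coeff m * x.coeff m' = if m = m' then x.coeff m else 0 := by
  have h := H12MR.ev_ev_comul (S := S) m m' x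
  rw [hx.comul_eq_tmul_self, TensorProduct.map_tmul, LinearMap.mul'_apply] at h
  exact h

lemma coeff_one_smul (x : MonoidAlgebra S M') (hx : IsGroupLikeElem S x) :
    x.coeff 1 • (x - 1) = 0 := by
  classical
  apply MonoidAlgebra.coeff_injective
  ext m
  rw [MonoidAlgebra.coeff_smul, MonoidAlgebra.coeff_sub, MonoidAlgebra.coeff_zero,
    Finsupp.smul_apply, Finsupp.sub_apply, Finsupp.zero_apply, smul_eq_mul, mul_sub,
    coeff_mul_coeff x hx 1 m]
  by_cases h : 1 = m
  · subst h; rw [if_pos rfl, MonoidAlgebra.coeff_one_one, mul_one, sub_self]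
  · rw [if_neg h, MonoidAlgebra.one_def, MonoidAlgebra.coeff_single, Finsupp.single_apply,
      if_neg h, mul_zero, sub_zero]

lemma eq_mul_coeff_one (x : MonoidAlgebra S M') (r : S) (h : r • (x - 1) = 0) :
    r = r * x.coeff 1 := by
  have h1 := congrArg (fun y : MonoidAlgebra S M' => y.coeff 1) h
  simp only [MonoidAlgebra.coeff_smul, MonoidAlgebra.coeff_sub, MonoidAlgebra.coeff_zero,
    Finsupp.smul_apply, Finsupp.sub_apply, Finsupp.zero_apply, MonoidAlgebra.coeff_one_one,
    smul_eq_mul, mul_sub, mul_one] at h1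
  exact (sub_eq_zero.mp h1).symm

end loc

section transport
variable {S : Type u} [CommRing S] {T : Type u} [CommRing T] [HopfAlgebra S T]
  {M' : Type u} [CommGroup M']

lemma transport_a (φ : T ≃ₐc[S] MonoidAlgebra S M') (t : T) (ht : IsGroupLikeElem S t) :
    (φ t).coeff 1 • (t - 1) = 0 := by
  have h := coeff_one_smul (φ t) (ht.map φ)
  have h2 : φ ((φ t).coeff 1 • (t - 1)) = 0 := by
    rw [map_smul, map_sub, map_one φ]; exact h
  have h3 := congrArg φ.symm h2
  rwa [BialgEquiv.symm_apply_apply, map_zero] at h3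

lemma transport_b (φ : T ≃ₐc[S] MonoidAlgebra S M') (t : T) (r : S) (h : r • (t - 1) = 0) :
    r = r * (φ t).coeff 1 := by
  apply eq_mul_coeff_one
  have := congrArg φ h
  rwa [map_smul, map_sub, map_one φ, map_zero] at this

end transport

section flat
variable (R : Type u) [CommRing R] {B : Type u} [AddCommGroup B] [Module R B]

/-- the annihilator ideal of an element -/
def ann (b : B) : Ideal R := LinearMap.ker (LinearMap.toSpanSingleton R B b)

variable {R}

lemma mem_ann (b : B) (r : R) : r ∈ ann R b ↔ r • b = 0 := by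
  rw [ann, LinearMap.mem_ker, LinearMap.toSpanSingleton_apply]

variable (S : Type u) [CommRing S] [Algebra R S] [Module.Flat R S]

lemma mem_map_ann_of_smul_eq_zero (b : B) (s : S) (h : s • ((1 : S) ⊗ₜ[R] b) = 0) :
    s ∈ (ann R b).map (algebraMap R S) := by
  have h1 : (s ⊗ₜ[R] (1 : R) : S ⊗[R] R) ∈ LinearMap.ker
      (TensorProduct.AlgebraTensorModule.lTensor S S (LinearMap.toSpanSingleton R B b)) := by
    rw [LinearMap.mem_ker, TensorProduct.AlgebraTensorModule.lTensor_tmul,
      LinearMap.toSpanSingleton_apply, one_smul, ← h, TensorProduct.smul_tmul', smul_eq_mul,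
      mul_one]
  rw [Module.Flat.ker_lTensor_eq] at h1
  obtain ⟨t, ht⟩ := h1
  have key : ∀ t : S ⊗[R] (LinearMap.ker (LinearMap.toSpanSingleton R B b)),
      (TensorProduct.AlgebraTensorModule.rid R S S)
        (TensorProduct.AlgebraTensorModule.lTensor S S
          (LinearMap.ker (LinearMap.toSpanSingleton R B b)).subtype t) ∈
        (ann R b).map (algebraMap R S) := by
    intro t
    induction t using TensorProduct.induction_on with
    | zero => simp
    | tmul s' x =>
      rw [TensorProduct.AlgebraTensorModule.lTensor_tmul,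
        TensorProduct.AlgebraTensorModule.rid_tmul, Submodule.subtype_apply, Algebra.smul_def]
      exact Ideal.mul_mem_right _ _ (Ideal.mem_map_of_mem _ x.2)
    | add x y hx hy => rw [map_add, map_add]; exact Ideal.add_mem _ hx hy
  have h2 := key t
  rw [ht, TensorProduct.AlgebraTensorModule.rid_tmul, one_smul] at h2
  exact h2

lemma map_ann (b : B) : (ann R b).map (algebraMap R S) = ann S ((1 : S) ⊗ₜ[R] b) := by
  apply le_antisymm
  · rw [Ideal.map_le_iff_le_comap]
    intro r hr
    rw [Ideal.mem_comap, mem_ann, algebraMap_smul, ← TensorProduct.tmul_smul,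
      (mem_ann b r).mp hr, TensorProduct.tmul_zero]
  · intro s hs
    exact mem_map_ann_of_smul_eq_zero S b s ((mem_ann _ _).mp hs)

end flat

section const

lemma isGroupLikeElem_one_tmul {R₁ : Type u} [CommRing R₁] (S : Type u) [CommRing S]
    [Algebra R₁ S] {B₁ : Type u} [CommRing B₁] [HopfAlgebra R₁ B₁] (g : B₁)
    (hg : IsGroupLikeElem R₁ g) : IsGroupLikeElem S ((1 : S) ⊗ₜ[R₁] g) := by
  refine ⟨?_, ?_⟩
  · rw [TensorProduct.counit_tmul, hg.counit_eq_one]
    simp
  · rw [H12Uni.comul_tmul_eq, hg.comul_eq_tmul_self]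
    simp [TensorProduct.AlgebraTensorModule.distribBaseChange_tmul]

theorem ann_const {R₁ : Type u} [CommRing R₁] {B₁ : Type u} [CommRing B₁] [HopfAlgebra R₁ B₁]
    (h : SGA3b.IsMultTypeConst R₁ B₁) (g : B₁) (hg : IsGroupLikeElem R₁ g) :
    ∃ e : R₁, IsIdempotentElem e ∧ ann R₁ (g - 1) = Ideal.span {e} := by
  obtain ⟨S, _, _, hff, M', _, ⟨φ⟩⟩ := h
  have := hff
  have hg' : IsGroupLikeElem S ((1 : S) ⊗ₜ[R₁] g) := isGroupLikeElem_one_tmul S g hg
  set ε := (φ ((1 : S) ⊗ₜ[R₁] g)).coeff 1 with hε
  have ha : ε • ((1 : S) ⊗ₜ[R₁] g - 1) = 0 := transport_a φ _ hg'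
  have hb : ∀ r : S, r • ((1 : S) ⊗ₜ[R₁] g - 1) = 0 → r = r * ε :=
    fun r hr => transport_b φ _ r hr
  have h1 : (1 : S) ⊗ₜ[R₁] g - 1 = (1 : S) ⊗ₜ[R₁] (g - 1) := by
    rw [TensorProduct.tmul_sub]; rfl
  have hmap : (ann R₁ (g - 1)).map (algebraMap R₁ S) = Ideal.span {ε} := by
    rw [map_ann S (g - 1), ← h1]
    ext r
    rw [mem_ann, Ideal.mem_span_singleton']
    constructor
    · intro hr; exact ⟨r, (hb r hr).symm⟩
    · rintro ⟨a, rfl⟩; rw [mul_smul, ha, smul_zero]
  have hfg : (ann R₁ (g - 1)).FG :=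
    Ideal.FG.of_FG_map_of_faithfullyFlat (S := S) (by rw [hmap]; exact ⟨{ε}, by simp⟩)
  have hεε : ε * ε = ε := (hb ε ha).symm
  have hidem : IsIdempotentElem (ann R₁ (g - 1)) := by
    apply Ideal.map_injective_of_faithfullyFlat (B := S)
    show ((ann R₁ (g - 1)) * (ann R₁ (g - 1))).map _ = _
    rw [Ideal.map_mul, hmap, Ideal.span_singleton_mul_span_singleton, hεε]
  obtain ⟨e, he, hI⟩ := (Ideal.isIdempotentElem_iff_of_fg _ hfg).mp hidem
  exact ⟨e, he, hI⟩

theorem ann_connected {R : Type u} [CommRing R]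
    (hconn : ∀ e : R, IsIdempotentElem e → e = 0 ∨ e = 1)
    {B : Type u} [CommRing B] [HopfAlgebra R B] (h : SGA3b.IsMultType R B) (g : B)
    (hg : IsGroupLikeElem R g) : ann R (g - 1) = ⊥ ∨ ann R (g - 1) = ⊤ := by
  obtain ⟨s, hs, hmt⟩ := h
  set I : Ideal R := ann R (g - 1) with hI
  have hloc : ∀ f ∈ s, ∃ e : Localization.Away f, IsIdempotentElem e ∧
      I.map (algebraMap R (Localization.Away f)) = Ideal.span {e} := by
    intro f hf
    have hg' : IsGroupLikeElem (Localization.Away f) ((1 : Localization.Away f) ⊗ₜ[R] g) :=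
      isGroupLikeElem_one_tmul _ g hg
    obtain ⟨e, he, hann⟩ := ann_const (hmt f hf) _ hg'
    refine ⟨e, he, ?_⟩
    rw [hI, map_ann (Localization.Away f) (g - 1), ← hann]
    congr 1
    rw [TensorProduct.tmul_sub]; rfl
  have hfg : I.FG := Ideal.fg_of_localizationSpan s hs (fun f => by
    obtain ⟨e, _, h⟩ := hloc f.1 f.2
    rw [h]; exact ⟨{e}, by simp⟩)
  have hidem : IsIdempotentElem I := by
    show I * I = I
    apply le_antisymm Ideal.mul_le_right
    intro x hx
    obtain ⟨t, hts, ht⟩ := (Ideal.span_eq_top_iff_finite s).mp hs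
    refine Submodule.mem_of_span_eq_top_of_smul_pow_mem (I * I) (t : Set R) ht x (fun r => ?_)
    obtain ⟨e, he, h⟩ := hloc r.1 (hts r.2)
    have h1 : algebraMap R (Localization.Away r.1) x ∈
        (I * I).map (algebraMap R (Localization.Away r.1)) := by
      rw [Ideal.map_mul, h, Ideal.span_singleton_mul_span_singleton, he.eq, ← h]
      exact Ideal.mem_map_of_mem _ hx
    obtain ⟨m, ⟨k, rfl⟩, hm⟩ := (IsLocalization.algebraMap_mem_map_algebraMap_iff
      (Submonoid.powers r.1) (Localization.Away r.1) (I * I) x).mp h1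
    exact ⟨k, hm⟩
  obtain ⟨e, he, hIe⟩ := (Ideal.isIdempotentElem_iff_of_fg I hfg).mp hidem
  rcases hconn e he with rfl | rfl
  · left; rw [hIe]; simp
  · right; rw [hIe]; simp

end const

section main
variable {R : Type u} [CommRing R] {M : Type u} [CommGroup M] {B : Type u} [CommRing B]
  [HopfAlgebra R B] (π : MonoidAlgebra R M →ₐc[R] B)

/-- the subgroup of characters trivial on the subgroup -/
def kerSub : Subgroup M where
  carrier := {m | π (MonoidAlgebra.of R M m) = 1}
  one_mem' := by
    show π (MonoidAlgebra.of R M 1) = 1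
    rw [map_one, map_one]
  mul_mem' := by
    intro a b ha hb
    show π (MonoidAlgebra.of R M (a * b)) = 1
    have ha' : π (MonoidAlgebra.of R M a) = 1 := ha
    have hb' : π (MonoidAlgebra.of R M b) = 1 := hb
    rw [map_mul, map_mul, ha', hb', one_mul]
  inv_mem' := by
    intro a ha
    show π (MonoidAlgebra.of R M a⁻¹) = 1
    have ha' : π (MonoidAlgebra.of R M a) = 1 := ha
    have h : π (MonoidAlgebra.of R M a⁻¹) * π (MonoidAlgebra.of R M a) = 1 := by
      rw [← map_mul, ← map_mul, inv_mul_cancel, map_one, map_one]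
    rwa [ha', mul_one] at h

/-- the induced character of the quotient -/
noncomputable def chiBar : M ⧸ kerSub π →* B :=
  QuotientGroup.lift (kerSub π) ((MonoidHomClass.toMonoidHom π).comp (MonoidAlgebra.of R M))
    (fun _ hm => hm)

/-- the induced algebra map -/
noncomputable def piBar : MonoidAlgebra R (M ⧸ kerSub π) →ₐ[R] B :=
  MonoidAlgebra.lift R B (M ⧸ kerSub π) (chiBar π)

lemma piBar_of_mk (m : M) :
    piBar π (MonoidAlgebra.of R (M ⧸ kerSub π) (QuotientGroup.mk m)) =
      π (MonoidAlgebra.of R M m) := by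
  rw [piBar, MonoidAlgebra.lift_of]; rfl

lemma piBar_comp (x : MonoidAlgebra R M) :
    piBar π (MonoidAlgebra.mapDomainBialgHom R (QuotientGroup.mk' (kerSub π)) x) = π x := by
  induction x using MonoidAlgebra.induction_on with
  | of m =>
    rw [MonoidAlgebra.of_apply, MonoidAlgebra.mapDomainBialgHom_single, ← MonoidAlgebra.of_apply,
      ← MonoidAlgebra.of_apply]
    exact piBar_of_mk π m
  | add x y hx hy => rw [map_add, map_add, map_add, hx, hy]
  | smul r x hx => rw [map_smul, map_smul, map_smul, hx]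

variable (hconn : ∀ e : R, IsIdempotentElem e → e = 0 ∨ e = 1) (hB : SGA3b.IsMultType R B)
include hconn hB

lemma ann_piBar_eq_bot (c : M ⧸ kerSub π) (hc : c ≠ 1) :
    ann R (piBar π (MonoidAlgebra.of R (M ⧸ kerSub π) c) - 1) = ⊥ := by
  obtain ⟨m, rfl⟩ := QuotientGroup.mk_surjective c
  rw [piBar_of_mk]
  have hg : IsGroupLikeElem R (π (MonoidAlgebra.of R M m)) :=
    (MonoidAlgebra.isGroupLikeElem_of (R := R) (A := R) m).map π
  rcases ann_connected hconn hB _ hg with h | h
  · exact h
  · exfalso
    apply hc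
    have h1 : (1 : R) ∈ ann R (π (MonoidAlgebra.of R M m) - 1) := by rw [h]; trivial
    rw [mem_ann, one_smul, sub_eq_zero] at h1
    exact (QuotientGroup.eq_one_iff m).mpr h1

theorem coeff_one_of_piBar_eq_zero (y : MonoidAlgebra R (M ⧸ kerSub π)) (hy : piBar π y = 0) :
    y.coeff 1 = 0 := by
  classical
  have hB' := hB
  obtain ⟨s, hs, hmt⟩ := hB
  obtain ⟨t, hts, ht⟩ := (Ideal.span_eq_top_iff_finite s).mp hs
  have h3 := Submodule.mem_of_span_eq_top_of_smul_pow_mem (⊥ : Submodule R R) (t : Set R) ht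
    (y.coeff 1) (fun r => ?_)
  · simpa using h3
  obtain ⟨S, _, _, hff, M', _, ⟨φ⟩⟩ := hmt r.1 (hts r.2)
  have := hff
  let ι₂ : B → S ⊗[Localization.Away r.1] (Localization.Away r.1 ⊗[R] B) :=
    fun b => (1 : S) ⊗ₜ[Localization.Away r.1] ((1 : Localization.Away r.1) ⊗ₜ[R] b)
  have hι_add : ∀ a b, ι₂ (a + b) = ι₂ a + ι₂ b := by
    intro a b; simp only [ι₂, TensorProduct.tmul_add]
  have hι_sub : ∀ a b, ι₂ (a - b) = ι₂ a - ι₂ b := by
    intro a b; simp only [ι₂, TensorProduct.tmul_sub]
  have hι_zero : ι₂ 0 = 0 := by simp only [ι₂, TensorProduct.tmul_zero]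
  have hι_one : ι₂ 1 = 1 := rfl
  have hι_smul : ∀ (x : R) b, ι₂ (x • b) =
      (algebraMap (Localization.Away r.1) S (algebraMap R (Localization.Away r.1) x)) • ι₂ b := by
    intro x b
    show (1 : S) ⊗ₜ[Localization.Away r.1] ((1 : Localization.Away r.1) ⊗ₜ[R] (x • b)) = _
    rw [TensorProduct.tmul_smul,
      ← algebraMap_smul (Localization.Away r.1) x ((1 : Localization.Away r.1) ⊗ₜ[R] b),
      TensorProduct.tmul_smul]
    exact (algebraMap_smul S (algebraMap R (Localization.Away r.1) x) (ι₂ b)).symm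
  have hι_gl : ∀ g : B, IsGroupLikeElem R g → IsGroupLikeElem S (ι₂ g) := fun g hg =>
    isGroupLikeElem_one_tmul S _ (isGroupLikeElem_one_tmul (Localization.Away r.1) g hg)
  have claim : ∀ y : MonoidAlgebra R (M ⧸ kerSub π), (φ (ι₂ (piBar π y))).coeff 1 =
      algebraMap (Localization.Away r.1) S (algebraMap R (Localization.Away r.1) (y.coeff 1)) := by
    intro y
    induction y using MonoidAlgebra.induction_on with
    | of c =>
      by_cases hc : c = 1
      · subst hc
        rw [map_one (MonoidAlgebra.of R (M ⧸ kerSub π)), map_one (piBar π), hι_one, map_one φ,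
          MonoidAlgebra.coeff_one_one, MonoidAlgebra.coeff_one_one,
          map_one (algebraMap R (Localization.Away r.1)), map_one (algebraMap (Localization.Away r.1) S)]
      · have h0 : (MonoidAlgebra.of R (M ⧸ kerSub π) c).coeff 1 = 0 := by
          rw [MonoidAlgebra.of_apply, MonoidAlgebra.coeff_single, Finsupp.single_apply, if_neg hc]
        rw [h0, map_zero, map_zero]
        set g := piBar π (MonoidAlgebra.of R (M ⧸ kerSub π) c) with hg_def
        have hg : IsGroupLikeElem R g := by
          obtain ⟨m, rfl⟩ := QuotientGroup.mk_surjective c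
          rw [hg_def, piBar_of_mk]
          exact (MonoidAlgebra.isGroupLikeElem_of (R := R) (A := R) m).map π
        have ha := transport_a φ (ι₂ g) (hι_gl g hg)
        have hann : ann S (ι₂ g - 1) = ⊥ := by
          rw [← hι_one, ← hι_sub]
          show ann S ((1 : S) ⊗ₜ[Localization.Away r.1]
            ((1 : Localization.Away r.1) ⊗ₜ[R] (g - 1))) = ⊥
          rw [← map_ann, ← map_ann, ann_piBar_eq_bot π hconn hB' c hc, Ideal.map_bot, Ideal.map_bot]
        have hmem : (φ (ι₂ g)).coeff 1 ∈ ann S (ι₂ g - 1) := (mem_ann _ _).mpr ha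
        rw [hann, Ideal.mem_bot] at hmem
        exact hmem
    | add x y hx hy =>
      rw [map_add, hι_add, map_add φ, MonoidAlgebra.coeff_add, Finsupp.add_apply, hx, hy,
        MonoidAlgebra.coeff_add, Finsupp.add_apply, map_add, map_add]
    | smul x y ih =>
      rw [map_smul, hι_smul, map_smul φ, MonoidAlgebra.coeff_smul, Finsupp.smul_apply, ih,
        MonoidAlgebra.coeff_smul, Finsupp.smul_apply, smul_eq_mul, smul_eq_mul, map_mul, map_mul]
  have h4 := claim y
  rw [hy, hι_zero, map_zero φ, MonoidAlgebra.coeff_zero, Finsupp.zero_apply] at h4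
  have h5 : algebraMap R (Localization.Away r.1) (y.coeff 1) = 0 := by
    apply FaithfulSMul.algebraMap_injective (Localization.Away r.1) S
    rw [map_zero]; exact h4.symm
  obtain ⟨⟨m, k, rfl⟩, hm⟩ := (IsLocalization.map_eq_zero_iff (Submonoid.powers r.1)
    (Localization.Away r.1) (y.coeff 1)).mp h5
  exact ⟨k, by rw [Submodule.mem_bot, smul_eq_mul]; exact hm⟩

theorem piBar_injective : Function.Injective (piBar π) := by
  rw [injective_iff_map_eq_zero]
  intro y hy
  apply MonoidAlgebra.coeff_injective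
  ext c
  have h1 : piBar π (MonoidAlgebra.single c⁻¹ (1 : R) * y) = 0 := by rw [map_mul, hy, mul_zero]
  have h2 := coeff_one_of_piBar_eq_zero π hconn hB _ h1
  rw [MonoidAlgebra.coeff_single_mul_apply, one_mul, inv_inv, mul_one] at h2
  rw [h2]; rfl

theorem isDiag_of_surjective (hπ : Function.Surjective π) : SGA3b.IsDiag R B := by
  refine ⟨M ⧸ kerSub π, inferInstance, ?_⟩
  refine H12TI.nonempty_bialgEquiv_of_ker_eq π
    (MonoidAlgebra.mapDomainBialgHom R (QuotientGroup.mk' (kerSub π))) hπ
    (H12TI.mapDomain_mk_surjective _) ?_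
  ext x
  rw [RingHom.mem_ker, RingHom.mem_ker]
  constructor
  · intro hx
    apply piBar_injective π hconn hB
    rw [map_zero]
    exact (piBar_comp π x).trans hx
  · intro hx
    have hx' : MonoidAlgebra.mapDomainBialgHom R (QuotientGroup.mk' (kerSub π)) x = 0 := hx
    have h := piBar_comp π x
    rw [hx', map_zero] at h
    exact h.symm

end main

end Groth.Agent.H12DS
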