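import Mathlib.RingTheory.HopfAlgebra.Convolution
import Mathlib.RingTheory.HopfAlgebra.TensorProduct
import Mathlib.Tactic

/-!
The antipode of a commutative Hopf algebra is an anti-coalgebra map (helper12).
-/

set_option autoImplicit false

open TensorProduct WithConv

namespace Groth.Agent.H12Hopf

variable {R : Type*} {A : Type*} [CommRing R] [CommRing A] [HopfAlgebra R A]

theorem comulAlgHom_comp_antipodeAlgHom :
    (Bialgebra.comulAlgHom R A).comp (HopfAlgebra.antipodeAlgHom R A) =
      ((Algebra.TensorProduct.map (HopfAlgebra.antipodeAlgHom R A)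
        (HopfAlgebra.antipodeAlgHom R A)).comp
        (Algebra.TensorProduct.comm R A A).toAlgHom).comp (Bialgebra.comulAlgHom R A) := by
  let f₁ : WithConv (A →ₐ[R] A ⊗[R] A) := toConv Algebra.TensorProduct.includeLeft
  let f₂ : WithConv (A →ₐ[R] A ⊗[R] A) := toConv Algebra.TensorProduct.includeRight
  have h1 : f₁ * f₂ = toConv (Bialgebra.comulAlgHom R A) := by
    rw [AlgHom.convMul_def]
    congr 1
    have : (Algebra.TensorProduct.lmul' R).comp
        (Algebra.TensorProduct.map (Algebra.TensorProduct.includeLeft : A →ₐ[R] A ⊗[R] A)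
          (Algebra.TensorProduct.includeRight : A →ₐ[R] A ⊗[R] A)) = AlgHom.id R _ := by
      ext <;> simp
    show ((Algebra.TensorProduct.lmul' R).comp
        ((Algebra.TensorProduct.map (Algebra.TensorProduct.includeLeft : A →ₐ[R] A ⊗[R] A)
          (Algebra.TensorProduct.includeRight : A →ₐ[R] A ⊗[R] A)).comp
            (Bialgebra.comulAlgHom R A))) = _
    rw [← AlgHom.comp_assoc, this, AlgHom.id_comp]
  have h2 : (f₁ * f₂)⁻¹ = f₂⁻¹ * f₁⁻¹ := mul_inv_rev f₁ f₂
  rw [h1] at h2
  have h3 : (toConv (Bialgebra.comulAlgHom R A) : WithConv (A →ₐ[R] A ⊗[R] A))⁻¹ =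
      toConv ((Bialgebra.comulAlgHom R A).comp (HopfAlgebra.antipodeAlgHom R A)) := rfl
  have h4 : f₂⁻¹ * f₁⁻¹ = toConv ((Algebra.TensorProduct.lmul' R).comp
      ((Algebra.TensorProduct.map
        ((Algebra.TensorProduct.includeRight : A →ₐ[R] A ⊗[R] A).comp
          (HopfAlgebra.antipodeAlgHom R A))
        ((Algebra.TensorProduct.includeLeft : A →ₐ[R] A ⊗[R] A).comp
          (HopfAlgebra.antipodeAlgHom R A))).comp (Bialgebra.comulAlgHom R A))) := rfl
  rw [h3, h4] at h2
  have h5 := WithConv.toConv_injective h2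
  rw [h5, ← AlgHom.comp_assoc]
  congr 1
  ext <;> simp

/-- `Δ (S a) = (S ⊗ S) (τ (Δ a))`. -/
theorem comul_antipode (a : A) :
    Coalgebra.comul (R := R) (HopfAlgebra.antipode R a) =
      TensorProduct.map (HopfAlgebra.antipode R) (HopfAlgebra.antipode R)
        (TensorProduct.comm R A A (Coalgebra.comul (R := R) a)) := by
  have h := congrArg (fun f : A →ₐ[R] A ⊗[R] A => f a) (comulAlgHom_comp_antipodeAlgHom (R := R) (A := A))
  simp only [AlgHom.comp_apply, Bialgebra.comulAlgHom_apply, HopfAlgebra.antipodeAlgHom_apply] at h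
  rw [h]
  generalize Coalgebra.comul (R := R) a = t
  induction t using TensorProduct.induction_on with
  | zero => simp
  | tmul x y => simp
  | add x y hx hy => simp only [map_add, hx, hy]

end Groth.Agent.H12Hopf
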