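import Mathlib
import Groth.Prelude.Def_ComodDual
import Groth.Agent.Lib.helper12.HopfAnti

/-!
# Existence of the contragredient comodule structure on `M^*` for `M` finite projective
-/

set_option autoImplicit false
set_option linter.style.haveILetI false
set_option linter.unusedSectionVars false

namespace H12DC
open TensorProduct

universe u v w

variable {k : Type u} [CommRing k] {A : Type v} [CommRing A] [HopfAlgebra k A]
  {M : Type w} [AddCommGroup M] [Module k M]

local notation "S" => (HopfAlgebraStruct.antipode (R := k) (A := A))

/-- `dualCoactFun` as a linear map. -/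
noncomputable def L (c : HopfRep.Comod k A M) : Module.Dual k M →ₗ[k] (M →ₗ[k] A) where
  toFun g := ComodTens.dualCoactFun c g
  map_add' := ComodTens.dualCoactFun_add c
  map_smul' r g := ComodTens.dualCoactFun_smul c r g

lemma Φ₂_assoc (W : Module.Dual k M ⊗[k] A) (a : A) (m : M) :
    dualTensorHom k M (A ⊗[k] A) (TensorProduct.assoc k (Module.Dual k M) A A (W ⊗ₜ[k] a)) m =
      dualTensorHom k M A W m ⊗ₜ[k] a := by
  induction W using TensorProduct.induction_on with
  | zero => simp
  | add x y hx hy =>
    simp only [TensorProduct.add_tmul, map_add, LinearMap.add_apply, hx, hy]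
  | tmul φ a' =>
    simp only [TensorProduct.assoc_tmul, dualTensorHom_apply, TensorProduct.smul_tmul']

section
variable [Module.Finite k M] [Module.Projective k M]

/-- the contragredient coaction. -/
noncomputable def dco (c : HopfRep.Comod k A M) :
    Module.Dual k M →ₗ[k] Module.Dual k M ⊗[k] A :=
  (LinearEquiv.ofBijective (dualTensorHom k M A) dualTensorHom_bijective).symm.toLinearMap ∘ₗ L c

lemma Φ_dco (c : HopfRep.Comod k A M) (g : Module.Dual k M) :
    dualTensorHom k M A (dco c g) = ComodTens.dualCoactFun c g := by
  have := (LinearEquiv.ofBijective (dualTensorHom k M A) dualTensorHom_bijective).apply_symm_apply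
    (L c g)
  rw [LinearEquiv.ofBijective_apply] at this
  exact this

lemma I1 (c : HopfRep.Comod k A M) (Z : Module.Dual k M ⊗[k] A) :
    dualTensorHom k M (A ⊗[k] A)
      (TensorProduct.assoc k (Module.Dual k M) A A ((dco c).rTensor A Z)) =
    TensorProduct.map S (dualTensorHom k M A Z) ∘ₗ
      (TensorProduct.comm k M A).toLinearMap ∘ₗ c.coact := by
  induction Z using TensorProduct.induction_on with
  | zero => simp
  | add x y hx hy =>
    simp only [map_add, hx, hy, TensorProduct.map_add_right, LinearMap.add_comp]
  | tmul g a =>
    ext m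
    rw [LinearMap.rTensor_tmul, Φ₂_assoc, Φ_dco, ComodTens.dualCoactFun_apply,
      LinearMap.comp_apply, LinearMap.comp_apply]
    generalize c.coact m = z
    induction z using TensorProduct.induction_on with
    | zero => simp
    | add x y hx hy => simp only [map_add, TensorProduct.add_tmul, hx, hy]
    | tmul m' a' =>
      simp only [TensorProduct.map_tmul, TensorProduct.lid_tmul, LinearEquiv.coe_coe,
        TensorProduct.comm_tmul, dualTensorHom_apply, TensorProduct.tmul_smul,
        TensorProduct.smul_tmul']

lemma I2 (Z : Module.Dual k M ⊗[k] A) :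
    dualTensorHom k M (A ⊗[k] A)
      ((CoalgebraStruct.comul (R := k) (A := A)).lTensor (Module.Dual k M) Z) =
    (CoalgebraStruct.comul (R := k) (A := A)) ∘ₗ dualTensorHom k M A Z := by
  induction Z using TensorProduct.induction_on with
  | zero => simp
  | add x y hx hy => simp only [map_add, hx, hy, LinearMap.comp_add]
  | tmul g a =>
    ext m
    simp only [LinearMap.lTensor_tmul, dualTensorHom_apply, LinearMap.comp_apply, map_smul]

lemma I3 (Z : Module.Dual k M ⊗[k] A) :
    TensorProduct.rid k (Module.Dual k M)
      ((CoalgebraStruct.counit (R := k) (A := A)).lTensor (Module.Dual k M) Z) =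
    (CoalgebraStruct.counit (R := k) (A := A)) ∘ₗ dualTensorHom k M A Z := by
  induction Z using TensorProduct.induction_on with
  | zero => simp
  | add x y hx hy => simp only [map_add, hx, hy, LinearMap.comp_add]
  | tmul g a =>
    ext m
    simp [mul_comm]

theorem exists_dual (c : HopfRep.Comod k A M) :
    ∃ d : HopfRep.Comod k A (Module.Dual k M), ComodTens.Comod.IsDual c d := by
  have hΦ₂ : Function.Injective (dualTensorHom k M (A ⊗[k] A)) :=
    (dualTensorHom_bijective (R := k) (M := M) (N := A ⊗[k] A)).1
  -- `G`
  let G : Module.Dual k M → (M ⊗[k] (A ⊗[k] A) →ₗ[k] A ⊗[k] A) := fun g =>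
    (TensorProduct.lid k (A ⊗[k] A)).toLinearMap ∘ₗ
      TensorProduct.map g (TensorProduct.map S S ∘ₗ (TensorProduct.comm k A A).toLinearMap)
  have K1 : ∀ g : Module.Dual k M,
      TensorProduct.map S ((TensorProduct.lid k A).toLinearMap ∘ₗ TensorProduct.map g S) ∘ₗ
        (TensorProduct.comm k (M ⊗[k] A) A).toLinearMap =
      G g ∘ₗ (TensorProduct.assoc k M A A).toLinearMap := by
    intro g
    ext m a a'
    simp [G, TensorProduct.tmul_smul, TensorProduct.smul_tmul']
  have K2 : ∀ g : Module.Dual k M,
      (CoalgebraStruct.comul (R := k) (A := A)) ∘ₗ (TensorProduct.lid k A).toLinearMap ∘ₗ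
        TensorProduct.map g S =
      G g ∘ₗ (CoalgebraStruct.comul (R := k) (A := A)).lTensor M := by
    intro g
    ext m a
    simp only [G, TensorProduct.AlgebraTensorModule.curry_apply, LinearMap.restrictScalars_self,
      TensorProduct.curry_apply, LinearMap.comp_apply, TensorProduct.map_tmul,
      LinearEquiv.coe_coe, TensorProduct.lid_tmul, map_smul, LinearMap.lTensor_tmul]
    congr 1
    exact Groth.Agent.H12Hopf.comul_antipode (R := k) a
  have K3 : ∀ g : Module.Dual k M, ∀ z : M ⊗[k] A,
      TensorProduct.map S (ComodTens.dualCoactFun c g) ((TensorProduct.comm k M A) z) =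
      TensorProduct.map S ((TensorProduct.lid k A).toLinearMap ∘ₗ TensorProduct.map g S)
        ((TensorProduct.comm k (M ⊗[k] A) A) (c.coact.rTensor A z)) := by
    intro g z
    induction z using TensorProduct.induction_on with
    | zero => simp
    | add x y hx hy => simp only [map_add, hx, hy]
    | tmul m a =>
      simp only [TensorProduct.comm_tmul, TensorProduct.map_tmul, LinearMap.rTensor_tmul]
      rfl
  have J3 : ∀ g : Module.Dual k M, (CoalgebraStruct.counit (R := k) (A := A)) ∘ₗ
      (TensorProduct.lid k A).toLinearMap ∘ₗ TensorProduct.map g S =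
      g ∘ₗ (TensorProduct.rid k M).toLinearMap ∘ₗ
        (CoalgebraStruct.counit (R := k) (A := A)).lTensor M := by
    intro g
    ext m a
    simp [mul_comm]
  refine ⟨{ coact := dco c, coassoc := ?_, counit_comp := ?_ }, ?_⟩
  · ext g
    apply hΦ₂
    simp only [LinearMap.comp_apply, LinearEquiv.coe_coe]
    rw [I1, I2, Φ_dco]
    ext m
    have hco := LinearMap.congr_fun c.coassoc m
    simp only [LinearMap.comp_apply, LinearEquiv.coe_coe] at hco
    simp only [LinearMap.comp_apply, LinearEquiv.coe_coe]
    rw [K3]
    calc TensorProduct.map S ((TensorProduct.lid k A).toLinearMap ∘ₗ TensorProduct.map g S)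
          ((TensorProduct.comm k (M ⊗[k] A) A) (c.coact.rTensor A (c.coact m)))
        = G g (TensorProduct.assoc k M A A (c.coact.rTensor A (c.coact m))) :=
          LinearMap.congr_fun (K1 g) _
      _ = G g ((CoalgebraStruct.comul (R := k) (A := A)).lTensor M (c.coact m)) := by rw [hco]
      _ = CoalgebraStruct.comul (R := k) (A := A) (ComodTens.dualCoactFun c g m) :=
          (LinearMap.congr_fun (K2 g) _).symm
  · ext g
    apply (TensorProduct.rid k (Module.Dual k M)).injective
    simp only [LinearMap.comp_apply]
    rw [I3, Φ_dco]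
    ext m
    have hcu := LinearMap.congr_fun c.counit_comp m
    simp only [LinearMap.comp_apply] at hcu
    have := LinearMap.congr_fun (J3 g) (c.coact m)
    simp only [LinearMap.comp_apply, LinearEquiv.coe_coe] at this
    rw [LinearMap.comp_apply, ComodTens.dualCoactFun_apply, this, hcu]
    simp
  · intro g
    exact Φ_dco c g

end

end H12DC
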