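import Mathlib
import Groth.Agent.Lib.helper12.BialgDescent

/-!
helper12: glueing along a finite equalizer system of algebras over a field.
`K` is the equalizer of `∏ Kv i ⇉ ∏ Ke k`; then any `K`-vector space `M` is the equalizer of
`∏ Kv i ⊗ M ⇉ ∏ Ke k ⊗ M` (`exists_glue`).
-/

set_option autoImplicit false
set_option linter.unusedSectionVars false
set_option linter.style.haveILetI false
universe u

open TensorProduct

namespace Groth.Agent.H12EqD

section Glue
variable {K : Type u} [Field K] {ιv ιe : Type u} [Finite ιv]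
  {Kv : ιv → Type u} [∀ i, CommRing (Kv i)] [∀ i, Algebra K (Kv i)]
  {Ke : ιe → Type u} [∀ k, CommRing (Ke k)] [∀ k, Algebra K (Ke k)]
  {l r : ιe → ιv} (ρl : ∀ k, Kv (l k) →ₐ[K] Ke k) (ρr : ∀ k, Kv (r k) →ₐ[K] Ke k)
  (hlim : ∀ x : (∀ i, Kv i), (∀ k, ρl k (x (l k)) = ρr k (x (r k))) →
      ∃! a : K, ∀ i, algebraMap K (Kv i) a = x i)

/-- naturality of coordinates -/
lemma repr_rTensor {S S' : Type u} [CommRing S] [CommRing S'] [Algebra K S] [Algebra K S']
    (θ : S →ₐ[K] S') {M : Type u} [AddCommGroup M] [Module K M] {J : Type u}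
    (e : Module.Basis J K M) (x : S ⊗[K] M) (j : J) :
    (Algebra.TensorProduct.basis S' e).repr (LinearMap.rTensor M θ.toLinearMap x) j =
      θ ((Algebra.TensorProduct.basis S e).repr x j) := by
  induction x using TensorProduct.induction_on with
  | zero => simp
  | tmul s m =>
    rw [LinearMap.rTensor_tmul, Algebra.TensorProduct.basis_repr_tmul,
      Algebra.TensorProduct.basis_repr_tmul]
    simp only [Finsupp.smul_apply, Finsupp.mapRange_apply, smul_eq_mul, AlgHom.toLinearMap_apply,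
      map_mul, AlgHom.commutes]
  | add x y hx hy =>
    rw [map_add, map_add, Finsupp.add_apply, hx, hy, map_add, Finsupp.add_apply, map_add]

include hlim in
/-- some vertex algebra receives `K` injectively -/
lemma exists_injective : ∃ i₀ : ιv, Function.Injective (algebraMap K (Kv i₀)) := by
  by_contra hcon
  push Not at hcon
  have htriv : ∀ i, ∀ a : K, algebraMap K (Kv i) a = 0 := by
    intro i a
    have h1 := hcon i
    rw [injective_iff_map_eq_zero] at h1
    push Not at h1
    obtain ⟨c, hc0, hc⟩ := h1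
    have : a = (a * c⁻¹) * c := by
      rw [mul_assoc, inv_mul_cancel₀ hc, mul_one]
    rw [this, map_mul, hc0, mul_zero]
  obtain ⟨a, -, hau⟩ := hlim (fun _ => 0) (fun k => by rw [map_zero, map_zero])
  have h0 := hau 0 (fun i => htriv i 0)
  have h1 := hau 1 (fun i => htriv i 1)
  exact zero_ne_one (h0.trans h1.symm)

include hlim in
theorem exists_glue (M : Type u) [AddCommGroup M] [Module K M] (x : ∀ i, Kv i ⊗[K] M)
    (hx : ∀ k, LinearMap.rTensor M (ρl k).toLinearMap (x (l k)) =
      LinearMap.rTensor M (ρr k).toLinearMap (x (r k))) :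
    ∃ m : M, ∀ i, (1 : Kv i) ⊗ₜ[K] m = x i := by
  classical
  haveI := Fintype.ofFinite ιv
  let e := Module.Free.chooseBasis K M
  let bS : ∀ i, Module.Basis _ (Kv i) (Kv i ⊗[K] M) := fun i => Algebra.TensorProduct.basis (Kv i) e
  -- coordinates glue
  have hcoord : ∀ j, ∃! a : K, ∀ i, algebraMap K (Kv i) a = (bS i).repr (x i) j := by
    intro j
    apply hlim
    intro k
    have h1 := repr_rTensor (ρl k) e (x (l k)) j
    have h2 := repr_rTensor (ρr k) e (x (r k)) j
    rw [← h1, ← h2, hx k]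
  choose a ha hau using hcoord
  let F : Finset _ := Finset.univ.biUnion fun i => ((bS i).repr (x i)).support
  have haF : ∀ j, j ∉ F → a j = 0 := by
    intro j hj
    symm
    apply hau j 0
    intro i
    rw [map_zero]
    symm
    by_contra hne
    apply hj
    rw [Finset.mem_biUnion]
    exact ⟨i, Finset.mem_univ i, Finsupp.mem_support_iff.2 hne⟩
  refine ⟨∑ j ∈ F, a j • e j, fun i => ?_⟩
  apply (bS i).repr.injective
  ext j
  rw [Algebra.TensorProduct.basis_repr_tmul]
  simp only [Finsupp.smul_apply, Finsupp.mapRange_apply, smul_eq_mul, one_mul]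
  have hrepr : e.repr (∑ j ∈ F, a j • e j) j = if j ∈ F then a j else 0 := by
    rw [map_sum, Finset.sum_apply']
    simp only [map_smul, Module.Basis.repr_self, Finsupp.smul_apply, Finsupp.single_apply,
      smul_eq_mul, mul_ite, mul_one, mul_zero]
    rw [Finset.sum_ite_eq' F j]
  rw [hrepr]
  by_cases hj : j ∈ F
  · rw [if_pos hj, ha j i]
  · rw [if_neg hj, ← ha j i, haF j hj]

end Glue

section Inverse
variable {K : Type u} [Field K] {S T : Type u} [CommRing S] [CommRing T] [Algebra K S] [Algebra K T]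
  {A B : Type u} [AddCommGroup A] [AddCommGroup B] [Module K A] [Module K B]

lemma rTensor_smul (ρ : S →ₐ[K] T) (M : Type u) [AddCommGroup M] [Module K M] (s : S)
    (z : S ⊗[K] M) :
    LinearMap.rTensor M ρ.toLinearMap (s • z) = ρ s • LinearMap.rTensor M ρ.toLinearMap z := by
  induction z using TensorProduct.induction_on with
  | zero => simp
  | tmul c m =>
    rw [TensorProduct.smul_tmul', LinearMap.rTensor_tmul, LinearMap.rTensor_tmul,
      TensorProduct.smul_tmul']
    simp
  | add x y hx hy => rw [smul_add, map_add, hx, hy, map_add, smul_add]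

/-- the `K`-linear map `b ↦ (ρ ⊗ id)(f (1 ⊗ b))` -/
noncomputable def gmap (ρ : S →ₐ[K] T) (f : S ⊗[K] B →ₗ[S] S ⊗[K] A) : B →ₗ[K] T ⊗[K] A :=
  (LinearMap.rTensor A ρ.toLinearMap) ∘ₗ (f.restrictScalars K) ∘ₗ (TensorProduct.mk K S B 1)

lemma gmap_apply (ρ : S →ₐ[K] T) (f : S ⊗[K] B →ₗ[S] S ⊗[K] A) (b : B) :
    gmap ρ f b = LinearMap.rTensor A ρ.toLinearMap (f ((1 : S) ⊗ₜ[K] b)) := rfl

/-- semilinear compatibility -/
lemma liftBaseChange_gmap (ρ : S →ₐ[K] T) (f : S ⊗[K] B →ₗ[S] S ⊗[K] A) (y : S ⊗[K] B) :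
    LinearMap.liftBaseChange T (gmap ρ f) (LinearMap.rTensor B ρ.toLinearMap y) =
      LinearMap.rTensor A ρ.toLinearMap (f y) := by
  induction y using TensorProduct.induction_on with
  | zero => simp
  | tmul s b =>
    rw [LinearMap.rTensor_tmul, LinearMap.liftBaseChange_tmul, gmap_apply]
    have : s ⊗ₜ[K] b = s • ((1 : S) ⊗ₜ[K] b) := by
      rw [TensorProduct.smul_tmul', smul_eq_mul, mul_one]
    rw [this, map_smul, rTensor_smul]
    rfl
  | add x y hx hy => rw [map_add, map_add, hx, hy, map_add, map_add]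

variable {S' : Type u} [CommRing S'] [Algebra K S']

/-- compatibility of a family of isomorphisms on an edge passes to the inverses -/
theorem inverse_compat (ρl : S →ₐ[K] T) (ρr : S' →ₐ[K] T)
    (ul : S ⊗[K] B ≃ₗ[S] S ⊗[K] A) (ur : S' ⊗[K] B ≃ₗ[S'] S' ⊗[K] A)
    (h : ∀ b : B, LinearMap.rTensor A ρl.toLinearMap (ul ((1 : S) ⊗ₜ[K] b)) =
      LinearMap.rTensor A ρr.toLinearMap (ur ((1 : S') ⊗ₜ[K] b))) (a : A) :
    LinearMap.rTensor B ρl.toLinearMap (ul.symm ((1 : S) ⊗ₜ[K] a)) =
      LinearMap.rTensor B ρr.toLinearMap (ur.symm ((1 : S') ⊗ₜ[K] a)) := by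
  have hg : gmap ρl ul.toLinearMap = gmap ρr ur.toLinearMap := by
    ext b
    exact h b
  set U := LinearMap.liftBaseChange T (gmap ρl ul.toLinearMap) with hU
  set U' := LinearMap.liftBaseChange T (gmap ρl ul.symm.toLinearMap) with hU'
  have hleft : ∀ z : T ⊗[K] B, U' (U z) = z := by
    intro z
    induction z using TensorProduct.induction_on with
    | zero => simp
    | tmul t b =>
      rw [hU, LinearMap.liftBaseChange_tmul, map_smul, gmap_apply, hU', liftBaseChange_gmap]
      show t • LinearMap.rTensor B ρl.toLinearMap (ul.symm (ul ((1 : S) ⊗ₜ[K] b))) = _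
      rw [LinearEquiv.symm_apply_apply, LinearMap.rTensor_tmul, TensorProduct.smul_tmul']
      simp
    | add x y hx hy => rw [map_add, map_add, hx, hy]
  have hinj : Function.Injective U := Function.LeftInverse.injective hleft
  apply hinj
  have h1 : U (LinearMap.rTensor B ρl.toLinearMap (ul.symm ((1 : S) ⊗ₜ[K] a))) =
      (1 : T) ⊗ₜ[K] a := by
    rw [hU, liftBaseChange_gmap]
    show LinearMap.rTensor A ρl.toLinearMap (ul (ul.symm ((1 : S) ⊗ₜ[K] a))) = _
    rw [LinearEquiv.apply_symm_apply, LinearMap.rTensor_tmul]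
    simp
  have h2 : U (LinearMap.rTensor B ρr.toLinearMap (ur.symm ((1 : S') ⊗ₜ[K] a))) =
      (1 : T) ⊗ₜ[K] a := by
    rw [hU, hg, liftBaseChange_gmap]
    show LinearMap.rTensor A ρr.toLinearMap (ur (ur.symm ((1 : S') ⊗ₜ[K] a))) = _
    rw [LinearEquiv.apply_symm_apply, LinearMap.rTensor_tmul]
    simp
  rw [h1, h2]

end Inverse

end Groth.Agent.H12EqD
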