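import Mathlib

set_option autoImplicit false
set_option linter.style.haveILetI false
universe u v

namespace H12EP

open Polynomial

section A
variable (K : Type u) (L : Type u) [Field K] [CommRing L] [Algebra K L] [Module.Finite K L]
  [IsReduced L] [Algebra.IsSeparable K L]
  (Ω : Type v) [Field Ω] [IsAlgClosed Ω] [Algebra K Ω]

theorem finrank_le_card_hom : Module.finrank K L ≤ Nat.card (L →ₐ[K] Ω) := by
  classical
  haveI : IsArtinianRing L := isArtinian_of_tower K inferInstance
  haveI : Fintype (MaximalSpectrum L) := Fintype.ofFinite _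
  letI fld (m : MaximalSpectrum L) : Field (L ⧸ m.asIdeal) := Ideal.Quotient.field m.asIdeal
  have hsep : ∀ m : MaximalSpectrum L, Algebra.IsSeparable K (L ⧸ m.asIdeal) := by
    intro m
    refine ⟨fun x => ?_⟩
    obtain ⟨y, rfl⟩ := Ideal.Quotient.mk_surjective x
    have hy : IsSeparable K y := Algebra.IsSeparable.isSeparable K y
    have hdvd : minpoly K (Ideal.Quotient.mk m.asIdeal y) ∣ minpoly K y := by
      apply minpoly.dvd
      have : aeval (Ideal.Quotient.mkₐ K m.asIdeal y) (minpoly K y) = 0 := by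
        rw [aeval_algHom_apply, minpoly.aeval, map_zero]
      exact this
    exact hy.of_dvd hdvd
  let e : L ≃ₐ[K] (∀ m : MaximalSpectrum L, L ⧸ m.asIdeal) :=
    (IsArtinianRing.equivPi L).restrictScalars K
  have h1 : Module.finrank K L = ∑ m : MaximalSpectrum L, Module.finrank K (L ⧸ m.asIdeal) := by
    rw [e.toLinearEquiv.finrank_eq, Module.finrank_pi_fintype]
  have h2 : ∀ m : MaximalSpectrum L,
      Nat.card ((L ⧸ m.asIdeal) →ₐ[K] Ω) = Module.finrank K (L ⧸ m.asIdeal) := by
    intro m
    haveI := hsep m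
    exact AlgHom.natCard_of_splits K (L ⧸ m.asIdeal) Ω (fun _ => IsAlgClosed.splits _)
  let ι : (Σ m : MaximalSpectrum L, ((L ⧸ m.asIdeal) →ₐ[K] Ω)) → (L →ₐ[K] Ω) :=
    fun p => p.2.comp (Ideal.Quotient.mkₐ K p.1.asIdeal)
  have hι : Function.Injective ι := by
    rintro ⟨m, σ⟩ ⟨m', τ⟩ h
    have hker : ∀ (m : MaximalSpectrum L) (σ : (L ⧸ m.asIdeal) →ₐ[K] Ω) (x : L),
        (σ.comp (Ideal.Quotient.mkₐ K m.asIdeal)) x = 0 ↔ x ∈ m.asIdeal := by
      intro m σ x
      rw [AlgHom.comp_apply, map_eq_zero_iff σ σ.toRingHom.injective]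
      exact Ideal.Quotient.eq_zero_iff_mem
    have hmm : m = m' := by
      apply MaximalSpectrum.ext
      ext x
      rw [← hker m σ x, ← hker m' τ x]
      have h' : σ.comp (Ideal.Quotient.mkₐ K m.asIdeal) = τ.comp (Ideal.Quotient.mkₐ K m'.asIdeal) := h
      rw [h']
    subst hmm
    congr 1
    apply AlgHom.ext
    intro x
    obtain ⟨y, rfl⟩ := Ideal.Quotient.mk_surjective x
    exact AlgHom.congr_fun h y
  calc Module.finrank K L = ∑ m : MaximalSpectrum L, Module.finrank K (L ⧸ m.asIdeal) := h1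
    _ = ∑ m : MaximalSpectrum L, Nat.card ((L ⧸ m.asIdeal) →ₐ[K] Ω) := by
        simp_rw [h2]
    _ = Nat.card (Σ m : MaximalSpectrum L, ((L ⧸ m.asIdeal) →ₐ[K] Ω)) := by
        rw [Nat.card_sigma]
    _ ≤ Nat.card (L →ₐ[K] Ω) := Nat.card_le_card_of_injective ι hι

theorem card_hom_eq : Nat.card (L →ₐ[K] Ω) = Module.finrank K L :=
  le_antisymm (card_algHom_le_finrank K L Ω) (finrank_le_card_hom K L Ω)

end A

section B
variable (K : Type u) (L : Type u) [Field K] [CommRing L] [Algebra K L] [Module.Finite K L]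
  (Ω : Type v) [Field Ω] [Algebra K Ω]

theorem adjoin_eq_top_of_injective (u : L)
    (hcard : Module.finrank K L ≤ Nat.card (L →ₐ[K] Ω))
    (hinj : Function.Injective (fun σ : L →ₐ[K] Ω => σ u)) :
    Algebra.adjoin K ({u} : Set L) = ⊤ := by
  classical
  have hint : IsIntegral K u := Algebra.IsIntegral.isIntegral u
  set m := minpoly K u with hm
  have hm0 : m ≠ 0 := minpoly.ne_zero hint
  have hmap0 : m.map (algebraMap K Ω) ≠ 0 := (Polynomial.map_ne_zero_iff (algebraMap K Ω).injective).2 hm0
  haveI : Finite (L →ₐ[K] Ω) := Finite.algHom K L Ω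
  -- all σ u are roots
  have hroot : ∀ σ : L →ₐ[K] Ω, σ u ∈ (m.map (algebraMap K Ω)).roots.toFinset := by
    intro σ
    rw [Multiset.mem_toFinset, Polynomial.mem_roots hmap0, Polynomial.IsRoot.def,
      Polynomial.eval_map, ← Polynomial.aeval_def, Polynomial.aeval_algHom_apply, hm,
      minpoly.aeval, map_zero]
  let f : (L →ₐ[K] Ω) → ((m.map (algebraMap K Ω)).roots.toFinset : Set Ω) :=
    fun σ => ⟨σ u, hroot σ⟩
  have hf : Function.Injective f := by
    intro σ τ h
    exact hinj (congrArg Subtype.val h)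
  have h1 : Nat.card (L →ₐ[K] Ω) ≤ m.natDegree := by
    calc Nat.card (L →ₐ[K] Ω)
        ≤ Nat.card ((m.map (algebraMap K Ω)).roots.toFinset : Set Ω) :=
          Nat.card_le_card_of_injective f hf
      _ = (m.map (algebraMap K Ω)).roots.toFinset.card := by
          rw [Nat.card_eq_fintype_card]; simp
      _ ≤ Multiset.card (m.map (algebraMap K Ω)).roots := Multiset.toFinset_card_le _
      _ ≤ (m.map (algebraMap K Ω)).natDegree := Polynomial.card_roots' _
      _ = m.natDegree := Polynomial.natDegree_map _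
  -- linear independent powers inside adjoin
  have hli := linearIndependent_pow (K := K) u
  have hmem : ∀ i : Fin m.natDegree, u ^ (i : ℕ) ∈ Algebra.adjoin K ({u} : Set L) :=
    fun i => Subalgebra.pow_mem _ (Algebra.self_mem_adjoin_singleton K u) _
  let g : Fin m.natDegree → Subalgebra.toSubmodule (Algebra.adjoin K ({u} : Set L)) :=
    fun i => ⟨u ^ (i : ℕ), hmem i⟩
  have hli' : LinearIndependent K g := by
    apply LinearIndependent.of_comp (Subalgebra.toSubmodule (Algebra.adjoin K ({u} : Set L))).subtype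
    exact hli
  have h2 : m.natDegree ≤ Module.finrank K (Subalgebra.toSubmodule (Algebra.adjoin K ({u} : Set L))) := by
    have := hli'.fintype_card_le_finrank
    simpa using this
  have h3 : Module.finrank K (Subalgebra.toSubmodule (Algebra.adjoin K ({u} : Set L))) =
      Module.finrank K L :=
    le_antisymm (Submodule.finrank_le _) (hcard.trans (h1.trans h2))
  have h4 := Submodule.eq_top_of_finrank_eq h3
  exact Algebra.toSubmodule_eq_top.1 h4

end B

section C
variable (K : Type u) (L : Type u) [Field K] [CommRing L] [Algebra K L] [Module.Finite K L]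
  [IsReduced L] [Algebra.IsSeparable K L]

theorem main (z t : L)
    (hgen : Algebra.adjoin K ({z, t} : Set L) = ⊤) (S : Finset K)
    (hS : Module.finrank K L ^ (4 * Module.finrank K L) ≤ S.card) :
    ∃ c ∈ S, Algebra.adjoin K ({c • z + t} : Set L) = ⊤ := by
  classical
  set d := Module.finrank K L with hd
  let Ω := AlgebraicClosure K
  haveI : Finite (L →ₐ[K] Ω) := Finite.algHom K L Ω
  letI : Fintype (L →ₐ[K] Ω) := Fintype.ofFinite _
  have hcard : Nat.card (L →ₐ[K] Ω) = d := card_hom_eq K L Ω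
  have hcard' : Fintype.card (L →ₐ[K] Ω) = d := by rw [← hcard, Nat.card_eq_fintype_card]
  by_contra hcon
  push Not at hcon
  -- each c ∈ S gives a bad pair
  have hbad : ∀ c ∈ S, ∃ p : (L →ₐ[K] Ω) × (L →ₐ[K] Ω), p.1 ≠ p.2 ∧
      p.1 (c • z + t) = p.2 (c • z + t) := by
    intro c hc
    by_contra hno
    push Not at hno
    apply hcon c hc
    apply adjoin_eq_top_of_injective K L Ω _ hcard.ge
    intro σ τ h
    by_contra hne
    exact hno (σ, τ) hne h
  have hpos : 0 < d ^ (4 * d) := by
    rcases Nat.eq_zero_or_pos d with h0 | hpos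
    · rw [h0]; simp
    · exact Nat.pow_pos hpos
  obtain ⟨c0, hc0⟩ : S.Nonempty := Finset.card_pos.1 (lt_of_lt_of_le hpos hS)
  obtain ⟨p0, -⟩ := hbad c0 hc0
  haveI : Nonempty ((L →ₐ[K] Ω) × (L →ₐ[K] Ω)) := ⟨p0⟩
  choose! P hP1 hP2 using hbad
  have hinj : Set.InjOn P (S : Set K) := by
    intro c hc c' hc' h
    have h1 := hP2 c hc
    have h2 := hP2 c' hc'
    rw [← h] at h2
    simp only [map_add, map_smul] at h1 h2
    -- c • (σ z - τ z) = τ t - σ t = c' • (σ z - τ z)
    by_contra hne
    have hz : (P c).1 z = (P c).2 z := by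
      have h3 : (c - c') • ((P c).1 z - (P c).2 z) = 0 := by
        have e1 : c • (P c).1 z - c • (P c).2 z = (P c).2 t - (P c).1 t := by
          rw [sub_eq_sub_iff_add_eq_add]; rw [h1]; ring
        have e2 : c' • (P c).1 z - c' • (P c).2 z = (P c).2 t - (P c).1 t := by
          rw [sub_eq_sub_iff_add_eq_add]; rw [h2]; ring
        rw [sub_smul, smul_sub, smul_sub, e1, e2, sub_self]
      rcases smul_eq_zero.1 h3 with h4 | h4
      · exact absurd (sub_eq_zero.1 h4) hne
      · exact sub_eq_zero.1 h4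
    have ht : (P c).1 t = (P c).2 t := by
      rw [hz] at h1
      exact add_left_cancel h1
    apply hP1 c hc
    apply AlgHom.ext_of_adjoin_eq_top hgen
    intro x hx
    rcases hx with rfl | hx
    · exact hz
    · rw [Set.mem_singleton_iff] at hx; rw [hx]; exact ht
  have hmaps : Set.MapsTo P (S : Set K) ((Finset.univ : Finset (L →ₐ[K] Ω)).offDiag : Set _) := by
    intro c hc
    rw [Finset.mem_coe, Finset.mem_offDiag]
    exact ⟨Finset.mem_univ _, Finset.mem_univ _, hP1 c hc⟩
  have hle : S.card ≤ ((Finset.univ : Finset (L →ₐ[K] Ω)).offDiag).card :=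
    Finset.card_le_card_of_injOn P hmaps hinj
  rw [Finset.offDiag_card, Finset.card_univ, hcard'] at hle
  have hlt : d * d - d < d ^ (4 * d) := by
    rcases Nat.eq_zero_or_pos d with h0 | hpos
    · rw [h0]; simp
    · calc d * d - d < d * d := Nat.sub_lt (Nat.mul_pos hpos hpos) hpos
        _ = d ^ 2 := (sq d).symm
        _ ≤ d ^ (4 * d) := Nat.pow_le_pow_right hpos (by omega)
  omega

end C

end H12EP
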