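import Mathlib
import Groth.Agent.Lib.helper12.FinHopf
import Groth.Prelude.Def_ConstGrp

/-!
helper12: a reduced finite commutative Hopf algebra of prime dimension over an algebraically closed
field is the function algebra of the cyclic group (`ConstGrp.F`).
-/

set_option autoImplicit false
set_option linter.unusedSectionVars false
set_option linter.style.haveILetI false
universe u v w

open TensorProduct

namespace Groth.Agent.H12FH

section const
variable {k : Type u} [Field k] {A : Type v} [CommRing A] [HopfAlgebra k A]
  {M : Type w} [Group M] [Fintype M] [DecidableEq M]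

/-- evaluation at a family of points as an algebra map to the function algebra -/
noncomputable def evalPts (ψ : M → (A →ₐ[k] k)) : A →ₐ[k] ConstGrp.F k M :=
  (ConstGrp.equivFun k M).symm.toAlgHom.comp (AlgHom.pi ψ)

lemma evalPts_apply (ψ : M → (A →ₐ[k] k)) (a : A) (j : M) : evalPts ψ a j = ψ j a := rfl

lemma evalPts_eq_sum (ψ : M → (A →ₐ[k] k)) (a : A) :
    evalPts ψ a = ∑ j : M, ψ j a • ConstGrp.e k j := by
  rw [ConstGrp.eq_sum_smul_e (evalPts ψ a)]
  rfl

lemma map_evalPts (ψ : M → (A →ₐ[k] k)) (t : A ⊗[k] A) :
    TensorProduct.map (evalPts ψ).toLinearMap (evalPts ψ).toLinearMap t =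
      ∑ x : M, ∑ y : M, LinearMap.mul' k k (TensorProduct.map (ψ x).toLinearMap (ψ y).toLinearMap t) •
        (ConstGrp.e k x ⊗ₜ[k] ConstGrp.e k y) := by
  induction t using TensorProduct.induction_on with
  | zero => simp
  | tmul a b =>
    rw [TensorProduct.map_tmul, AlgHom.toLinearMap_apply, AlgHom.toLinearMap_apply,
      evalPts_eq_sum ψ a, evalPts_eq_sum ψ b, TensorProduct.sum_tmul]
    refine Finset.sum_congr rfl fun x _ => ?_
    rw [TensorProduct.tmul_sum]
    refine Finset.sum_congr rfl fun y _ => ?_
    rw [TensorProduct.map_tmul, LinearMap.mul'_apply, TensorProduct.smul_tmul_smul]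
    rfl
  | add x y hx hy =>
    simp only [map_add, hx, hy, add_smul, Finset.sum_add_distrib]

/-- evaluation at a group homomorphism into the group of points is a bialgebra map. -/
noncomputable def evalPtsBialg (ψ : M →* WithConv (A →ₐ[k] k)) : A →ₐc[k] ConstGrp.F k M :=
  BialgHom.ofAlgHom (evalPts fun j => (ψ j).ofConv)
    (by
      ext a
      show CoalgebraStruct.counit (R := k) (evalPts (fun j => (ψ j).ofConv) a) = _
      rw [ConstGrp.counit_apply, evalPts_apply, map_one]
      rfl)
    (by
      ext a
      show TensorProduct.map (evalPts fun j => (ψ j).ofConv).toLinearMap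
          (evalPts fun j => (ψ j).ofConv).toLinearMap (CoalgebraStruct.comul (R := k) a) =
        CoalgebraStruct.comul (R := k) (evalPts (fun j => (ψ j).ofConv) a)
      rw [map_evalPts, ConstGrp.comul_eq_sum]
      refine Finset.sum_congr rfl fun x _ => Finset.sum_congr rfl fun y _ => ?_
      rw [evalPts_apply, map_mul, ← convMul_points_apply])

lemma evalPtsBialg_apply (ψ : M →* WithConv (A →ₐ[k] k)) (a : A) (j : M) :
    evalPtsBialg ψ a j = (ψ j).ofConv a := rfl

end const

section primeRed
variable {k : Type u} [Field k] [IsAlgClosed k] {A : Type v} [CommRing A] [HopfAlgebra k A]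
  [Module.Finite k A]

theorem nonempty_bialgEquiv_constGrp [IsReduced A] (l : ℕ) [Fact l.Prime]
    (hA : Module.finrank k A = l) :
    Nonempty (A ≃ₐc[k] ConstGrp.F k (Multiplicative (ZMod l))) := by
  classical
  have hcard : Nat.card (WithConv (A →ₐ[k] k)) = l := by
    rw [← hA, ← H12FE.card_points (k := k) (A := A)]
    exact Nat.card_congr (WithConv.equiv _)
  haveI hcyc : IsCyclic (WithConv (A →ₐ[k] k)) := isCyclic_of_prime_card hcard
  have hcardM : Nat.card (Multiplicative (ZMod l)) = l := by
    rw [Nat.card_eq_fintype_card, Fintype.card_multiplicative, ZMod.card]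
  haveI hcycM : IsCyclic (Multiplicative (ZMod l)) := isCyclic_of_prime_card hcardM
  let ψ : Multiplicative (ZMod l) ≃* WithConv (A →ₐ[k] k) :=
    mulEquivOfCyclicCardEq (hcardM.trans hcard.symm)
  let Φ : A →ₐc[k] ConstGrp.F k (Multiplicative (ZMod l)) := evalPtsBialg ψ.toMonoidHom
  have hinj : Function.Injective Φ := by
    rw [injective_iff_map_eq_zero]
    intro a ha
    apply H12FE.eq_zero_of_forall_point (k := k)
    intro χ
    have h1 := congrFun ha (ψ.symm (WithConv.toConv χ))
    have h2 : Φ a (ψ.symm (WithConv.toConv χ)) = χ a := by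
      show (ψ (ψ.symm (WithConv.toConv χ))).ofConv a = χ a
      rw [ψ.apply_symm_apply]
    rw [← h2]
    exact h1
  have hdim : Module.finrank k (ConstGrp.F k (Multiplicative (ZMod l))) = l := by
    rw [Module.finrank_eq_card_basis (ConstGrp.basis k (Multiplicative (ZMod l))),
      Fintype.card_multiplicative, ZMod.card]
  have hsurj : Function.Surjective Φ :=
    (LinearMap.injective_iff_surjective_of_finrank_eq_finrank (f := (Φ : A →ₗ[k] _))
      (hA.trans hdim.symm)).1 hinj
  exact ⟨BialgEquiv.ofBijective Φ ⟨hinj, hsurj⟩⟩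

end primeRed

end Groth.Agent.H12FH
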