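import Mathlib
import Groth.Prelude.Def_W4c5flasquetoriphsGLat
import Groth.Agent.Lib.helper12.Coflasque
import Groth.Agent.Lib.helper12.Flasque

set_option autoImplicit false
set_option linter.style.haveILetI false
set_option linter.unusedSectionVars false

namespace H12FL2

open H12CF

section perm
variable {G : Type} [Group G] [Finite G] {M : Type} [AddCommGroup M] [Module.Finite ℤ M]

/-- permutation lattices are flasque -/
lemma perm_flasque (σ : Representation ℤ G M) (h : GLat.IsPermutation σ) :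
    GLat.IsFlasque σ := by
  classical
  obtain ⟨ι, b, hb⟩ := h
  choose act hact using hb
  letI : MulAction G ι :=
    { smul := act
      one_smul := by
        intro i
        apply b.injective
        show b (act 1 i) = b i
        rw [← hact 1 i, map_one, Module.End.one_apply]
      mul_smul := by
        intro g g' i
        apply b.injective
        show b (act (g * g') i) = b (act g (act g' i))
        rw [← hact, ← hact, ← hact, map_mul, Module.End.mul_apply] }
  have hsmul : ∀ (g : G) (i : ι), σ g (b i) = b (g • i) := hact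
  have hrepr : ∀ (g : G) (m : M) (x : ι), b.repr (σ g m) x = b.repr m (g⁻¹ • x) := by
    intro g m x
    have h1 : (Finsupp.lapply x ∘ₗ b.repr.toLinearMap) ∘ₗ σ g =
        Finsupp.lapply (g⁻¹ • x) ∘ₗ b.repr.toLinearMap := by
      apply b.ext
      intro i
      simp only [LinearMap.comp_apply, LinearEquiv.coe_coe, Finsupp.lapply_apply]
      rw [hsmul, b.repr_self, b.repr_self, Finsupp.single_apply, Finsupp.single_apply]
      by_cases hx : g • i = x
      · rw [if_pos hx, if_pos (by rw [← hx, inv_smul_smul])]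
      · rw [if_neg hx, if_neg (fun h' => hx (by rw [h', smul_inv_smul]))]
    exact LinearMap.congr_fun h1 m
  have he : ∀ (g : G) (m : M), b.repr (σ g m) = tau G ι g (b.repr m) := by
    intro g m
    ext x
    rw [hrepr, tau_apply]
  have he' : ∀ (g : G) (y : ι →₀ ℤ), b.repr.symm (tau G ι g y) = σ g (b.repr.symm y) := by
    intro g y
    apply b.repr.injective
    rw [LinearEquiv.apply_symm_apply, he, LinearEquiv.apply_symm_apply]
  intro H m hm
  haveI : Fintype H := Fintype.ofFinite H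
  rw [finsum_eq_sum_of_fintype] at hm
  have h0 : ∑ h : H, tau G ι (h : G) (b.repr m) = 0 := by
    have h1 := congrArg b.repr hm
    rw [map_sum, map_zero] at h1
    rw [← h1]
    exact Finset.sum_congr rfl (fun h _ => (he _ _).symm)
  have hspan := H12FL.hm1_perm (G := G) (X := ι) H (b.repr m) h0
  have hle : Submodule.span ℤ
      {x : ι →₀ ℤ | ∃ (h : H) (y : ι →₀ ℤ), x = tau G ι (h : G) y - y} ≤
      (Submodule.span ℤ {x : M | ∃ (h : H) (y : M), x = σ (h : G) y - y}).comap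
        b.repr.symm.toLinearMap := by
    rw [Submodule.span_le]
    rintro _ ⟨h, y, rfl⟩
    apply Submodule.subset_span
    exact ⟨h, b.repr.symm y, by rw [LinearEquiv.coe_coe, map_sub, he']⟩
  have h2 := hle hspan
  rw [Submodule.mem_comap, LinearEquiv.coe_coe, LinearEquiv.symm_apply_apply] at h2
  exact h2

end perm

section ext
variable {G : Type} [Group G] [Finite G]

/-- an extension of a flasque module by a flasque module is flasque -/
lemma flasque_ext {P M F : Type} [AddCommGroup P] [AddCommGroup M] [AddCommGroup F]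
    (σP : Representation ℤ G P) (σM : Representation ℤ G M) (σF : Representation ℤ G F)
    (i : P →ₗ[ℤ] M) (π : M →ₗ[ℤ] F)
    (hi : GLat.IsEquivariant σP σM i) (hπ : GLat.IsEquivariant σM σF π)
    (hinj : Function.Injective i) (hsurj : Function.Surjective π)
    (hex : LinearMap.range i = LinearMap.ker π)
    (hP : GLat.IsFlasque σP) (hF : GLat.IsFlasque σF) : GLat.IsFlasque σM := by
  have hi' : ∀ g q, i (σP g q) = σM g (i q) := hi
  have hπ' : ∀ g e, π (σM g e) = σF g (π e) := hπ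
  intro H m hm
  haveI : Fintype H := Fintype.ofFinite H
  rw [finsum_eq_sum_of_fintype] at hm
  have h1 : π m ∈ H12FL.IH σF H := by
    apply hF H (π m)
    rw [finsum_eq_sum_of_fintype]
    have h0 := congrArg π hm
    rw [map_sum, map_zero] at h0
    rw [← h0]
    exact Finset.sum_congr rfl (fun h _ => (hπ' _ _).symm)
  have hlift : ∀ z ∈ H12FL.IH σF H, ∃ w ∈ H12FL.IH σM H, π w = z := by
    intro z hz
    unfold H12FL.IH at hz
    induction hz using Submodule.span_induction with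
    | mem x hx =>
      obtain ⟨h, y, rfl⟩ := hx
      obtain ⟨y', rfl⟩ := hsurj y
      exact ⟨σM (h : G) y' - y', Submodule.subset_span ⟨h, y', rfl⟩, by rw [map_sub, hπ']⟩
    | zero => exact ⟨0, Submodule.zero_mem _, map_zero _⟩
    | add x y _ _ hx hy =>
      obtain ⟨w1, hw1, rfl⟩ := hx
      obtain ⟨w2, hw2, rfl⟩ := hy
      exact ⟨w1 + w2, Submodule.add_mem _ hw1 hw2, map_add _ _ _⟩
    | smul c x _ hx =>
      obtain ⟨w, hw, rfl⟩ := hx
      exact ⟨c • w, Submodule.smul_mem _ _ hw, map_smul _ _ _⟩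
  obtain ⟨w, hw, hwm⟩ := hlift _ h1
  have h2 : m - w ∈ LinearMap.range i := by
    rw [hex, LinearMap.mem_ker, map_sub, hwm, sub_self]
  obtain ⟨p, hp⟩ := h2
  have hNw : ∑ h : H, σM (h : G) w = 0 := by
    have h0 := H12FL.nrm_IH σM H hw
    rw [H12FL.nrm_apply] at h0
    exact h0
  have hNp : ∑ h : H, σP (h : G) p = 0 := by
    apply hinj
    rw [map_sum, map_zero]
    have e : ∀ h : H, i (σP (h : G) p) = σM (h : G) m - σM (h : G) w := by
      intro h
      rw [hi', hp, map_sub]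
    rw [Finset.sum_congr rfl (fun h _ => e h), Finset.sum_sub_distrib, hm, hNw, sub_zero]
  have h3 : p ∈ H12FL.IH σP H := by
    apply hP H p
    rw [finsum_eq_sum_of_fintype]
    exact hNp
  have h4 : i p ∈ H12FL.IH σM H := by
    have hle : H12FL.IH σP H ≤ (H12FL.IH σM H).comap i := by
      unfold H12FL.IH
      rw [Submodule.span_le]
      rintro _ ⟨h, y, rfl⟩
      apply Submodule.subset_span
      exact ⟨h, i y, by rw [map_sub, hi']⟩
    exact hle h3
  have h5 : m = w + i p := by rw [hp]; abel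
  rw [h5]
  exact Submodule.add_mem _ hw h4

end ext

section final
variable (G : Type) [Group G] [Finite G] (A : Type) [AddCommGroup A] [Module.Finite ℤ A]
  (ρ : Representation ℤ G A)

theorem main : ∃ (P : Type) (_ : AddCommGroup P) (F : Type) (_ : AddCommGroup F)
      (_ : Module.Finite ℤ P) (_ : Module.Free ℤ P) (_ : Module.Finite ℤ F) (_ : Module.Free ℤ F)
      (σ : Representation ℤ G P) (τ : Representation ℤ G F) (i : P →ₗ[ℤ] F) (π : F →ₗ[ℤ] A),
      GLat.IsEquivariant σ τ i ∧ GLat.IsEquivariant τ ρ π ∧ Function.Injective i ∧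
      Function.Surjective π ∧
      LinearMap.range i = LinearMap.ker π ∧ GLat.IsPermutation σ ∧ GLat.IsFlasque τ := by
  obtain ⟨Q, iQ, P₁, iP₁, fQ, frQ, fP₁, frP₁, σQ, σ₁, i₁, π₁, hi₁, hπ₁, hinj₁, hsurj₁, hex₁,
    hperm₁, -⟩ := H12CF.main G A ρ
  obtain ⟨P₂, iP₂, F', iF', fP₂, frP₂, fF', frF', σ₂, τF, i₂, π₂, hi₂, hπ₂, hinj₂, hsurj₂, hex₂,
    hperm₂, hflF⟩ := H12FL.main G Q σQ
  have hi₁' : ∀ g q, i₁ (σQ g q) = σ₁ g (i₁ q) := hi₁
  have hπ₁' : ∀ g x, π₁ (σ₁ g x) = ρ g (π₁ x) := hπ₁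
  have hi₂' : ∀ g q, i₂ (σQ g q) = σ₂ g (i₂ q) := hi₂
  have hπ₂' : ∀ g y, π₂ (σ₂ g y) = τF g (π₂ y) := hπ₂
  have hk₁ : ∀ q, π₁ (i₁ q) = 0 := fun q =>
    LinearMap.mem_ker.1 (hex₁ ▸ LinearMap.mem_range_self i₁ q)
  have hk₂ : ∀ q, π₂ (i₂ q) = 0 := fun q =>
    LinearMap.mem_ker.1 (hex₂ ▸ LinearMap.mem_range_self i₂ q)
  let d : Q →ₗ[ℤ] P₁ × P₂ := i₁.prod (-i₂)
  have hd : ∀ q, d q = (i₁ q, -i₂ q) := fun q => rfl
  let W : Submodule ℤ (P₁ × P₂) := LinearMap.range d
  have hle : ∀ g, W ≤ W.comap ((σ₁.prod σ₂) g) := by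
    rintro g _ ⟨q, rfl⟩
    refine Submodule.mem_comap.2 ⟨σQ g q, ?_⟩
    rw [hd, hd, hi₁', hi₂']
    show (σ₁ g (i₁ q), -σ₂ g (i₂ q)) = (σ₁ g (i₁ q), σ₂ g (-i₂ q))
    rw [map_neg]
  let σM : Representation ℤ G ((P₁ × P₂) ⧸ W) := (σ₁.prod σ₂).quotient W hle
  have hσM : ∀ g (z : P₁ × P₂), σM g (Submodule.Quotient.mk z) =
      Submodule.Quotient.mk (σ₁ g z.1, σ₂ g z.2) := fun g z => rfl
  let j₂ : P₂ →ₗ[ℤ] (P₁ × P₂) ⧸ W := W.mkQ ∘ₗ LinearMap.inr ℤ P₁ P₂
  let j₁ : P₁ →ₗ[ℤ] (P₁ × P₂) ⧸ W := W.mkQ ∘ₗ LinearMap.inl ℤ P₁ P₂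
  have hj₂ : ∀ y, j₂ y = Submodule.Quotient.mk (0, y) := fun y => rfl
  have hj₁ : ∀ x, j₁ x = Submodule.Quotient.mk (x, 0) := fun x => rfl
  let πA : (P₁ × P₂) ⧸ W →ₗ[ℤ] A := W.liftQ (π₁ ∘ₗ LinearMap.fst ℤ P₁ P₂) (by
    rintro _ ⟨q, rfl⟩
    rw [LinearMap.mem_ker]
    show π₁ (i₁ q) = 0
    exact hk₁ q)
  let πF : (P₁ × P₂) ⧸ W →ₗ[ℤ] F' := W.liftQ (π₂ ∘ₗ LinearMap.snd ℤ P₁ P₂) (by
    rintro _ ⟨q, rfl⟩
    rw [LinearMap.mem_ker]
    show π₂ (-i₂ q) = 0
    rw [map_neg, hk₂, neg_zero])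
  have hπA : ∀ z : P₁ × P₂, πA (Submodule.Quotient.mk z) = π₁ z.1 := fun z => rfl
  have hπF : ∀ z : P₁ × P₂, πF (Submodule.Quotient.mk z) = π₂ z.2 := fun z => rfl
  have hmkeq : ∀ z z' : P₁ × P₂, (∃ q, d q = z - z') →
      (Submodule.Quotient.mk z : (P₁ × P₂) ⧸ W) = Submodule.Quotient.mk z' := by
    intro z z' h
    rw [Submodule.Quotient.eq]
    exact LinearMap.mem_range.2 h
  have hmk0 : ∀ z : P₁ × P₂, (Submodule.Quotient.mk z : (P₁ × P₂) ⧸ W) = 0 → ∃ q, d q = z := by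
    intro z h
    rw [Submodule.Quotient.mk_eq_zero] at h
    exact LinearMap.mem_range.1 h
  haveI : Module.IsTorsionFree ℤ ((P₁ × P₂) ⧸ W) := by
    apply Module.IsTorsionFree.of_smul_eq_zero
    intro n t ht
    obtain ⟨⟨x, y⟩, rfl⟩ := Submodule.Quotient.mk_surjective _ t
    by_cases hn : n = 0
    · exact Or.inl hn
    right
    rw [← Submodule.Quotient.mk_smul] at ht
    obtain ⟨q, hq⟩ := hmk0 _ ht
    rw [hd] at hq
    have hq1 : i₁ q = n • x := congrArg Prod.fst hq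
    have hq2 : -i₂ q = n • y := congrArg Prod.snd hq
    have h1 : n • π₂ y = 0 := by
      rw [← map_smul, ← hq2, map_neg, hk₂, neg_zero]
    have h2 : π₂ y = 0 := (smul_eq_zero.1 h1).resolve_left hn
    have h3 : y ∈ LinearMap.range i₂ := by
      rw [hex₂]
      exact LinearMap.mem_ker.2 h2
    obtain ⟨q', rfl⟩ := h3
    have h4 : q = -(n • q') := by
      apply hinj₂
      rw [map_neg, map_smul, ← hq2, neg_neg]
    have h5 : n • (x + i₁ q') = 0 := by
      rw [smul_add, ← hq1, h4, map_neg, map_smul]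
      abel
    have h6 : x + i₁ q' = 0 := (smul_eq_zero.1 h5).resolve_left hn
    rw [Submodule.Quotient.mk_eq_zero]
    refine LinearMap.mem_range.2 ⟨-q', ?_⟩
    rw [hd, map_neg, map_neg, neg_neg]
    exact Prod.ext (eq_neg_of_add_eq_zero_left h6).symm rfl
  haveI : Module.Free ℤ ((P₁ × P₂) ⧸ W) := Module.free_of_finite_type_torsion_free'
  have hflM : GLat.IsFlasque σM := by
    refine flasque_ext σ₁ σM τF j₁ πF ?_ ?_ ?_ ?_ ?_ (perm_flasque σ₁ hperm₁) hflF
    · intro g x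
      rw [hj₁, hj₁, hσM]
      show (Submodule.Quotient.mk (σ₁ g x, (0 : P₂)) : (P₁ × P₂) ⧸ W) =
        Submodule.Quotient.mk (σ₁ g x, σ₂ g 0)
      rw [map_zero]
    · intro g t
      obtain ⟨z, rfl⟩ := Submodule.Quotient.mk_surjective _ t
      rw [hσM, hπF, hπF]
      exact hπ₂' g z.2
    · rw [injective_iff_map_eq_zero]
      intro x hx
      rw [hj₁] at hx
      obtain ⟨q, hq⟩ := hmk0 _ hx
      rw [hd] at hq
      have hq1 : i₁ q = x := congrArg Prod.fst hq
      have hq2 : -i₂ q = 0 := congrArg Prod.snd hq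
      have hq0 : q = 0 := by
        apply hinj₂
        rw [map_zero]
        exact neg_eq_zero.1 hq2
      rw [← hq1, hq0, map_zero]
    · intro f
      obtain ⟨y, hy⟩ := hsurj₂ f
      exact ⟨Submodule.Quotient.mk (0, y), by rw [hπF]; exact hy⟩
    · ext t
      obtain ⟨⟨x, y⟩, rfl⟩ := Submodule.Quotient.mk_surjective _ t
      constructor
      · rintro ⟨x', hx'⟩
        rw [← hx', LinearMap.mem_ker, hj₁, hπF]
        exact map_zero _
      · intro ht
        rw [LinearMap.mem_ker, hπF] at ht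
        have h3 : y ∈ LinearMap.range i₂ := by
          rw [hex₂]
          exact LinearMap.mem_ker.2 ht
        obtain ⟨q, rfl⟩ := h3
        refine ⟨x + i₁ q, ?_⟩
        rw [hj₁]
        apply hmkeq
        refine ⟨q, ?_⟩
        rw [hd]
        exact Prod.ext (by show i₁ q = x + i₁ q - x; abel) (by show -i₂ q = 0 - i₂ q; abel)
  refine ⟨P₂, iP₂, (P₁ × P₂) ⧸ W, inferInstance, fP₂, frP₂, inferInstance, inferInstance,
    σ₂, σM, j₂, πA, ?_, ?_, ?_, ?_, ?_, hperm₂, hflM⟩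
  · intro g y
    rw [hj₂, hj₂, hσM]
    show (Submodule.Quotient.mk ((0 : P₁), σ₂ g y) : (P₁ × P₂) ⧸ W) =
      Submodule.Quotient.mk (σ₁ g 0, σ₂ g y)
    rw [map_zero]
  · intro g t
    obtain ⟨z, rfl⟩ := Submodule.Quotient.mk_surjective _ t
    rw [hσM, hπA, hπA]
    exact hπ₁' g z.1
  · rw [injective_iff_map_eq_zero]
    intro y hy
    rw [hj₂] at hy
    obtain ⟨q, hq⟩ := hmk0 _ hy
    rw [hd] at hq
    have hq1 : i₁ q = 0 := congrArg Prod.fst hq
    have hq2 : -i₂ q = y := congrArg Prod.snd hq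
    have hq0 : q = 0 := by
      apply hinj₁
      rw [map_zero]
      exact hq1
    rw [← hq2, hq0, map_zero, neg_zero]
  · intro a
    obtain ⟨x, hx⟩ := hsurj₁ a
    exact ⟨Submodule.Quotient.mk (x, 0), by rw [hπA]; exact hx⟩
  · ext t
    obtain ⟨⟨x, y⟩, rfl⟩ := Submodule.Quotient.mk_surjective _ t
    constructor
    · rintro ⟨y', hy'⟩
      rw [← hy', LinearMap.mem_ker, hj₂, hπA]
      exact map_zero _
    · intro ht
      rw [LinearMap.mem_ker, hπA] at ht
      have h3 : x ∈ LinearMap.range i₁ := by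
        rw [hex₁]
        exact LinearMap.mem_ker.2 ht
      obtain ⟨q, rfl⟩ := h3
      refine ⟨y + i₂ q, ?_⟩
      rw [hj₂]
      apply hmkeq
      refine ⟨-q, ?_⟩
      rw [hd, map_neg, map_neg, neg_neg]
      exact Prod.ext (by show -i₁ q = 0 - i₁ q; abel) (by show i₂ q = y + i₂ q - y; abel)

end final

end H12FL2
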