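import Groth.Prelude.Def_LambdaRing
import Groth.Agent.Lib.helper5.Lambda
import Mathlib.RingTheory.MvPolynomial.Symmetric.Defs
import Mathlib.Tactic

/-! helper12: elementary symmetric functions of multisets of line elements. -/

set_option autoImplicit false
universe u

namespace Groth.Agent.H12LamInv

open Multiset

section esymm

variable {R : Type u} [CommRing R]

lemma esymm_zero' (s : Multiset R) : s.esymm 0 = 1 := by
  simp [Multiset.esymm, Multiset.powersetCard_zero_left]

lemma esymm_cons (a : R) (s : Multiset R) (n : ℕ) :
    (a ::ₘ s).esymm (n + 1) = s.esymm (n + 1) + a * s.esymm n := by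
  simp only [Multiset.esymm, Multiset.powersetCard_cons, Multiset.map_add, Multiset.sum_add,
    Multiset.map_map, Function.comp_def, Multiset.prod_cons]
  rw [Multiset.sum_map_mul_left]

lemma esymm_of_card_lt (s : Multiset R) {n : ℕ} (h : Multiset.card s < n) : s.esymm n = 0 := by
  simp [Multiset.esymm, Multiset.powersetCard_eq_empty n h]

lemma esymm_card (s : Multiset R) : s.esymm (Multiset.card s) = s.prod := by
  induction s using Multiset.induction_on with
  | empty => simp [esymm_zero']
  | cons a t ih =>
    rw [Multiset.card_cons, esymm_cons, ih, esymm_of_card_lt t (Nat.lt_succ_self _),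
      Multiset.prod_cons, zero_add]

/-- the key duality: `e_{m-i}(u⁻¹) · ∏ u = e_i(u)` -/
lemma esymm_inv (s : Multiset R) (g : R → R) (hg : ∀ u ∈ s, g u * u = 1) :
    ∀ i, i ≤ Multiset.card s → (s.map g).esymm (Multiset.card s - i) * s.prod = s.esymm i := by
  induction s using Multiset.induction_on with
  | empty =>
    intro i hi
    have : i = 0 := by simpa using hi
    subst this
    simp [esymm_zero']
  | cons u t ih =>
    have hgu : g u * u = 1 := hg u (Multiset.mem_cons_self u t)
    have ih' := ih fun v hv => hg v (Multiset.mem_cons_of_mem hv)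
    intro i hi
    rw [Multiset.card_cons] at hi ⊢
    rw [Multiset.map_cons, Multiset.prod_cons]
    rcases i with _ | j
    · rw [Nat.sub_zero, esymm_cons, esymm_of_card_lt _ (by simp), zero_add, esymm_zero']
      have h0 := ih' 0 (Nat.zero_le _)
      rw [Nat.sub_zero, esymm_zero'] at h0
      calc g u * (t.map g).esymm (Multiset.card t) * (u * t.prod)
          = (g u * u) * ((t.map g).esymm (Multiset.card t) * t.prod) := by ring
        _ = 1 := by rw [hgu, h0, one_mul]
    · have hj : j ≤ Multiset.card t := Nat.le_of_succ_le_succ hi
      rw [Nat.succ_sub_succ, esymm_cons]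
      have h1 := ih' j hj
      rcases hk : Multiset.card t - j with _ | k
      · have hjn : j = Multiset.card t := by omega
        rw [esymm_zero', one_mul, esymm_of_card_lt t (by omega), zero_add, hjn, esymm_card]
      · rw [hk] at h1
        have h2 := ih' (j + 1) (by omega)
        have hk' : Multiset.card t - (j + 1) = k := by omega
        rw [hk'] at h2
        rw [esymm_cons, ← h1, ← h2]
        calc ((t.map g).esymm (k + 1) + g u * (t.map g).esymm k) * (u * t.prod)
            = u * ((t.map g).esymm (k + 1) * t.prod) + (g u * u) * ((t.map g).esymm k * t.prod) := by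
              ring
          _ = (t.map g).esymm k * t.prod + u * ((t.map g).esymm (k + 1) * t.prod) := by
              rw [hgu]; ring

end esymm

section lam

open LambdaRing

variable {K : Type u} [CommRing K] [LambdaOps K]

/-- `λ^i` of a sum of line elements is the `i`-th elementary symmetric function. -/
theorem lam_sum_lines (P : PosStructure K) (s : Multiset K) (hs : ∀ u ∈ s, P.IsLine u) (i : ℕ) :
    LambdaOps.lam i s.sum = s.esymm i := by
  induction s using Multiset.induction_on generalizing i with
  | empty =>
    rw [Multiset.sum_zero, Groth.Agent.H5.Lambda.lam_zero_elt]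
    rcases i with _ | i
    · simp [esymm_zero']
    · rw [esymm_of_card_lt _ (by simp)]; simp
  | cons u t ih =>
    have hu : P.IsLine u := hs u (Multiset.mem_cons_self u t)
    have ht : ∀ v ∈ t, P.IsLine v := fun v hv => hs v (Multiset.mem_cons_of_mem hv)
    rw [Multiset.sum_cons]
    rcases i with _ | i
    · rw [LambdaOps.lam_zero, esymm_zero']
    · rw [Groth.Agent.H5.Lambda.lam_line_add P hu, ih ht, ih ht, esymm_cons]

end lam

end Groth.Agent.H12LamInv
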