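import Groth.Agent.S3290
import Groth.Agent.Lib.helper12.LamInv
import Mathlib.Tactic

/-! helper12: top γ-operation of `e - ε(e)` and compatibility of γ with λ-homomorphisms. -/

set_option autoImplicit false
universe u

namespace Groth.Agent.H12GammaTop

open LambdaRing Finset

variable {K : Type u} [CommRing K] [LambdaOps K]

/-- `γ^m(e − m) = Σ_{i ≤ m} λ^i(e) (−1)^{m−i}` for a positive element `e` of augmentation `m`. -/
theorem gamma_top (P : PosStructure K) (e : K) (he : e ∈ P.pos) :
    gamma (P.aug e).toNat (e - ((P.aug e).toNat : K)) =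
      ∑ i ∈ range ((P.aug e).toNat + 1), LambdaOps.lam i e * (-1 : K) ^ ((P.aug e).toNat - i) := by
  set m := (P.aug e).toNat with hm
  have h1 := Groth.Agent.S3290.result K P e he
  rw [← hm] at h1
  have h2 := congrArg (Polynomial.eval 0) h1
  simp only [Polynomial.eval_finsetSum, Polynomial.eval_mul, Polynomial.eval_C, Polynomial.eval_pow,
    Polynomial.eval_X, Polynomial.eval_sub, Polynomial.eval_one, zero_sub] at h2
  have h3 : ∑ i ∈ range (m + 1), gamma i (e - (m : K)) * (0 : K) ^ (m - i) =
      gamma m (e - (m : K)) := by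
    rw [Finset.sum_range_succ, Nat.sub_self, pow_zero, mul_one, Finset.sum_eq_zero, zero_add]
    intro i hi
    have : m - i ≠ 0 := by have := Finset.mem_range.1 hi; omega
    rw [zero_pow this, mul_zero]
  rw [h3] at h2
  exact h2

/-- `λ_{-1}(e) = (−1)^m γ^m(e − m)`. -/
theorem lamAlt_eq (P : PosStructure K) (e : K) (he : e ∈ P.pos) :
    ∑ i ∈ range ((P.aug e).toNat + 1), (-1 : K) ^ i * LambdaOps.lam i e =
      (-1 : K) ^ (P.aug e).toNat * gamma (P.aug e).toNat (e - ((P.aug e).toNat : K)) := by
  rw [gamma_top P e he, Finset.mul_sum]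
  refine Finset.sum_congr rfl fun i hi => ?_
  have hi' : i ≤ (P.aug e).toNat := Nat.lt_succ_iff.1 (Finset.mem_range.1 hi)
  have : (-1 : K) ^ (P.aug e).toNat = (-1) ^ i * (-1) ^ ((P.aug e).toNat - i) := by
    rw [← pow_add]; congr 1; omega
  rw [this]
  have h2 : ((-1 : K) ^ ((P.aug e).toNat - i)) * ((-1 : K) ^ ((P.aug e).toNat - i)) = 1 := by
    rw [← mul_pow]; simp
  calc (-1 : K) ^ i * LambdaOps.lam i e
      = (-1 : K) ^ i * LambdaOps.lam i e * (((-1 : K) ^ ((P.aug e).toNat - i)) *
          ((-1 : K) ^ ((P.aug e).toNat - i))) := by rw [h2, mul_one]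
    _ = _ := by ring

/-- γ-operations commute with λ-homomorphisms. -/
theorem map_gamma {K' : Type u} [CommRing K'] [LambdaOps K'] (f : K →+* K') (hf : IsLambdaHom f)
    (k : ℕ) (x : K) : f (gamma k x) = gamma k (f x) := by
  unfold gamma
  split_ifs with hk
  · exact map_one f
  · rw [map_sum]
    refine Finset.sum_congr rfl fun j _ => ?_
    rw [map_mul, map_natCast]
    split_ifs with hj
    · rw [map_zero]
    · rw [hf j x]

theorem gamma_one (x : K) : gamma 1 x = x := by
  simp [gamma, Finset.sum_range_succ, LambdaOps.lam_one]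

/-- a single `γ^r(x)` with `ε(x) = 0` lies in `F^r`. -/
theorem gamma_mem_gammaFiltration (P : PosStructure K) (r : ℕ) (x : K) (hx : P.aug x = 0) :
    gamma r x ∈ gammaFiltration P r := by
  unfold gammaFiltration
  split_ifs with hr
  · exact AddSubgroup.mem_top _
  · apply AddSubgroup.subset_closure
    exact ⟨[(r, x)], by simpa using hx, by simp, by simp⟩

end Groth.Agent.H12GammaTop
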