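import Mathlib
import Groth.Agent.Lib.helper12.GrHopf2

/-!
helper12: ring-base versions of some lemmas of `GrHopf`/`GrHopf2` (augmented algebras over a
commutative ring), and the structure of height `≤ 1` Hopf algebras over a local ring.
-/

set_option autoImplicit false
set_option linter.unusedSectionVars false
set_option linter.style.haveILetI false
universe u v w

open TensorProduct IsLocalRing

namespace Groth.Agent.H12GRR

section basic
variable (R : Type u) [CommRing R] (A : Type v) [CommRing A] [Bialgebra R A]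

/-- the augmentation ideal -/
abbrev augI : Ideal A := RingHom.ker (Bialgebra.counitAlgHom R A)

variable {R A}

lemma mem_augI {a : A} : a ∈ augI R A ↔ CoalgebraStruct.counit (R := R) a = 0 := by
  rw [augI, RingHom.mem_ker]
  rfl

lemma sub_counit_mem (a : A) :
    a - algebraMap R A (CoalgebraStruct.counit (R := R) a) ∈ augI R A := by
  rw [mem_augI, map_sub, Bialgebra.counit_algebraMap, sub_self]

lemma aeval_monomial_mem_pow {ι : Type*} (x : ι → A) (J : Ideal A) (hx : ∀ i, x i ∈ J)
    (d : ι →₀ ℕ) (c : R) :
    MvPolynomial.aeval x (MvPolynomial.monomial d c) ∈ J ^ d.degree := by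
  rw [MvPolynomial.aeval_monomial]
  refine Ideal.mul_mem_left _ _ ?_
  rw [Finsupp.prod, Finsupp.degree_apply, ← Finset.prod_pow_eq_pow_sum]
  exact Ideal.prod_mem_prod fun i _ => Ideal.pow_mem_pow (hx i) _

lemma aeval_mem_pow {ι : Type*} (x : ι → A) (J : Ideal A) (hx : ∀ i, x i ∈ J) {n : ℕ}
    {P : MvPolynomial ι R} (hP : P.IsHomogeneous n) : MvPolynomial.aeval x P ∈ J ^ n := by
  rw [P.as_sum, map_sum]
  refine Ideal.sum_mem _ fun d hd => ?_
  have hdeg : d.degree = n := by
    rw [Finsupp.degree_eq_weight_one]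
    exact hP (MvPolynomial.mem_support_iff.1 hd)
  rw [← hdeg]
  exact aeval_monomial_mem_pow x J hx d _

/-- monomials of degree `n` in generators span `I^n` modulo `I^(n+1)`. -/
theorem exists_homogeneous_sub_mem {ι : Type*} [Fintype ι] (x : ι → A)
    (hx : ∀ i, x i ∈ augI R A)
    (hspan : ∀ a ∈ augI R A, ∃ c : ι → R, a - ∑ i, c i • x i ∈ augI R A ^ 2) (n : ℕ) (a : A)
    (ha : a ∈ augI R A ^ n) :
    ∃ P : MvPolynomial ι R, P.IsHomogeneous n ∧
      a - MvPolynomial.aeval x P ∈ augI R A ^ (n + 1) := by
  induction n generalizing a with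
  | zero =>
    refine ⟨MvPolynomial.C (CoalgebraStruct.counit (R := R) a), MvPolynomial.isHomogeneous_C _ _, ?_⟩
    rw [zero_add, pow_one, MvPolynomial.aeval_C]
    exact sub_counit_mem a
  | succ n ih =>
    rw [pow_succ] at ha
    refine Submodule.mul_induction_on ha ?_ ?_
    · intro b hb c hc
      obtain ⟨P, hP, hbP⟩ := ih b hb
      obtain ⟨e, he⟩ := hspan c hc
      refine ⟨P * ∑ i, MvPolynomial.C (e i) * MvPolynomial.X i, ?_, ?_⟩
      · refine hP.mul (MvPolynomial.IsHomogeneous.sum _ _ _ fun i _ => ?_)
        have := (MvPolynomial.isHomogeneous_C ι (e i)).mul (MvPolynomial.isHomogeneous_X R i)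
        simpa using this
      · have h1 : MvPolynomial.aeval x (P * ∑ i, MvPolynomial.C (e i) * MvPolynomial.X i) =
            MvPolynomial.aeval x P * ∑ i, e i • x i := by
          rw [map_mul, map_sum]
          congr 1
          refine Finset.sum_congr rfl fun i _ => ?_
          rw [map_mul, MvPolynomial.aeval_C, MvPolynomial.aeval_X, Algebra.smul_def]
        have h2 : b * c - MvPolynomial.aeval x P * ∑ i, e i • x i =
            (b - MvPolynomial.aeval x P) * c +
              MvPolynomial.aeval x P * (c - ∑ i, e i • x i) := by ring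
        rw [h1, h2]
        refine Ideal.add_mem _ ?_ ?_
        · rw [pow_succ]
          exact Ideal.mul_mem_mul hbP hc
        · have h3 : augI R A ^ (n + 1 + 1) = augI R A ^ n * augI R A ^ 2 := by
            rw [← pow_add]
          rw [h3]
          exact Ideal.mul_mem_mul (aeval_mem_pow x _ hx hP) he
    · rintro b c ⟨P, hP, hbP⟩ ⟨Q, hQ, hcQ⟩
      refine ⟨P + Q, hP.add hQ, ?_⟩
      rw [map_add, add_sub_add_comm]
      exact Ideal.add_mem _ hbP hcQ

/-- generators of the augmentation ideal modulo its square generate `A` as an algebra when the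
augmentation ideal is nilpotent. -/
theorem aeval_surjective_of_pow_eq_bot {ι : Type*} [Fintype ι] (x : ι → A)
    (hx : ∀ i, x i ∈ augI R A)
    (hspan : ∀ a ∈ augI R A, ∃ c : ι → R, a - ∑ i, c i • x i ∈ augI R A ^ 2) (N : ℕ)
    (hN : augI R A ^ N = ⊥) : Function.Surjective (MvPolynomial.aeval (R := R) x) := by
  have key : ∀ m, ∀ a ∈ augI R A ^ (N - m), a ∈ (MvPolynomial.aeval (R := R) x).range := by
    intro m
    induction m with
    | zero =>
      intro a ha
      rw [Nat.sub_zero, hN, Ideal.mem_bot] at ha
      rw [ha]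
      exact Subalgebra.zero_mem _
    | succ m ih =>
      intro a ha
      by_cases hm : N - m = 0
      · apply ih
        have : N - (m + 1) = 0 := by omega
        rw [hm]
        rw [this] at ha
        exact ha
      · obtain ⟨P, hP, haP⟩ := exists_homogeneous_sub_mem x hx hspan (N - (m + 1)) a ha
        rw [show N - (m + 1) + 1 = N - m by omega] at haP
        have h1 := ih _ haP
        have h2 : a = (a - MvPolynomial.aeval x P) + MvPolynomial.aeval x P := by ring
        rw [h2]
        exact Subalgebra.add_mem _ h1 ⟨P, rfl⟩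
  intro a
  have := key N a (by rw [Nat.sub_self, pow_zero, Ideal.one_eq_top]; trivial)
  exact this

/-- ideal generators of the augmentation ideal satisfy the spanning hypothesis. -/
lemma hspan_of_span_eq {ι : Type*} [Fintype ι] (x : ι → A)
    (hgen : Ideal.span (Set.range x) = augI R A) :
    ∀ a ∈ augI R A, ∃ c : ι → R, a - ∑ i, c i • x i ∈ augI R A ^ 2 := by
  intro a ha
  rw [← hgen] at ha
  obtain ⟨c, rfl⟩ := (Ideal.mem_span_range_iff_exists_fun).1 ha
  refine ⟨fun i => CoalgebraStruct.counit (R := R) (c i), ?_⟩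
  rw [← Finset.sum_sub_distrib]
  refine Ideal.sum_mem _ fun i _ => ?_
  have hxi : x i ∈ augI R A := by
    rw [← hgen]
    exact Ideal.subset_span ⟨i, rfl⟩
  have : c i * x i - CoalgebraStruct.counit (R := R) (c i) • x i =
      (c i - algebraMap R A (CoalgebraStruct.counit (R := R) (c i))) * x i := by
    rw [Algebra.smul_def]
    ring
  rw [this, pow_two]
  exact Ideal.mul_mem_mul (sub_counit_mem _) hxi

end basic

section redmon
variable {R : Type u} [CommRing R] (p : ℕ) [Fact p.Prime]

lemma aeval_mem_span_redMon {S : Type*} [CommRing S] [Algebra R S] {ι : Type*} [Fintype ι]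
    (y : ι → S) (hy : ∀ i, y i ^ p = 0) (P : MvPolynomial ι R) :
    MvPolynomial.aeval y P ∈ Submodule.span R (Set.range (H12GR.redMon p y)) := by
  classical
  rw [P.as_sum, map_sum]
  refine Submodule.sum_mem _ fun d _ => ?_
  rw [MvPolynomial.aeval_monomial, ← Algebra.smul_def, Finsupp.prod_fintype _ _ (fun i => pow_zero _)]
  refine Submodule.smul_mem _ _ ?_
  by_cases h : ∀ i, d i < p
  · refine Submodule.subset_span ⟨fun i => ⟨d i, h i⟩, rfl⟩
  · push Not at h
    obtain ⟨i, hi⟩ := h
    rw [Finset.prod_eq_zero (Finset.mem_univ i)]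
    · exact Submodule.zero_mem _
    · rw [← Nat.sub_add_cancel hi, pow_add, hy, mul_zero]

end redmon

section finite
variable {R : Type u} [CommRing R] (p : ℕ) [Fact p.Prime] {A : Type v} [CommRing A] [Bialgebra R A]

/-- a height `≤ 1` bialgebra with finitely generated augmentation ideal is a finite module, and
its augmentation ideal is nilpotent. -/
theorem finite_of_height_le_one (hfg : (augI R A).FG)
    (h1 : ∀ a : A, a ∈ augI R A → a ^ p = 0) :
    Module.Finite R A ∧ ∃ N, augI R A ^ N = ⊥ := by
  classical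
  have hnil : augI R A ≤ nilradical A := fun a ha => ⟨p, h1 a ha⟩
  obtain ⟨N, hN⟩ := hfg.isNilpotent_iff_le_nilradical.2 hnil
  refine ⟨?_, N, hN⟩
  obtain ⟨m, g, hg⟩ := Submodule.fg_iff_exists_fin_generating_family.1 hfg
  have hgI : ∀ i, g i ∈ augI R A := fun i => by
    rw [← hg]
    exact Submodule.subset_span ⟨i, rfl⟩
  have hsurj := aeval_surjective_of_pow_eq_bot g hgI (hspan_of_span_eq g hg) N hN
  rw [Module.finite_def]
  have : (⊤ : Submodule R A) = Submodule.span R (Set.range (H12GR.redMon p g)) := by
    rw [eq_comm, eq_top_iff]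
    intro a _
    obtain ⟨P, rfl⟩ := hsurj a
    exact aeval_mem_span_redMon p g (fun i => h1 _ (hgI i)) P
  rw [this]
  exact Submodule.fg_span (Set.finite_range _)

end finite

section loc
variable (p : ℕ) [Fact p.Prime] {R : Type u} [CommRing R] [IsLocalRing R] [CharP R p]
  {A : Type u} [CommRing A] [Bialgebra R A]

lemma charP_residueField : CharP (ResidueField R) p := by
  have hp : p.Prime := Fact.out
  obtain ⟨q, hq⟩ := CharP.exists (ResidueField R)
  have h0 : ((p : ℕ) : ResidueField R) = 0 := by
    have : ((p : ℕ) : ResidueField R) = algebraMap R (ResidueField R) ((p : ℕ) : R) :=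
      (map_natCast _ p).symm
    rw [this, CharP.cast_eq_zero, map_zero]
  have hdvd : q ∣ p := (CharP.cast_eq_zero_iff (ResidueField R) q p).1 h0
  rcases CharP.char_is_prime_or_zero (ResidueField R) q with hq' | hq'
  · have : q = p := (Nat.prime_dvd_prime_iff_eq hq' hp).1 hdvd
    rw [← this]; exact hq
  · rw [hq', zero_dvd_iff] at hdvd
    exact absurd hdvd hp.ne_zero

noncomputable example : Bialgebra (ResidueField R) (ResidueField R ⊗[R] A) := inferInstance

lemma counit_one_tmul (a : A) :
    CoalgebraStruct.counit (R := ResidueField R) ((1 : ResidueField R) ⊗ₜ[R] a) =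
      algebraMap R (ResidueField R) (CoalgebraStruct.counit (R := R) a) := by
  rw [TensorProduct.counit_tmul, Algebra.algebraMap_eq_smul_one]
  rfl

lemma exists_lift_of_mem_augI (b : ResidueField R ⊗[R] A)
    (hb : b ∈ H12GR.augI (ResidueField R) (ResidueField R ⊗[R] A)) :
    ∃ a ∈ augI R A, b = (1 : ResidueField R) ⊗ₜ[R] a := by
  obtain ⟨a0, rfl⟩ := TensorProduct.mk_surjective R A (ResidueField R)
    (IsLocalRing.residue_surjective) b
  refine ⟨a0 - algebraMap R A (CoalgebraStruct.counit (R := R) a0), sub_counit_mem a0, ?_⟩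
  rw [H12GR.mem_augI] at hb
  have hb' : algebraMap R (ResidueField R) (CoalgebraStruct.counit (R := R) a0) = 0 := by
    rw [← counit_one_tmul]; exact hb
  rw [TensorProduct.tmul_sub, Algebra.algebraMap_eq_smul_one, ← TensorProduct.smul_tmul,
    ← Algebra.algebraMap_eq_smul_one, hb', TensorProduct.zero_tmul, sub_zero]
  rfl

theorem nonempty_algEquiv_of_basis {R : Type u} [CommRing R] {A : Type v} [CommRing A] [Algebra R A]
    {d : ℕ} (x : Fin d → A) (hxp : ∀ i, x i ^ p = 0)
    (hli : LinearIndependent R (H12GR.redMon p x))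
    (hsurj : Function.Surjective (MvPolynomial.aeval (R := R) x)) :
    Nonempty (A ≃ₐ[R] (MvPolynomial (Fin d) R ⧸
      Ideal.span (Set.range fun i : Fin d => (MvPolynomial.X i : MvPolynomial (Fin d) R) ^ p))) := by
  classical
  -- the comparison map
  set K : Ideal (MvPolynomial (Fin d) R) := Ideal.span (Set.range fun i : Fin d =>
      (MvPolynomial.X i : MvPolynomial (Fin d) R) ^ p) with hK
  have hφK : ∀ a ∈ K, MvPolynomial.aeval (R := R) x a = 0 := by
    intro a ha
    have hle : K ≤ RingHom.ker (MvPolynomial.aeval (R := R) x : MvPolynomial (Fin d) R →+* A) := by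
      rw [hK, Ideal.span_le]
      rintro _ ⟨i, rfl⟩
      show MvPolynomial.aeval (R := R) x (MvPolynomial.X i ^ p) = 0
      rw [map_pow, MvPolynomial.aeval_X, hxp]
    exact hle ha
  let ψ : (MvPolynomial (Fin d) R ⧸ K) →ₐ[R] A := Ideal.Quotient.liftₐ K (MvPolynomial.aeval x) hφK
  have hψsurj : Function.Surjective ψ := by
    intro a
    obtain ⟨P, rfl⟩ := hsurj a
    exact ⟨Ideal.Quotient.mk K P, rfl⟩
  have hψred : ∀ e : Fin d → Fin p,
      ψ (H12GR.redMon p (fun i => Ideal.Quotient.mk K (MvPolynomial.X i)) e) =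
        H12GR.redMon p x e := by
    intro e
    simp only [H12GR.redMon, map_prod, map_pow]
    refine Finset.prod_congr rfl fun i _ => ?_
    congr 1
    show MvPolynomial.aeval (R := R) x (MvPolynomial.X i) = x i
    rw [MvPolynomial.aeval_X]
  have hψinj : Function.Injective ψ := by
    rw [injective_iff_map_eq_zero]
    intro t ht
    obtain ⟨P, rfl⟩ := Ideal.Quotient.mk_surjective t
    have h2 := MvPolynomial.comp_aeval_apply
      (f := (MvPolynomial.X : Fin d → MvPolynomial (Fin d) R)) (Ideal.Quotient.mkₐ R K) P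
    rw [MvPolynomial.aeval_X_left_apply] at h2
    have h3 : Ideal.Quotient.mk K P = MvPolynomial.aeval
        (fun i : Fin d => Ideal.Quotient.mk K (MvPolynomial.X i)) P := h2
    have h4 := aeval_mem_span_redMon (R := R) p
      (fun i : Fin d => Ideal.Quotient.mk K (MvPolynomial.X i))
      (fun i => by
        rw [← map_pow, Ideal.Quotient.eq_zero_iff_mem]
        exact Ideal.subset_span ⟨i, rfl⟩) P
    rw [← h3] at h4
    obtain ⟨c, hc⟩ := (Submodule.mem_span_range_iff_exists_fun R).1 h4
    rw [← hc, map_sum] at ht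
    simp only [map_smul, hψred] at ht
    have hc0 := (Fintype.linearIndependent_iff.1 hli) c ht
    rw [← hc]
    exact Finset.sum_eq_zero fun e _ => by rw [hc0 e, zero_smul]
  exact ⟨(AlgEquiv.ofBijective ψ ⟨hψinj, hψsurj⟩).symm⟩

theorem nonempty_algEquiv_truncated_of_local [Algebra.FinitePresentation R A] [Module.Flat R A]
    (h1 : ∀ a : A, a ∈ augI R A → a ^ p = 0) :
    ∃ n : ℕ, Nonempty (A ≃ₐ[R] (MvPolynomial (Fin n) R ⧸
      Ideal.span (Set.range fun i : Fin n => (MvPolynomial.X i : MvPolynomial (Fin n) R) ^ p))) := by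
  classical
  have hp : p.Prime := Fact.out
  haveI := charP_residueField (R := R) p
  -- Step A : finiteness
  have hfgA : (augI R A).FG :=
    Algebra.FinitePresentation.ker_fG_of_surjective (Bialgebra.counitAlgHom R A) (by
      intro r
      exact ⟨algebraMap R A r, Bialgebra.counit_algebraMap r⟩)
  obtain ⟨hfinA, NA, hNA⟩ := finite_of_height_le_one p hfgA h1
  -- Step B : the closed fibre
  haveI : IsNoetherianRing (ResidueField R ⊗[R] A) :=
    Algebra.FiniteType.isNoetherianRing (ResidueField R) (ResidueField R ⊗[R] A)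
  have hfgB : (H12GR.augI (ResidueField R) (ResidueField R ⊗[R] A)).FG := IsNoetherian.noetherian _
  haveI : Module.Finite (ResidueField R)
      (H12GR.augI (ResidueField R) (ResidueField R ⊗[R] A)).Cotangent :=
    H12GR.finite_cotangent hfgB
  have h1B : ∀ b ∈ H12GR.augI (ResidueField R) (ResidueField R ⊗[R] A), b ^ p = 0 := by
    intro b hb
    obtain ⟨a, ha, rfl⟩ := exists_lift_of_mem_augI b hb
    rw [Algebra.TensorProduct.tmul_pow, one_pow, h1 a ha, tmul_zero]
  obtain ⟨NB, hNB⟩ : ∃ N, H12GR.augI (ResidueField R) (ResidueField R ⊗[R] A) ^ N = ⊥ :=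
    hfgB.isNilpotent_iff_le_nilradical.2 (fun b hb => ⟨p, h1B b hb⟩)
  obtain ⟨y, ξ, hy, hξ, hdual, hspanB⟩ :=
    H12GR.exists_dual_system (k := ResidueField R) (A := ResidueField R ⊗[R] A)
  choose x hxI hxy using fun i => exists_lift_of_mem_augI (y i) (hy i)
  refine ⟨Module.finrank (ResidueField R)
    (H12GR.augI (ResidueField R) (ResidueField R ⊗[R] A)).Cotangent, ?_⟩
  -- linear independence of the reduced monomials
  have hli0 := H12GR.linearIndependent_redMon p y hy ξ hξ hdual
  have hli1 : LinearIndependent (ResidueField R) (H12GR.redMon p y) :=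
    LinearIndependent.of_comp (Ideal.Quotient.mkₐ (ResidueField R)
      (H12GR.frobI (ResidueField R) p (ResidueField R ⊗[R] A))).toLinearMap hli0
  have hred : ∀ e, H12GR.redMon p y e = (1 : ResidueField R) ⊗ₜ[R] H12GR.redMon p x e := by
    intro e
    have h := map_prod (Algebra.TensorProduct.includeRight : A →ₐ[R] ResidueField R ⊗[R] A)
      (fun i => x i ^ (e i : ℕ)) Finset.univ
    simp only [map_pow, Algebra.TensorProduct.includeRight_apply] at h
    simp only [H12GR.redMon, hxy]
    exact h.symm
  have hli2 : LinearIndependent (ResidueField R)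
      (TensorProduct.mk R (ResidueField R) A 1 ∘ H12GR.redMon p x) := by
    convert hli1 using 1
    funext e
    exact (hred e).symm
  have hli : LinearIndependent R (H12GR.redMon p x) :=
    Module.IsLocalRing.linearIndependent_of_flat _ hli2
  -- surjectivity
  have hsurjB := H12GR.aeval_surjective_of_pow_eq_bot y hy hspanB NB hNB
  have hsurj : Function.Surjective (MvPolynomial.aeval (R := R) x) := by
    have hle : (⊤ : Submodule R A) ≤ Subalgebra.toSubmodule (MvPolynomial.aeval (R := R) x).range ⊔
        maximalIdeal R • (⊤ : Submodule R A) := by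
      intro a _
      obtain ⟨Pbar, hPbar⟩ := hsurjB ((1 : ResidueField R) ⊗ₜ[R] a)
      obtain ⟨P, rfl⟩ := MvPolynomial.map_surjective (algebraMap R (ResidueField R))
        (IsLocalRing.residue_surjective) Pbar
      have h2 : MvPolynomial.aeval y (MvPolynomial.map (algebraMap R (ResidueField R)) P) =
          (1 : ResidueField R) ⊗ₜ[R] MvPolynomial.aeval x P := by
        rw [MvPolynomial.aeval_map_algebraMap]
        have hyx : y = fun i =>
            (Algebra.TensorProduct.includeRight : A →ₐ[R] ResidueField R ⊗[R] A) (x i) :=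
          funext hxy
        rw [hyx, ← MvPolynomial.comp_aeval_apply]
        rfl
      have h3' : (TensorProduct.mk R (ResidueField R) A 1) (a - MvPolynomial.aeval x P) = 0 := by
        rw [map_sub, TensorProduct.mk_apply, TensorProduct.mk_apply, ← h2, hPbar, sub_self]
      have h3 : a - MvPolynomial.aeval x P ∈ maximalIdeal R • (⊤ : Submodule R A) := by
        have hk := LinearMap.ker_tensorProductMk (R := R) (Q := A) (I := maximalIdeal R)
        rw [← hk]
        exact h3'
      have : a = MvPolynomial.aeval x P + (a - MvPolynomial.aeval x P) := by ring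
      rw [this]
      exact Submodule.add_mem_sup ⟨P, rfl⟩ h3
    have hJ : maximalIdeal R ≤ Ideal.jacobson ⊥ := by
      rw [IsLocalRing.jacobson_eq_maximalIdeal ⊥ bot_ne_top]
    have htop := Submodule.le_of_le_smul_of_le_jacobson_bot (Module.finite_def.1 hfinA) hJ hle
    intro a
    exact htop (Submodule.mem_top : a ∈ ⊤)
  exact nonempty_algEquiv_of_basis p x (fun i => h1 _ (hxI i)) hli hsurj

end loc

end Groth.Agent.H12GRR
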