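import Mathlib

set_option autoImplicit false
set_option linter.style.haveILetI false
set_option linter.unusedSectionVars false
universe u v w

namespace H12GJ

open DirectSum

section basics
variable {k : Type u} [Field k] {Λ : Type v} [AddCommGroup Λ] [DecidableEq Λ]
  {V : Type w} [AddCommGroup V] [Module k V]
  (𝒱 : Λ → Submodule k V) [DirectSum.Decomposition 𝒱]

/-- projection to the `μ`-component -/
noncomputable def proj (μ : Λ) : V →ₗ[k] V :=
  (𝒱 μ).subtype ∘ₗ (DirectSum.component k Λ (fun i => 𝒱 i) μ) ∘ₗ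
    (DirectSum.decomposeLinearEquiv 𝒱).toLinearMap

lemma proj_apply (μ : Λ) (v : V) : proj 𝒱 μ v = (DirectSum.decompose 𝒱 v μ : V) := rfl

lemma proj_mem (μ : Λ) (v : V) : proj 𝒱 μ v ∈ 𝒱 μ := by
  rw [proj_apply]; exact Submodule.coe_mem _

lemma proj_same {μ : Λ} {v : V} (hv : v ∈ 𝒱 μ) : proj 𝒱 μ v = v := by
  rw [proj_apply]; exact DirectSum.decompose_of_mem_same 𝒱 hv

lemma proj_ne {μ ν : Λ} {v : V} (hv : v ∈ 𝒱 μ) (h : μ ≠ ν) : proj 𝒱 ν v = 0 := by
  rw [proj_apply]; exact DirectSum.decompose_of_mem_ne 𝒱 hv h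

lemma sum_proj (v : V) : ∃ s : Finset Λ, v = ∑ μ ∈ s, proj 𝒱 μ v := by
  classical
  exact ⟨(DirectSum.decompose 𝒱 v).support, (DirectSum.sum_support_decompose 𝒱 v).symm⟩

lemma ext_hom {M : Type*} [AddCommGroup M] [Module k M] {f g : V →ₗ[k] M}
    (h : ∀ μ, ∀ v ∈ 𝒱 μ, f v = g v) : f = g := by
  apply LinearMap.ext
  intro v
  obtain ⟨s, hs⟩ := sum_proj 𝒱 v
  calc f v = f (∑ μ ∈ s, proj 𝒱 μ v) := congrArg f hs
    _ = ∑ μ ∈ s, f (proj 𝒱 μ v) := map_sum _ _ _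
    _ = ∑ μ ∈ s, g (proj 𝒱 μ v) :=
        Finset.sum_congr rfl (fun μ _ => h μ _ (proj_mem 𝒱 μ v))
    _ = g (∑ μ ∈ s, proj 𝒱 μ v) := (map_sum _ _ _).symm
    _ = g v := (congrArg g hs).symm

variable (A : Module.End k V) (χ : Λ)

lemma proj_A (hhom : ∀ (μ : Λ) (v : V), v ∈ 𝒱 μ → A v ∈ 𝒱 (μ + χ)) (ν : Λ) (w : V) :
    proj 𝒱 (ν + χ) (A w) = A (proj 𝒱 ν w) := by
  have h : proj 𝒱 (ν + χ) ∘ₗ A = A ∘ₗ proj 𝒱 ν := by
    apply ext_hom 𝒱
    intro μ v hv
    rw [LinearMap.comp_apply, LinearMap.comp_apply]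
    by_cases hμ : μ = ν
    · subst hμ
      rw [proj_same 𝒱 (hhom μ v hv), proj_same 𝒱 hv]
    · rw [proj_ne 𝒱 hv hμ, map_zero]
      exact proj_ne 𝒱 (hhom μ v hv) (fun h' => hμ (add_right_cancel h'))
  exact LinearMap.congr_fun h w

lemma Apow_mem (hhom : ∀ (μ : Λ) (v : V), v ∈ 𝒱 μ → A v ∈ 𝒱 (μ + χ)) (j : ℕ) (μ : Λ) (v : V)
    (hv : v ∈ 𝒱 μ) : (A ^ j) v ∈ 𝒱 (μ + j • χ) := by
  induction j with
  | zero => simpa using hv
  | succ j ih =>
    rw [pow_succ', Module.End.mul_apply, succ_nsmul, ← add_assoc]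
    exact hhom _ _ ih

lemma proj_Apow (hhom : ∀ (μ : Λ) (v : V), v ∈ 𝒱 μ → A v ∈ 𝒱 (μ + χ)) (j : ℕ) (ν : Λ) (w : V) :
    proj 𝒱 (ν + j • χ) ((A ^ j) w) = (A ^ j) (proj 𝒱 ν w) := by
  induction j with
  | zero => simp
  | succ j ih =>
    rw [pow_succ', Module.End.mul_apply, Module.End.mul_apply, succ_nsmul, ← add_assoc,
      proj_A 𝒱 A χ hhom, ih]

end basics

section concl
variable {k : Type u} [Field k] {Λ : Type v}
  {V : Type w} [AddCommGroup V] [Module k V]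
  (𝒱 : Λ → Submodule k V)

/-- existence of a homogeneous Jordan chain family spanning `W` -/
def Concl (A : Module.End k V) (W : Submodule k V) : Prop :=
  ∃ (ι : Type w) (_ : Finite ι) (n : ι → ℕ) (F : (Σ i : ι, Fin (n i + 1)) → V),
    LinearIndependent k F ∧ Submodule.span k (Set.range F) = W ∧
    (∀ p, ∃ μ : Λ, F p ∈ 𝒱 μ) ∧ (∀ i : ι, A (F ⟨i, 0⟩) = 0) ∧
    ∀ (i : ι) (l : Fin (n i)), A (F ⟨i, l.succ⟩) = F ⟨i, l.castSucc⟩

lemma concl_bot (A : Module.End k V) : Concl 𝒱 A ⊥ := by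
  refine ⟨PEmpty, inferInstance, fun i => i.elim, fun p => p.1.elim, ?_, ?_, ?_, ?_, ?_⟩
  · haveI : IsEmpty (Σ i : PEmpty.{w+1}, Fin ((fun i : PEmpty.{w+1} => (i.elim : ℕ)) i + 1)) :=
      ⟨fun p => p.1.elim⟩
    exact linearIndependent_empty_type
  · have : Set.range (fun p : (Σ i : PEmpty.{w+1}, Fin ((fun i : PEmpty.{w+1} => (i.elim : ℕ)) i + 1)) =>
        (p.1.elim : V)) = ∅ := by
      rw [Set.range_eq_empty_iff]
      exact ⟨fun p => p.1.elim⟩
    rw [this, Submodule.span_empty]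
  · intro p; exact p.1.elim
  · intro i; exact i.elim
  · intro i; exact i.elim

def nOpt {ι' : Type w} (m' : ℕ) (n' : ι' → ℕ) : Option ι' → ℕ := fun o => o.elim m' n'

def eOpt {ι' : Type w} (m' : ℕ) (n' : ι' → ℕ) :
    (Σ i : Option ι', Fin (nOpt m' n' i + 1)) ≃ (Fin (m' + 1) ⊕ (Σ i : ι', Fin (n' i + 1))) where
  toFun p := match p with
    | ⟨none, l⟩ => Sum.inl l
    | ⟨some i, l⟩ => Sum.inr ⟨i, l⟩
  invFun q := match q with
    | Sum.inl l => ⟨none, l⟩
    | Sum.inr ⟨i, l⟩ => ⟨some i, l⟩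
  left_inv := by rintro ⟨_ | i, l⟩ <;> rfl
  right_inv := by rintro (l | ⟨i, l⟩) <;> rfl

lemma combine (A : Module.End k V) {ι' : Type w} [Finite ι'] (m' : ℕ) (n' : ι' → ℕ)
    (f : Fin (m' + 1) → V) (F' : (Σ i : ι', Fin (n' i + 1)) → V) (W W' : Submodule k V)
    (hf : LinearIndependent k f) (hF' : LinearIndependent k F')
    (hW' : Submodule.span k (Set.range F') = W')
    (hdisj : Submodule.span k (Set.range f) ⊓ W' = ⊥)
    (hsup : Submodule.span k (Set.range f) ⊔ W' = W)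
    (hhomf : ∀ l, ∃ μ : Λ, f l ∈ 𝒱 μ) (hhomF' : ∀ p, ∃ μ : Λ, F' p ∈ 𝒱 μ)
    (hf0 : A (f 0) = 0) (hfs : ∀ l : Fin m', A (f l.succ) = f l.castSucc)
    (hF0 : ∀ i : ι', A (F' ⟨i, 0⟩) = 0)
    (hFs : ∀ (i : ι') (l : Fin (n' i)), A (F' ⟨i, l.succ⟩) = F' ⟨i, l.castSucc⟩) :
    Concl 𝒱 A W := by
  refine ⟨Option ι', inferInstance, nOpt m' n', Sum.elim f F' ∘ eOpt m' n', ?_, ?_, ?_, ?_, ?_⟩
  · rw [linearIndependent_equiv]
    apply LinearIndependent.sum_type hf hF'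
    rw [hW', disjoint_iff]
    exact hdisj
  · rw [(eOpt m' n').surjective.range_comp, Set.Sum.elim_range, Submodule.span_union, hW']
    exact hsup
  · rintro ⟨_ | i, l⟩
    · exact hhomf l
    · exact hhomF' ⟨i, l⟩
  · rintro (_ | i)
    · exact hf0
    · exact hF0 i
  · rintro (_ | i) l
    · exact hfs l
    · exact hFs i l

end concl

section tri
variable {k : Type u} [Field k] {V : Type w} [AddCommGroup V] [Module k V]

lemma pow_kill (A : Module.End k V) (v : V) (m' : ℕ) (hv : (A ^ (m' + 1)) v = 0) (t : ℕ)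
    (ht : m' < t) : (A ^ t) v = 0 := by
  obtain ⟨s, rfl⟩ := Nat.exists_eq_add_of_lt ht
  rw [show m' + s + 1 = s + (m' + 1) by omega, pow_add, Module.End.mul_apply, hv, map_zero]

lemma tri (A : Module.End k V) (φ : V →ₗ[k] k) (v : V) (m' : ℕ) (hv : (A ^ (m' + 1)) v = 0)
    (hφ : φ ((A ^ m') v) ≠ 0) (c : Fin (m' + 1) → k)
    (h : ∀ j : ℕ, φ ((A ^ j) (∑ l : Fin (m' + 1), c l • (A ^ (l : ℕ)) v)) = 0) : c = 0 := by
  have key : ∀ i : ℕ, ∀ hi : i < m' + 1, c ⟨i, hi⟩ = 0 := by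
    intro i
    induction i using Nat.strong_induction_on with
    | _ i ih =>
      intro hi
      have hj := h (m' - i)
      rw [map_sum, map_sum] at hj
      rw [Finset.sum_eq_single (⟨i, hi⟩ : Fin (m' + 1))] at hj
      · rw [map_smul, map_smul, ← Module.End.mul_apply, ← pow_add,
          show m' - i + i = m' by omega, smul_eq_mul] at hj
        exact (mul_eq_zero.1 hj).resolve_right hφ
      · intro l _ hl
        have hne : (l : ℕ) ≠ i := fun h' => hl (Fin.ext h')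
        rcases lt_or_gt_of_ne hne with hlt | hgt
        · have := ih l hlt l.2
          rw [Fin.eta] at this
          rw [this, zero_smul, map_zero, map_zero]
        · rw [map_smul, ← Module.End.mul_apply, ← pow_add,
            pow_kill A v m' hv _ (by omega), smul_zero, map_zero]
      · intro h'; exact absurd (Finset.mem_univ _) h'
  funext l
  exact key l l.2

end tri

section step
variable {k : Type u} [Field k] {Λ : Type v} [AddCommGroup Λ] [DecidableEq Λ]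
  {V : Type w} [AddCommGroup V] [Module k V] [FiniteDimensional k V]
  (𝒱 : Λ → Submodule k V) [DirectSum.Decomposition 𝒱]
  (A : Module.End k V) (χ : Λ)

lemma pow_mem_of_stable {W : Submodule k V} (hst : ∀ w ∈ W, A w ∈ W) (j : ℕ) (w : V)
    (hw : w ∈ W) : (A ^ j) w ∈ W := by
  induction j with
  | zero => simpa using hw
  | succ j ih => rw [pow_succ', Module.End.mul_apply]; exact hst _ ih

/-- splitting off a maximal chain -/
lemma step (hhom : ∀ (μ : Λ) (v : V), v ∈ 𝒱 μ → A v ∈ 𝒱 (μ + χ))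
    (W : Submodule k V) (hgr : ∀ w ∈ W, ∀ μ, proj 𝒱 μ w ∈ W) (hst : ∀ w ∈ W, A w ∈ W)
    (m' : ℕ) (hkillW : ∀ w ∈ W, (A ^ (m' + 1)) w = 0) (v : V) (hvW : v ∈ W) (μ₁ : Λ)
    (hvhom : v ∈ 𝒱 μ₁) (hv0 : (A ^ m') v ≠ 0) :
    ∃ W' : Submodule k V, (∀ w ∈ W', ∀ μ, proj 𝒱 μ w ∈ W') ∧ (∀ w ∈ W', A w ∈ W') ∧
      Module.finrank k W' < Module.finrank k W ∧
      LinearIndependent k (fun l : Fin (m' + 1) => (A ^ (l : ℕ)) v) ∧
      Submodule.span k (Set.range (fun l : Fin (m' + 1) => (A ^ (l : ℕ)) v)) ⊓ W' = ⊥ ∧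
      Submodule.span k (Set.range (fun l : Fin (m' + 1) => (A ^ (l : ℕ)) v)) ⊔ W' = W := by
  classical
  set μ₀ : Λ := μ₁ + m' • χ with hμ₀
  have hu_mem : (A ^ m') v ∈ 𝒱 μ₀ := Apow_mem 𝒱 A χ hhom m' μ₁ v hvhom
  obtain ⟨ψ, hψ⟩ := Module.Projective.exists_dual_ne_zero k hv0
  set φ : V →ₗ[k] k := ψ ∘ₗ proj 𝒱 μ₀ with hφdef
  have hφu : φ ((A ^ m') v) ≠ 0 := by
    rw [hφdef, LinearMap.comp_apply, proj_same 𝒱 hu_mem]; exact hψ
  have hvkill : (A ^ (m' + 1)) v = 0 := hkillW v hvW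
  set g : Fin (m' + 1) → V := fun l => (A ^ (l : ℕ)) v with hg
  set C : Submodule k V := Submodule.span k (Set.range g) with hC
  let W' : Submodule k V := W ⊓ ⨅ j : ℕ, LinearMap.ker (φ ∘ₗ (A ^ j))
  have hW'mem : ∀ w, w ∈ W' ↔ w ∈ W ∧ ∀ j : ℕ, φ ((A ^ j) w) = 0 := by
    intro w
    simp only [W', Submodule.mem_inf, Submodule.mem_iInf, LinearMap.mem_ker, LinearMap.comp_apply]
  have hCW : C ≤ W := by
    rw [hC, Submodule.span_le]
    rintro _ ⟨l, rfl⟩
    exact pow_mem_of_stable A hst _ v hvW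
  -- independence
  have hli : LinearIndependent k g := by
    rw [Fintype.linearIndependent_iff]
    intro c hc l
    have h0 : c = 0 := by
      apply tri A φ v m' hvkill hφu c
      intro j
      have : ∑ l : Fin (m' + 1), c l • (A ^ (l : ℕ)) v = 0 := hc
      rw [this, map_zero, map_zero]
    rw [h0]; rfl
  have hdisj : C ⊓ W' = ⊥ := by
    rw [eq_bot_iff]
    rintro x ⟨hxC, hxW'⟩
    rw [SetLike.mem_coe, hC, Submodule.mem_span_range_iff_exists_fun] at hxC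
    obtain ⟨c, rfl⟩ := hxC
    have h0 : c = 0 := by
      apply tri A φ v m' hvkill hφu c
      intro j
      exact ((hW'mem _).1 hxW').2 j
    rw [Submodule.mem_bot, h0]
    simp
  have hCdim : Module.finrank k C = m' + 1 := by
    rw [hC, finrank_span_eq_card hli, Fintype.card_fin]
  -- Φ
  let Φ : V →ₗ[k] (Fin (m' + 1) → k) := LinearMap.pi (fun j => φ ∘ₗ (A ^ (j : ℕ)))
  have hΦ : ∀ w ∈ W, Φ w = 0 → w ∈ W' := by
    intro w hw h0
    rw [hW'mem]
    refine ⟨hw, fun j => ?_⟩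
    by_cases hj : j < m' + 1
    · have := congrFun h0 ⟨j, hj⟩
      simpa [Φ] using this
    · rw [pow_kill A w m' (hkillW w hw) j (by omega), map_zero]
  have hΦC_inj : Function.Injective (Φ ∘ₗ C.subtype) := by
    rw [← LinearMap.ker_eq_bot, eq_bot_iff]
    intro x hx
    rw [LinearMap.mem_ker, LinearMap.comp_apply] at hx
    have hxW' := hΦ x.1 (hCW x.2) hx
    have : x.1 ∈ C ⊓ W' := ⟨x.2, hxW'⟩
    rw [hdisj, Submodule.mem_bot] at this
    rw [Submodule.mem_bot]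
    exact Subtype.ext this
  have hΦC_surj : Function.Surjective (Φ ∘ₗ C.subtype) := by
    rw [← LinearMap.injective_iff_surjective_of_finrank_eq_finrank]
    · exact hΦC_inj
    · rw [hCdim, Module.finrank_fin_fun]
  have hsup : C ⊔ W' = W := by
    apply le_antisymm
    · exact sup_le hCW inf_le_left
    · intro w hw
      obtain ⟨c, hc⟩ := hΦC_surj (Φ w)
      rw [LinearMap.comp_apply] at hc
      have h1 : w - c.1 ∈ W' := by
        apply hΦ _ (W.sub_mem hw (hCW c.2))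
        rw [map_sub, Submodule.subtype_apply] at *
        rw [hc, sub_self]
      have : w = c.1 + (w - c.1) := by abel
      rw [this]
      exact Submodule.add_mem_sup c.2 h1
  refine ⟨W', ?_, ?_, ?_, hli, hdisj, hsup⟩
  · -- graded
    intro w hw ν
    rw [hW'mem] at hw ⊢
    refine ⟨hgr w hw.1 ν, fun j => ?_⟩
    rw [hφdef, LinearMap.comp_apply]
    by_cases hν : ν + j • χ = μ₀
    · rw [← proj_Apow 𝒱 A χ hhom j ν w, hν, proj_same 𝒱 (proj_mem 𝒱 μ₀ _)]
      have := hw.2 j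
      rw [hφdef, LinearMap.comp_apply] at this
      exact this
    · rw [proj_ne 𝒱 (Apow_mem 𝒱 A χ hhom j ν _ (proj_mem 𝒱 ν w)) hν, map_zero]
  · -- stable
    intro w hw
    rw [hW'mem] at hw ⊢
    refine ⟨hst w hw.1, fun j => ?_⟩
    have := hw.2 (j + 1)
    rw [pow_succ, Module.End.mul_apply] at this
    exact this
  · have := Submodule.finrank_sup_add_finrank_inf_eq C W'
    rw [hsup, hdisj, finrank_bot, add_zero, hCdim] at this
    omega

end step

section main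
variable {k : Type u} [Field k] {Λ : Type v} [AddCommGroup Λ] [DecidableEq Λ]
  {V : Type w} [AddCommGroup V] [Module k V] [FiniteDimensional k V]
  (𝒱 : Λ → Submodule k V) [DirectSum.Decomposition 𝒱]
  (A : Module.End k V) (χ : Λ)

theorem exists_chain (hA : IsNilpotent A)
    (hhom : ∀ (μ : Λ) (v : V), v ∈ 𝒱 μ → A v ∈ 𝒱 (μ + χ)) :
    ∀ (d : ℕ) (W : Submodule k V), Module.finrank k W = d →
      (∀ w ∈ W, ∀ μ, proj 𝒱 μ w ∈ W) → (∀ w ∈ W, A w ∈ W) → Concl 𝒱 A W := by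
  intro d
  induction d using Nat.strong_induction_on with
  | _ d ih =>
    intro W hd hgr hst
    by_cases hW : W = ⊥
    · subst hW
      exact concl_bot 𝒱 A
    · obtain ⟨N, hN⟩ := hA
      have hex : ∃ j : ℕ, ∀ w ∈ W, (A ^ j) w = 0 := ⟨N, fun w _ => by rw [hN]; rfl⟩
      classical
      have hN₀ : ∀ w ∈ W, (A ^ (Nat.find hex)) w = 0 := Nat.find_spec hex
      have hN₀pos : Nat.find hex ≠ 0 := by
        intro h0
        apply hW
        rw [eq_bot_iff]
        intro w hw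
        have := hN₀ w hw
        rw [h0, pow_zero] at this
        exact this
      obtain ⟨m', hm'⟩ := Nat.exists_eq_succ_of_ne_zero hN₀pos
      have hnot : ¬ ∀ w ∈ W, (A ^ m') w = 0 := Nat.find_min hex (by omega)
      push Not at hnot
      obtain ⟨w₀, hw₀W, hw₀⟩ := hnot
      obtain ⟨s, hs⟩ := sum_proj 𝒱 w₀
      have hex2 : ∃ μ ∈ s, (A ^ m') (proj 𝒱 μ w₀) ≠ 0 := by
        by_contra hcon
        push Not at hcon
        apply hw₀
        calc (A ^ m') w₀ = (A ^ m') (∑ μ ∈ s, proj 𝒱 μ w₀) := congrArg _ hs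
          _ = ∑ μ ∈ s, (A ^ m') (proj 𝒱 μ w₀) := map_sum _ _ _
          _ = 0 := Finset.sum_eq_zero hcon
      obtain ⟨μ₁, -, hv0⟩ := hex2
      have hkillW : ∀ w ∈ W, (A ^ (m' + 1)) w = 0 := by
        intro w hw
        have := hN₀ w hw
        rw [hm'] at this
        exact this
      obtain ⟨W', hgr', hst', hlt, hli, hdisj, hsup⟩ :=
        step 𝒱 A χ hhom W hgr hst m' hkillW (proj 𝒱 μ₁ w₀) (hgr w₀ hw₀W μ₁) μ₁
          (proj_mem 𝒱 μ₁ w₀) hv0
      obtain ⟨ι', hfin, n', F', hF'li, hF'span, hF'hom, hF'0, hF's⟩ :=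
        ih (Module.finrank k W') (hd ▸ hlt) W' rfl hgr' hst'
      set v := proj 𝒱 μ₁ w₀ with hv
      let f : Fin (m' + 1) → V := fun l => (A ^ (m' - (l : ℕ))) v
      have hfg : f = (fun l : Fin (m' + 1) => (A ^ (l : ℕ)) v) ∘ Fin.rev := by
        funext l
        show (A ^ (m' - (l : ℕ))) v = (A ^ ((Fin.rev l : Fin (m' + 1)) : ℕ)) v
        rw [Fin.val_rev]
        congr 2
        omega
      have hfli : LinearIndependent k f := by
        rw [hfg]
        exact hli.comp _ Fin.rev_injective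
      have hfrange : Set.range f = Set.range (fun l : Fin (m' + 1) => (A ^ (l : ℕ)) v) := by
        rw [hfg]
        exact Fin.rev_surjective.range_comp _
      haveI := hfin
      apply combine 𝒱 A m' n' f F' W W' hfli hF'li hF'span
      · rw [hfrange]; exact hdisj
      · rw [hfrange]; exact hsup
      · intro l
        exact ⟨_, Apow_mem 𝒱 A χ hhom _ μ₁ v (proj_mem 𝒱 μ₁ w₀)⟩
      · exact hF'hom
      · show A ((A ^ (m' - ((0 : Fin (m' + 1)) : ℕ))) v) = 0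
        rw [Fin.val_zero, Nat.sub_zero, ← Module.End.mul_apply, ← pow_succ']
        exact hkillW v (hgr w₀ hw₀W μ₁)
      · intro l
        show A ((A ^ (m' - ((l.succ : Fin (m' + 1)) : ℕ))) v) =
          (A ^ (m' - ((l.castSucc : Fin (m' + 1)) : ℕ))) v
        rw [Fin.val_succ, Fin.val_castSucc, ← Module.End.mul_apply, ← pow_succ']
        congr 2
        have := l.2
        omega
      · exact hF'0
      · exact hF's

end main

section final
variable {k : Type u} [Field k] {Λ : Type v} [AddCommGroup Λ] [DecidableEq Λ]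
  {V : Type w} [AddCommGroup V] [Module k V] [FiniteDimensional k V]

theorem main (𝒱 : Λ → Submodule k V) (h𝒱 : DirectSum.IsInternal 𝒱)
    (A : Module.End k V) (hA : IsNilpotent A) (χ : Λ)
    (hhom : ∀ (μ : Λ) (v : V), v ∈ 𝒱 μ → A v ∈ 𝒱 (μ + χ)) :
    ∃ (ι : Type w) (_ : Finite ι) (n : ι → ℕ) (b : Module.Basis (Σ i : ι, Fin (n i + 1)) k V),
      (∀ (i : ι) (l : Fin (n i + 1)), ∃ μ : Λ, b ⟨i, l⟩ ∈ 𝒱 μ) ∧
      (∀ i : ι, A (b ⟨i, 0⟩) = 0) ∧
      ∀ (i : ι) (l : Fin (n i)), A (b ⟨i, l.succ⟩) = b ⟨i, l.castSucc⟩ := by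
  letI := h𝒱.chooseDecomposition
  obtain ⟨ι, hfin, n, F, hli, hspan, hhomF, h0, hs⟩ :=
    exists_chain 𝒱 A χ hA hhom _ ⊤ rfl (fun w _ μ => Submodule.mem_top)
      (fun w _ => Submodule.mem_top)
  refine ⟨ι, hfin, n, Module.Basis.mk hli (by rw [hspan]), ?_, ?_, ?_⟩
  · intro i l; rw [Module.Basis.mk_apply]; exact hhomF ⟨i, l⟩
  · intro i; rw [Module.Basis.mk_apply]; exact h0 i
  · intro i l; rw [Module.Basis.mk_apply, Module.Basis.mk_apply]; exact hs i l

end final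

end H12GJ
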