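import Mathlib

set_option autoImplicit false
set_option linter.style.haveILetI false
set_option linter.unusedSectionVars false
universe u v

namespace H12HQ

section mu
variable {R : Type u} [CommRing R] {M : Type v} [AddCommGroup M] [Module R M]

/-- length of `X / (X ∩ Y)` -/
noncomputable def mu (X Y : Submodule R M) : ℕ∞ := Module.length R (↥X ⧸ Y.submoduleOf X)

lemma mu_def (X Y : Submodule R M) : mu X Y = Module.length R (↥X ⧸ Y.submoduleOf X) := rfl

lemma mu_eq_zero {X Y : Submodule R M} (h : X ≤ Y) : mu X Y = 0 := by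
  rw [mu_def, Module.length_eq_zero_iff]
  refine ⟨fun a b => ?_⟩
  obtain ⟨x, rfl⟩ := Submodule.Quotient.mk_surjective _ a
  obtain ⟨y, rfl⟩ := Submodule.Quotient.mk_surjective _ b
  rw [Submodule.Quotient.eq]
  show ((x - y : X) : M) ∈ Y
  exact h (x - y).2

lemma submoduleOf_inf (X Y : Submodule R M) : (X ⊓ Y).submoduleOf X = Y.submoduleOf X := by
  ext x
  show (x : M) ∈ X ⊓ Y ↔ (x : M) ∈ Y
  exact ⟨fun h => h.2, fun h => ⟨x.2, h⟩⟩

lemma mu_inf (X Y : Submodule R M) : mu X (X ⊓ Y) = mu X Y := by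
  rw [mu_def, mu_def, submoduleOf_inf]

/-- additivity -/
lemma mu_add {X Y Z : Submodule R M} (hZY : Z ≤ Y) (hYX : Y ≤ X) :
    mu X Z = mu X Y + mu Y Z := by
  let f : (↥Y ⧸ Z.submoduleOf Y) →ₗ[R] (↥X ⧸ Z.submoduleOf X) :=
    Submodule.mapQ _ _ (Submodule.inclusion hYX) (by intro y hy; exact hy)
  let g : (↥X ⧸ Z.submoduleOf X) →ₗ[R] (↥X ⧸ Y.submoduleOf X) :=
    Submodule.mapQ _ _ LinearMap.id (by intro x hx; exact hZY hx)
  have hf : Function.Injective f := by
    rw [injective_iff_map_eq_zero]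
    intro a ha
    obtain ⟨y, rfl⟩ := Submodule.Quotient.mk_surjective _ a
    rw [Submodule.mapQ_apply, Submodule.Quotient.mk_eq_zero] at ha
    rw [Submodule.Quotient.mk_eq_zero]
    exact ha
  have hg : Function.Surjective g := by
    intro b
    obtain ⟨x, rfl⟩ := Submodule.Quotient.mk_surjective _ b
    exact ⟨Submodule.Quotient.mk x, rfl⟩
  have hex : Function.Exact f g := by
    intro b
    obtain ⟨x, rfl⟩ := Submodule.Quotient.mk_surjective _ b
    constructor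
    · intro h0
      rw [Submodule.mapQ_apply, Submodule.Quotient.mk_eq_zero] at h0
      have hxY : (x : M) ∈ Y := h0
      refine ⟨Submodule.Quotient.mk ⟨x, hxY⟩, ?_⟩
      rw [Submodule.mapQ_apply]
      rfl
    · rintro ⟨a, ha⟩
      obtain ⟨y, rfl⟩ := Submodule.Quotient.mk_surjective _ a
      rw [← ha, Submodule.mapQ_apply, Submodule.mapQ_apply, Submodule.Quotient.mk_eq_zero]
      exact y.2
  have := Module.length_eq_add_of_exact f g hf hg hex
  rw [mu_def, mu_def, mu_def, this, add_comm]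

/-- second isomorphism theorem -/
lemma mu_sup (X Y : Submodule R M) : mu (X ⊔ Y) Y = mu X Y := by
  have e := LinearMap.quotientInfEquivSupQuotient X Y
  have h : Submodule.comap X.subtype X ⊓ Submodule.comap X.subtype Y = Y.submoduleOf X := by
    rw [Submodule.comap_subtype_self, top_inf_eq]
    rfl
  have h2 : Module.length R (↥(X ⊔ Y) ⧸ Y.submoduleOf (X ⊔ Y)) =
      Module.length R (↥X ⧸ Submodule.comap X.subtype X ⊓ Submodule.comap X.subtype Y) :=
    e.length_eq.symm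
  rw [mu_def, mu_def, h2, (Submodule.quotEquivOfEq _ _ h).length_eq]

/-- images -/
lemma mu_map (f : M →ₗ[R] M) {X Y : Submodule R M} (hYX : Y ≤ X) :
    mu X (Y ⊔ X ⊓ LinearMap.ker f) = mu (X.map f) (Y.map f) := by
  let g : ↥X →ₗ[R] ↥(X.map f) ⧸ (Y.map f).submoduleOf (X.map f) :=
    (Submodule.mkQ _) ∘ₗ f.submoduleMap X
  have hg : Function.Surjective g :=
    (Submodule.mkQ_surjective _).comp (f.submoduleMap_surjective X)
  have hker : LinearMap.ker g = (Y ⊔ X ⊓ LinearMap.ker f).submoduleOf X := by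
    ext x
    rw [LinearMap.mem_ker]
    show Submodule.Quotient.mk (f.submoduleMap X x) = 0 ↔ (x : M) ∈ Y ⊔ X ⊓ LinearMap.ker f
    rw [Submodule.Quotient.mk_eq_zero]
    show f (x : M) ∈ Y.map f ↔ _
    constructor
    · rintro ⟨y, hy, hfy⟩
      have h1 : (x : M) = y + ((x : M) - y) := by abel
      rw [h1]
      refine Submodule.add_mem_sup hy ⟨X.sub_mem x.2 (hYX hy), ?_⟩
      show (x : M) - y ∈ LinearMap.ker f
      rw [LinearMap.mem_ker, map_sub, hfy, sub_self]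
    · intro hx
      obtain ⟨y, hy, k, hk, hyk⟩ := Submodule.mem_sup.1 hx
      refine ⟨y, hy, ?_⟩
      rw [← hyk, map_add, LinearMap.mem_ker.1 hk.2, add_zero]
  have e := LinearMap.quotKerEquivOfSurjective g hg
  have h2 : Module.length R (↥(X.map f) ⧸ (Y.map f).submoduleOf (X.map f)) =
      Module.length R (↥X ⧸ LinearMap.ker g) := e.length_eq.symm
  rw [mu_def, mu_def, h2, (Submodule.quotEquivOfEq _ _ hker).length_eq]

end mu

section nil
variable {R : Type u} [CommRing R] {M : Type v} [AddCommGroup M] [Module R M] (φ : M →ₗ[R] M)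

/-- kernels of powers -/
noncomputable def K (j : ℕ) : Submodule R M := LinearMap.ker (φ ^ j)
/-- images of powers -/
noncomputable def I (j : ℕ) : Submodule R M := LinearMap.range (φ ^ j)

lemma mem_K (j : ℕ) (x : M) : x ∈ K φ j ↔ (φ ^ j) x = 0 := LinearMap.mem_ker
lemma mem_I (j : ℕ) (x : M) : x ∈ I φ j ↔ ∃ y, (φ ^ j) y = x := LinearMap.mem_range

lemma pow_add_apply (a b : ℕ) (x : M) : (φ ^ (a + b)) x = (φ ^ a) ((φ ^ b) x) := by
  rw [pow_add, Module.End.mul_apply]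

lemma K_mono (p q : ℕ) : K φ p ≤ K φ (p + q) := by
  intro x hx
  rw [mem_K] at hx ⊢
  rw [add_comm, pow_add_apply, hx, map_zero]

lemma I_anti (q r : ℕ) : I φ (q + r) ≤ I φ r := by
  intro x hx
  rw [mem_I] at hx ⊢
  obtain ⟨y, rfl⟩ := hx
  exact ⟨(φ ^ q) y, by rw [add_comm, pow_add_apply]⟩

lemma I_le_K {n : ℕ} (hn : φ ^ n = 0) (a b : ℕ) (h : a + b = n) : I φ b ≤ K φ a := by
  intro x hx
  rw [mem_I] at hx
  obtain ⟨y, rfl⟩ := hx
  rw [mem_K, ← pow_add_apply, h, hn]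
  rfl

lemma map_K (p q : ℕ) : (K φ (p + q)).map (φ ^ p) = K φ q ⊓ I φ p := by
  ext y
  constructor
  · rintro ⟨x, hx, rfl⟩
    have hx' : (φ ^ (p + q)) x = 0 := (mem_K φ _ _).1 hx
    refine ⟨?_, ⟨x, rfl⟩⟩
    show (φ ^ p) x ∈ K φ q
    rw [mem_K, ← pow_add_apply, add_comm]
    exact hx'
  · rintro ⟨hy, ⟨x, rfl⟩⟩
    have hy' : (φ ^ q) ((φ ^ p) x) = 0 := (mem_K φ _ _).1 hy
    refine ⟨x, ?_, rfl⟩
    show x ∈ K φ (p + q)
    rw [mem_K, add_comm, pow_add_apply]
    exact hy'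

lemma map_I (p r : ℕ) : (I φ r).map (φ ^ p) = I φ (p + r) := by
  ext y
  constructor
  · rintro ⟨x, hx, rfl⟩
    obtain ⟨z, rfl⟩ := (mem_I φ _ _).1 hx
    exact ⟨z, by rw [pow_add_apply]⟩
  · rintro ⟨z, rfl⟩
    exact ⟨(φ ^ r) z, ⟨z, rfl⟩, by rw [pow_add_apply]⟩

/-- `ℓ(K_a / K_a ∩ I_b)` -/
noncomputable def hh (a b : ℕ) : ℕ∞ := mu (K φ a) (I φ b)
/-- `ℓ(K_a ∩ I_b / I_{c+b})` -/
noncomputable def Y (a b c : ℕ) : ℕ∞ := mu (K φ a ⊓ I φ b) (I φ (c + b))

lemma N2 {n : ℕ} (hn : φ ^ n = 0) (p q r : ℕ) (h : p + q + r = n) :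
    hh φ p (q + r) = hh φ p r + Y φ p r q := by
  have h1 : I φ (q + r) ≤ K φ p ⊓ I φ r :=
    le_inf (I_le_K φ hn p (q + r) (by omega)) (I_anti φ q r)
  have := mu_add h1 (inf_le_left : K φ p ⊓ I φ r ≤ K φ p)
  rw [mu_inf] at this
  exact this

lemma N1 {n : ℕ} (hn : φ ^ n = 0) (p q r : ℕ) (h : p + q + r = n) :
    hh φ (p + q) r = hh φ p r + Y φ q p r := by
  have hIK : I φ r ≤ K φ (p + q) := I_le_K φ hn (p + q) r h
  have h1 : K φ p ⊔ I φ r ≤ K φ (p + q) := sup_le (K_mono φ p q) hIK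
  have e1 := mu_add (le_sup_right : I φ r ≤ K φ p ⊔ I φ r) h1
  have e2 := mu_sup (K φ p) (I φ r)
  have e3 := mu_map (φ ^ p) hIK
  have e4 : I φ r ⊔ K φ (p + q) ⊓ LinearMap.ker (φ ^ p) = K φ p ⊔ I φ r := by
    have : K φ (p + q) ⊓ LinearMap.ker (φ ^ p) = K φ p := inf_eq_right.2 (K_mono φ p q)
    rw [this, sup_comm]
  rw [e4, map_K, map_I] at e3
  show mu (K φ (p + q)) (I φ r) = mu (K φ p) (I φ r) + mu (K φ q ⊓ I φ p) (I φ (r + p))
  rw [e1, e2, e3, add_comm r p, add_comm]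

lemma star {n : ℕ} (hn : φ ^ n = 0) (p q r : ℕ) (h : p + q + r = n) :
    hh φ p (q + r) + hh φ q (r + p) + hh φ r (p + q) =
      hh φ (p + q) r + hh φ (q + r) p + hh φ (r + p) q := by
  rw [N2 φ hn p q r h, N2 φ hn q r p (by omega), N2 φ hn r p q (by omega),
    N1 φ hn p q r h, N1 φ hn q r p (by omega), N1 φ hn r p q (by omega)]
  ring

end nil

section main
variable {R : Type u} [CommRing R] {M : Type v} [AddCommGroup M] [Module R M] (φ : M →ₗ[R] M)

/-- `h(j) = ℓ(K_j / I_{n-j})` -/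
noncomputable def hN (n j : ℕ) : ℕ∞ := hh φ j (n - j)

lemma hN_zero (n : ℕ) : hN φ n 0 = 0 := by
  apply mu_eq_zero
  intro x hx
  rw [mem_K, pow_zero, Module.End.one_apply] at hx
  rw [hx]
  exact Submodule.zero_mem _

lemma hN_self (n : ℕ) : hN φ n n = 0 := by
  apply mu_eq_zero
  intro x _
  rw [Nat.sub_self, mem_I]
  exact ⟨x, by rw [pow_zero, Module.End.one_apply]⟩

lemma rel {n : ℕ} (hn : φ ^ n = 0) (i : ℕ) (hi : i + 1 ≤ n) :
    hN φ n i + hN φ n 1 + hN φ n (n - i - 1) =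
      hN φ n (i + 1) + hN φ n (n - i) + hN φ n (n - 1) := by
  have key := star φ hn i 1 (n - i - 1) (by omega)
  have e1 : 1 + (n - i - 1) = n - i := by omega
  have e2 : n - i - 1 + i = n - 1 := by omega
  have e3 : n - (n - i - 1) = i + 1 := by omega
  have e4 : n - (i + 1) = n - i - 1 := by omega
  have e5 : n - (n - i) = i := by omega
  have e6 : n - (n - 1) = 1 := by omega
  rw [e1, e2] at key
  unfold hN
  rw [e3, e4, e5, e6]
  exact key

lemma fin {n : ℕ} (hn : φ ^ n = 0) (hfin : hN φ n 1 < ⊤) :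
    ∀ j, j ≤ n → hN φ n j < ⊤ := by
  intro j
  induction j with
  | zero => intro _; rw [hN_zero]; exact WithTop.top_pos
  | succ j ih =>
    intro hj
    have h1 := N1 φ hn j 1 (n - j - 1) (by omega)
    have h2 := N2 φ hn j 1 (n - j - 1) (by omega)
    have h3 := N2 φ hn 1 (n - j - 1) j (by omega)
    have e1 : 1 + (n - j - 1) = n - j := by omega
    have e2 : n - j - 1 + j = n - 1 := by omega
    have e4 : n - (j + 1) = n - j - 1 := by omega
    rw [e1] at h2
    rw [e2] at h3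
    have ha : hh φ j (n - j - 1) ≤ hN φ n j := by
      unfold hN; rw [h2]; exact le_self_add
    have hb : Y φ 1 j (n - j - 1) ≤ hN φ n 1 := by
      unfold hN; rw [h3]; exact le_add_self
    have hc : hN φ n (j + 1) ≤ hN φ n j + hN φ n 1 := by
      unfold hN at *
      rw [e4, h1]
      exact add_le_add ha hb
    exact lt_of_le_of_lt hc (WithTop.add_lt_top.2 ⟨ih (by omega), hfin⟩)

theorem main (n : ℕ) (hn0 : 0 < n) (hn : φ ^ n = 0) (hfin : hN φ n 1 < ⊤) (i : ℕ) (hi : i ≤ n) :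
    hN φ n i < ⊤ ∧ hN φ n (n - i) < ⊤ ∧
      (((hN φ n i).toNat : ℤ) - ((hN φ n (n - i)).toNat : ℤ) = 0) := by
  have hf := fin φ hn hfin
  refine ⟨hf i hi, hf (n - i) (by omega), ?_⟩
  have hcoe : ∀ j, j ≤ n → ((hN φ n j).toNat : ℕ∞) = hN φ n j :=
    fun j hj => ENat.natCast_toNat (ne_of_lt (hf j hj))
  have relN : ∀ i, i + 1 ≤ n →
      (hN φ n i).toNat + (hN φ n 1).toNat + (hN φ n (n - i - 1)).toNat =
        (hN φ n (i + 1)).toNat + (hN φ n (n - i)).toNat + (hN φ n (n - 1)).toNat := by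
    intro i hi
    have h := rel φ hn i hi
    rw [← hcoe i (by omega), ← hcoe 1 (by omega), ← hcoe (n - i - 1) (by omega),
      ← hcoe (i + 1) hi, ← hcoe (n - i) (by omega), ← hcoe (n - 1) (by omega)] at h
    exact_mod_cast h
  set c : ℤ := ((hN φ n 1).toNat : ℤ) - ((hN φ n (n - 1)).toNat : ℤ) with hc
  have g : ∀ i, i ≤ n →
      ((hN φ n i).toNat : ℤ) - ((hN φ n (n - i)).toNat : ℤ) = (i : ℤ) * c := by
    intro i
    induction i with
    | zero =>
      intro _
      rw [Nat.sub_zero, hN_zero, hN_self]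
      simp
    | succ i ih =>
      intro hi
      have h1 := ih (by omega)
      have h2 := relN i hi
      have e4 : n - (i + 1) = n - i - 1 := by omega
      rw [e4]
      have h3 : ((i + 1 : ℕ) : ℤ) * c = (i : ℤ) * c + c := by push_cast; ring
      rw [h3, ← h1, hc]
      zify at h2
      linarith
  have hc0 : c = 0 := by
    have h1 := g n le_rfl
    rw [Nat.sub_self, hN_zero, hN_self] at h1
    simp only [ENat.toNat_zero, Nat.cast_zero, sub_self] at h1
    rcases mul_eq_zero.1 h1.symm with h | h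
    · exact absurd (by exact_mod_cast h) hn0.ne'
    · exact h
  rw [g i hi, hc0, mul_zero]

end main

end H12HQ
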