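import Mathlib
import Groth.Agent.Lib.helper12.Herbrand

set_option autoImplicit false
set_option linter.style.haveILetI false
set_option linter.unusedSectionVars false
universe u v w

namespace H12HS

open H12HQ
open scoped Pointwise

section FL
variable {R : Type u} [CommRing R] [IsNoetherianRing R]

/-- a finite module with support of dimension `≤ 0` over a noetherian ring has finite length -/
lemma length_lt_top_of_supportDim_le_zero (Q : Type v) [AddCommGroup Q] [Module R Q]
    [Module.Finite R Q] (h : Module.supportDim R Q ≤ 0) : Module.length R Q < ⊤ := by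
  letI : Module (R ⧸ Module.annihilator R Q) Q := Module.quotientAnnihilator
  haveI : IsScalarTower R (R ⧸ Module.annihilator R Q) Q := by
    refine ⟨fun r s q => ?_⟩
    obtain ⟨s', rfl⟩ := Ideal.Quotient.mk_surjective s
    show (Ideal.Quotient.mk _ (r • s')) • q = r • (Ideal.Quotient.mk _ s') • q
    show (r • s') • q = r • s' • q
    exact smul_assoc r s' q
  haveI : Ring.KrullDimLE 0 (R ⧸ Module.annihilator R Q) := by
    rw [Ring.krullDimLE_iff, ← Module.supportDim_eq_ringKrullDim_quotient_annihilator]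
    exact_mod_cast h
  haveI : IsArtinianRing (R ⧸ Module.annihilator R Q) :=
    IsNoetherianRing.isArtinianRing_of_krullDimLE_zero
  haveI : Module.Finite (R ⧸ Module.annihilator R Q) Q :=
    Module.Finite.of_restrictScalars_finite R _ Q
  haveI : IsArtinian (R ⧸ Module.annihilator R Q) Q := inferInstance
  haveI : IsArtinian R Q :=
    isArtinian_of_surjective_algebraMap (R := R ⧸ Module.annihilator R Q) (S := R)
      Ideal.Quotient.mk_surjective
  have hfl : IsFiniteLength R Q :=
    isFiniteLength_iff_isNoetherian_isArtinian.2 ⟨inferInstance, inferInstance⟩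
  exact lt_top_iff_ne_top.2 (Module.length_ne_top_iff.2 hfl)

lemma length_lt_top_of_torsion {M : Type v} [AddCommGroup M] [Module R M] [Module.Finite R M]
    (x : R) (hx : Module.supportDim R (M ⧸ x • (⊤ : Submodule R M)) ≤ 0)
    (Q : Type w) [AddCommGroup Q] [Module R Q] [Module.Finite R Q]
    (hsupp : Module.support R Q ⊆ Module.support R M) (hxQ : ∀ q : Q, x • q = 0) :
    Module.length R Q < ⊤ := by
  apply length_lt_top_of_supportDim_le_zero
  have hsub : Module.support R Q ⊆ Module.support R (M ⧸ x • (⊤ : Submodule R M)) := by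
    intro p hp
    have e : x • (⊤ : Submodule R M) = (Ideal.span {x}) • (⊤ : Submodule R M) :=
      (Submodule.ideal_span_singleton_smul x ⊤).symm
    rw [e, Module.support_quotient]
    refine ⟨hsupp hp, ?_⟩
    have h1 := Module.annihilator_le_of_mem_support hp
    have hxann : x ∈ Module.annihilator R Q := Module.mem_annihilator.2 hxQ
    rw [PrimeSpectrum.mem_zeroLocus]
    intro y hy
    obtain ⟨c, rfl⟩ := Ideal.mem_span_singleton'.1 hy
    exact Ideal.mul_mem_left _ _ (h1 hxann)
  refine le_trans ?_ hx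
  exact Order.krullDim_le_of_strictMono (fun a => ⟨a.1, hsub a.2⟩) (fun {_ _} lt => lt)

end FL

section Q
variable {R : Type u} [CommRing R]

lemma length_quot_eq_of_surj {X : Type v} {Y : Type w} [AddCommGroup X] [Module R X]
    [AddCommGroup Y] [Module R Y]
    (g : X →ₗ[R] Y) (hg : Function.Surjective g) (P : Submodule R X) (Q : Submodule R Y)
    (h : P = Q.comap g) :
    Module.length R (X ⧸ P) = Module.length R (Y ⧸ Q) := by
  subst h
  have hs : Function.Surjective (Q.mkQ ∘ₗ g) := (Submodule.mkQ_surjective Q).comp hg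
  have hk : LinearMap.ker (Q.mkQ ∘ₗ g) = Q.comap g := by
    rw [LinearMap.ker_comp, Submodule.ker_mkQ]
  have e := LinearMap.quotKerEquivOfSurjective (Q.mkQ ∘ₗ g) hs
  have h2 : Module.length R (X ⧸ LinearMap.ker (Q.mkQ ∘ₗ g)) = Module.length R (Y ⧸ Q) :=
    e.length_eq
  rw [← h2, (Submodule.quotEquivOfEq _ _ hk).length_eq]

end Q

section A
variable {R : Type u} [CommRing R] [IsNoetherianRing R] {M : Type v} [AddCommGroup M] [Module R M]
  [Module.Finite R M]

theorem partA (φ ψ : M →ₗ[R] M) (h1 : φ ∘ₗ ψ = 0) (h2 : ψ ∘ₗ φ = 0) (x : R)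
    (hx : Module.supportDim R (M ⧸ x • (⊤ : Submodule R M)) ≤ 0) :
    Module.length R (↥(LinearMap.ker (0 : ↥(LinearMap.range φ) →ₗ[R] ↥(LinearMap.range φ))) ⧸
      (LinearMap.range (x • (LinearMap.id : ↥(LinearMap.range φ) →ₗ[R] ↥(LinearMap.range φ)))).submoduleOf
        (LinearMap.ker (0 : ↥(LinearMap.range φ) →ₗ[R] ↥(LinearMap.range φ)))) < ⊤ ∧
    Module.length R (↥(LinearMap.ker (x • (LinearMap.id : ↥(LinearMap.range φ) →ₗ[R] ↥(LinearMap.range φ)))) ⧸
      (LinearMap.range (0 : ↥(LinearMap.range φ) →ₗ[R] ↥(LinearMap.range φ))).submoduleOf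
        (LinearMap.ker (x • (LinearMap.id : ↥(LinearMap.range φ) →ₗ[R] ↥(LinearMap.range φ))))) < ⊤ ∧
    mu (LinearMap.ker (x • φ)) (LinearMap.range ψ) =
      Module.length R (↥(LinearMap.ker (x • (LinearMap.id : ↥(LinearMap.range φ) →ₗ[R] ↥(LinearMap.range φ)))) ⧸
      (LinearMap.range (0 : ↥(LinearMap.range φ) →ₗ[R] ↥(LinearMap.range φ))).submoduleOf
        (LinearMap.ker (x • (LinearMap.id : ↥(LinearMap.range φ) →ₗ[R] ↥(LinearMap.range φ))))) +
        mu (LinearMap.ker φ) (LinearMap.range ψ) ∧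
    mu (LinearMap.ker ψ) (LinearMap.range (x • φ)) =
      mu (LinearMap.ker ψ) (LinearMap.range φ) +
      Module.length R (↥(LinearMap.ker (0 : ↥(LinearMap.range φ) →ₗ[R] ↥(LinearMap.range φ))) ⧸
      (LinearMap.range (x • (LinearMap.id : ↥(LinearMap.range φ) →ₗ[R] ↥(LinearMap.range φ)))).submoduleOf
        (LinearMap.ker (0 : ↥(LinearMap.range φ) →ₗ[R] ↥(LinearMap.range φ)))) := by
  haveI : IsNoetherian R M := inferInstance
  have hI'K : LinearMap.range ψ ≤ LinearMap.ker φ := by
    rintro _ ⟨z, rfl⟩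
    rw [LinearMap.mem_ker]
    exact LinearMap.congr_fun h1 z
  have hIK' : LinearMap.range φ ≤ LinearMap.ker ψ := by
    rintro _ ⟨z, rfl⟩
    rw [LinearMap.mem_ker]
    exact LinearMap.congr_fun h2 z
  have hKKx : LinearMap.ker φ ≤ LinearMap.ker (x • φ) := by
    intro m hm
    rw [LinearMap.mem_ker] at hm ⊢
    rw [LinearMap.smul_apply, hm, smul_zero]
  have hIxI : LinearMap.range (x • φ) ≤ LinearMap.range φ := by
    rintro _ ⟨z, rfl⟩
    exact ⟨x • z, by rw [map_smul, LinearMap.smul_apply]⟩
  -- the two comparison isomorphisms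
  have hc2 : Module.length R (↥(LinearMap.ker (x • φ)) ⧸
      (LinearMap.ker φ).submoduleOf (LinearMap.ker (x • φ))) =
      Module.length R (↥(LinearMap.ker (x • (LinearMap.id : ↥(LinearMap.range φ) →ₗ[R] ↥(LinearMap.range φ)))) ⧸
      (LinearMap.range (0 : ↥(LinearMap.range φ) →ₗ[R] ↥(LinearMap.range φ))).submoduleOf
        (LinearMap.ker (x • (LinearMap.id : ↥(LinearMap.range φ) →ₗ[R] ↥(LinearMap.range φ))))) := by
    let g0 : ↥(LinearMap.ker (x • φ)) →ₗ[R] ↥(LinearMap.range φ) :=
      φ.rangeRestrict ∘ₗ (LinearMap.ker (x • φ)).subtype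
    have hg0 : ∀ m, g0 m ∈ LinearMap.ker (x • (LinearMap.id : ↥(LinearMap.range φ) →ₗ[R] ↥(LinearMap.range φ))) := by
      intro m
      rw [LinearMap.mem_ker, LinearMap.smul_apply, LinearMap.id_apply]
      apply Subtype.ext
      have hm : (x • φ) (m : M) = 0 := LinearMap.mem_ker.1 m.2
      rw [LinearMap.smul_apply] at hm
      show x • φ (m : M) = 0
      exact hm
    let g : ↥(LinearMap.ker (x • φ)) →ₗ[R]
        ↥(LinearMap.ker (x • (LinearMap.id : ↥(LinearMap.range φ) →ₗ[R] ↥(LinearMap.range φ)))) :=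
      g0.codRestrict _ hg0
    refine length_quot_eq_of_surj g ?_ _ _ ?_
    · rintro ⟨⟨n, m, rfl⟩, hn⟩
      have hn' : x • (⟨φ m, m, rfl⟩ : ↥(LinearMap.range φ)) = 0 := by
        have := LinearMap.mem_ker.1 hn
        rwa [LinearMap.smul_apply, LinearMap.id_apply] at this
      have hm : m ∈ LinearMap.ker (x • φ) := by
        rw [LinearMap.mem_ker, LinearMap.smul_apply]
        exact congrArg Subtype.val hn'
      refine ⟨⟨m, hm⟩, ?_⟩
      apply Subtype.ext
      apply Subtype.ext
      rfl
    · ext m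
      show (m : M) ∈ LinearMap.ker φ ↔
        ((g m : ↥(LinearMap.range φ))) ∈ LinearMap.range (0 : ↥(LinearMap.range φ) →ₗ[R] ↥(LinearMap.range φ))
      rw [LinearMap.range_zero, Submodule.mem_bot, LinearMap.mem_ker]
      constructor
      · intro h
        apply Subtype.ext
        exact h
      · intro h
        exact congrArg Subtype.val h
  have hc1 : Module.length R (↥(LinearMap.range φ) ⧸
      (LinearMap.range (x • φ)).submoduleOf (LinearMap.range φ)) =
      Module.length R (↥(LinearMap.ker (0 : ↥(LinearMap.range φ) →ₗ[R] ↥(LinearMap.range φ))) ⧸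
      (LinearMap.range (x • (LinearMap.id : ↥(LinearMap.range φ) →ₗ[R] ↥(LinearMap.range φ)))).submoduleOf
        (LinearMap.ker (0 : ↥(LinearMap.range φ) →ₗ[R] ↥(LinearMap.range φ)))) := by
    let g : ↥(LinearMap.range φ) →ₗ[R]
        ↥(LinearMap.ker (0 : ↥(LinearMap.range φ) →ₗ[R] ↥(LinearMap.range φ))) :=
      (LinearMap.id : ↥(LinearMap.range φ) →ₗ[R] ↥(LinearMap.range φ)).codRestrict _
        (fun n => by rw [LinearMap.mem_ker, LinearMap.zero_apply])
    refine length_quot_eq_of_surj g ?_ _ _ ?_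
    · rintro ⟨n, hn⟩
      exact ⟨n, rfl⟩
    · ext n
      show (n : M) ∈ LinearMap.range (x • φ) ↔
        n ∈ LinearMap.range (x • (LinearMap.id : ↥(LinearMap.range φ) →ₗ[R] ↥(LinearMap.range φ)))
      constructor
      · rintro ⟨z, hz⟩
        refine ⟨⟨φ z, z, rfl⟩, ?_⟩
        apply Subtype.ext
        rw [LinearMap.smul_apply] at hz
        exact hz
      · rintro ⟨⟨_, z, rfl⟩, hz⟩
        refine ⟨z, ?_⟩
        rw [LinearMap.smul_apply]
        exact congrArg Subtype.val hz
  -- finiteness
  have hf2 : Module.length R (↥(LinearMap.ker (x • φ)) ⧸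
      (LinearMap.ker φ).submoduleOf (LinearMap.ker (x • φ))) < ⊤ := by
    refine length_lt_top_of_torsion (M := M) x hx _ ?_ ?_
    · exact (Module.support_subset_of_surjective _ (Submodule.mkQ_surjective _)).trans
        (Module.support_subset_of_injective (LinearMap.ker (x • φ)).subtype Subtype.val_injective)
    · intro q
      obtain ⟨m, rfl⟩ := Submodule.Quotient.mk_surjective _ q
      rw [← Submodule.Quotient.mk_smul, Submodule.Quotient.mk_eq_zero]
      show ((x • m : ↥(LinearMap.ker (x • φ))) : M) ∈ LinearMap.ker φ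
      have hm : (x • φ) (m : M) = 0 := LinearMap.mem_ker.1 m.2
      rw [LinearMap.mem_ker, Submodule.coe_smul, map_smul]
      rw [LinearMap.smul_apply] at hm
      exact hm
  have hf1 : Module.length R (↥(LinearMap.range φ) ⧸
      (LinearMap.range (x • φ)).submoduleOf (LinearMap.range φ)) < ⊤ := by
    refine length_lt_top_of_torsion (M := M) x hx _ ?_ ?_
    · exact (Module.support_subset_of_surjective _ (Submodule.mkQ_surjective _)).trans
        (Module.support_subset_of_injective (LinearMap.range φ).subtype Subtype.val_injective)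
    · intro q
      obtain ⟨⟨_, z, rfl⟩, rfl⟩ := Submodule.Quotient.mk_surjective _ q
      rw [← Submodule.Quotient.mk_smul, Submodule.Quotient.mk_eq_zero]
      show x • φ z ∈ LinearMap.range (x • φ)
      exact ⟨z, by rw [LinearMap.smul_apply]⟩
  refine ⟨hc1 ▸ hf1, hc2 ▸ hf2, ?_, ?_⟩
  · rw [mu_add hI'K hKKx, ← hc2]
    rfl
  · rw [mu_add hIxI hIK', ← hc1]
    rfl

end A

end H12HS
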