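import Mathlib
import Groth.Prelude.Def_Hoch
import Groth.Prelude.Def_CoactBr2

/-!
helper12: Hochschild cohomology of a comodule over a field commutes with base change.
-/

set_option autoImplicit false
set_option linter.unusedSectionVars false
set_option linter.style.haveILetI false
universe u v w

open TensorProduct

namespace H12HBC

variable (K : Type u) [Field K] (A : Type v) [CommRing A] [HopfAlgebra K A]
  (V : Type v) [AddCommGroup V] [Module K V] [HopfRep.Comod K A V]
  (R : Type w) [CommRing R] [Algebra K R]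

noncomputable local instance instBC : HopfRep.Comod R (R ⊗[K] A) (R ⊗[K] V) :=
  CoactBr.Comod.baseChange K R A V

/-- the comparison equivalences -/
noncomputable def psi : (n : ℕ) → (R ⊗[K] (Hoch.cochain K A V n)) ≃ₗ[R]
    (Hoch.cochain R (R ⊗[K] A) (R ⊗[K] V) n)
  | 0 => LinearEquiv.refl R _
  | n + 1 => (TensorProduct.AlgebraTensorModule.distribBaseChange K R (Hoch.cochain K A V n) A) ≪≫ₗ
      (TensorProduct.congr (psi n) (LinearEquiv.refl R (R ⊗[K] A)))

lemma psi_zero (x : R ⊗[K] V) : psi K A V R 0 x = x := rfl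

lemma psi_succ_tmul (n : ℕ) (r : R) (c : Hoch.cochain K A V n) (a : A) :
    psi K A V R (n + 1) (r ⊗ₜ[K] (c ⊗ₜ[K] a)) =
      (psi K A V R n (r ⊗ₜ[K] c)) ⊗ₜ[R] ((1 : R) ⊗ₜ[K] a) := by
  show (TensorProduct.congr (psi K A V R n) (LinearEquiv.refl R (R ⊗[K] A)))
    (TensorProduct.AlgebraTensorModule.distribBaseChange K R (Hoch.cochain K A V n) A
      (r ⊗ₜ[K] (c ⊗ₜ[K] a))) = _
  rw [TensorProduct.AlgebraTensorModule.distribBaseChange_tmul, TensorProduct.congr_tmul]
  rfl

theorem phi_eq_psi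
    (φ : ∀ n : ℕ, R ⊗[K] (Hoch.cochain K A V n) →ₗ[R] (Hoch.cochain R (R ⊗[K] A) (R ⊗[K] V) n))
    (hφ0 : ∀ x : R ⊗[K] V, φ 0 x = x)
    (hφs : ∀ (n : ℕ) (r : R) (c : Hoch.cochain K A V n) (a : A),
      φ (n + 1) (r ⊗ₜ[K] (c ⊗ₜ[K] a)) = (φ n (r ⊗ₜ[K] c)) ⊗ₜ[R] ((1 : R) ⊗ₜ[K] a)) :
    ∀ n x, φ n x = psi K A V R n x := by
  intro n
  induction n with
  | zero => intro x; exact hφ0 x
  | succ n ih =>
    intro x
    induction x using TensorProduct.induction_on with
    | zero => rw [map_zero, map_zero]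
    | add x y hx hy => rw [map_add, map_add, hx, hy]
    | tmul r y =>
      induction y using TensorProduct.induction_on with
      | zero => rw [TensorProduct.tmul_zero, map_zero, map_zero]
      | add y z hy hz => rw [TensorProduct.tmul_add, map_add, map_add, hy, hz]
      | tmul c a => rw [hφs, psi_succ_tmul, ih]

/-! ### compatibility with the differentials -/

open TensorProduct.AlgebraTensorModule in
/-- `u ↦ (1 ⊗ u₁) ⊗ (1 ⊗ u₂)` -/
noncomputable def iota2 (u : A ⊗[K] A) : (R ⊗[K] A) ⊗[R] (R ⊗[K] A) :=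
  tensorTensorTensorComm K R K R R R A A (((1 : R) ⊗ₜ[R] (1 : R)) ⊗ₜ[K] u)

lemma iota2_tmul (a b : A) :
    iota2 K A R (a ⊗ₜ[K] b) = ((1 : R) ⊗ₜ[K] a) ⊗ₜ[R] ((1 : R) ⊗ₜ[K] b) := rfl

lemma iota2_add (u v : A ⊗[K] A) : iota2 K A R (u + v) = iota2 K A R u + iota2 K A R v := by
  unfold iota2
  rw [TensorProduct.tmul_add, map_add]

lemma iota2_zero : iota2 K A R 0 = 0 := by
  unfold iota2
  rw [TensorProduct.tmul_zero, map_zero]

lemma iota2_sub (u v : A ⊗[K] A) : iota2 K A R (u - v) = iota2 K A R u - iota2 K A R v := by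
  unfold iota2
  rw [TensorProduct.tmul_sub, map_sub]

lemma comul_one_tmul (a : A) :
    Coalgebra.comul (R := R) ((1 : R) ⊗ₜ[K] a) = iota2 K A R (Coalgebra.comul (R := K) a) := rfl

lemma redComul_one_tmul (a : A) :
    Hoch.redComul R (R ⊗[K] A) ((1 : R) ⊗ₜ[K] a) = iota2 K A R (Hoch.redComul K A a) := by
  rw [Hoch.redComul_apply, Hoch.redComul_apply, iota2_sub, iota2_sub, iota2_tmul, iota2_tmul,
    comul_one_tmul, Algebra.TensorProduct.one_def]

/-- the two-step formula for `psi` -/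
lemma psi_assoc_symm (n : ℕ) (r : R) (c : Hoch.cochain K A V n) (u : A ⊗[K] A) :
    psi K A V R (n + 2) (r ⊗ₜ[K] ((TensorProduct.assoc K (Hoch.cochain K A V n) A A).symm
      (c ⊗ₜ[K] u))) =
    (TensorProduct.assoc R (Hoch.cochain R (R ⊗[K] A) (R ⊗[K] V) n) (R ⊗[K] A) (R ⊗[K] A)).symm
      ((psi K A V R n (r ⊗ₜ[K] c)) ⊗ₜ[R] iota2 K A R u) := by
  induction u using TensorProduct.induction_on with
  | zero =>
    rw [TensorProduct.tmul_zero, map_zero, TensorProduct.tmul_zero, map_zero, iota2_zero,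
      TensorProduct.tmul_zero, map_zero]
  | add u v hu hv =>
    rw [TensorProduct.tmul_add, map_add, TensorProduct.tmul_add, map_add, hu, hv, iota2_add,
      TensorProduct.tmul_add, map_add]
  | tmul a b =>
    rw [TensorProduct.assoc_symm_tmul, iota2_tmul, TensorProduct.assoc_symm_tmul]
    rw [psi_succ_tmul K A V R (n + 1) r (c ⊗ₜ[K] a) b, psi_succ_tmul]

lemma psi_tail (n : ℕ) (r : R) (c : Hoch.cochain K A V n) (a : A) :
    psi K A V R (n + 2) (r ⊗ₜ[K] (Hoch.tail K A (Hoch.cochain K A V n) (c ⊗ₜ[K] a))) =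
      Hoch.tail R (R ⊗[K] A) (Hoch.cochain R (R ⊗[K] A) (R ⊗[K] V) n)
        ((psi K A V R n (r ⊗ₜ[K] c)) ⊗ₜ[R] ((1 : R) ⊗ₜ[K] a)) := by
  have h1 : Hoch.tail K A (Hoch.cochain K A V n) (c ⊗ₜ[K] a) =
      (TensorProduct.assoc K (Hoch.cochain K A V n) A A).symm (c ⊗ₜ[K] Hoch.redComul K A a) := rfl
  have h2 : Hoch.tail R (R ⊗[K] A) (Hoch.cochain R (R ⊗[K] A) (R ⊗[K] V) n)
        ((psi K A V R n (r ⊗ₜ[K] c)) ⊗ₜ[R] ((1 : R) ⊗ₜ[K] a)) =
      (TensorProduct.assoc R (Hoch.cochain R (R ⊗[K] A) (R ⊗[K] V) n) (R ⊗[K] A) (R ⊗[K] A)).symm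
        ((psi K A V R n (r ⊗ₜ[K] c)) ⊗ₜ[R] Hoch.redComul R (R ⊗[K] A) ((1 : R) ⊗ₜ[K] a)) := rfl
  rw [h1, h2, redComul_one_tmul, psi_assoc_symm]

open TensorProduct.AlgebraTensorModule in
lemma psi_one_eq (r : R) (t : V ⊗[K] A) :
    psi K A V R 1 (r ⊗ₜ[K] t) =
      tensorTensorTensorComm K R K R R R V A (((1 : R) ⊗ₜ[R] r) ⊗ₜ[K] t) := by
  induction t using TensorProduct.induction_on with
  | zero => rw [TensorProduct.tmul_zero, map_zero, TensorProduct.tmul_zero, map_zero]
  | add x y hx hy => rw [TensorProduct.tmul_add, map_add, hx, hy, TensorProduct.tmul_add, map_add]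
  | tmul v a =>
    rw [psi_succ_tmul, AlgebraTensorModule.tensorTensorTensorComm_tmul, psi_zero]
    have h1 : r ⊗ₜ[K] v = r • ((1 : R) ⊗ₜ[K] v) := by
      rw [TensorProduct.smul_tmul', smul_eq_mul, mul_one]
    have h2 : r ⊗ₜ[K] a = r • ((1 : R) ⊗ₜ[K] a) := by
      rw [TensorProduct.smul_tmul', smul_eq_mul, mul_one]
    rw [h1, h2, TensorProduct.smul_tmul]

lemma neg_one_pow_smul_K {M : Type*} [AddCommGroup M] [Module K M] (m : ℕ) (x : M) :
    ((-1 : K) ^ m) • x = ((-1 : ℤ) ^ m) • x := by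
  rw [← Int.cast_smul_eq_zsmul K]
  push_cast
  rfl

lemma neg_one_pow_smul_R {M : Type*} [AddCommGroup M] [Module R M] (m : ℕ) (x : M) :
    ((-1 : R) ^ m) • x = ((-1 : ℤ) ^ m) • x := by
  rw [← Int.cast_smul_eq_zsmul R]
  push_cast
  rfl

theorem psi_d : ∀ (n : ℕ) (x : R ⊗[K] (Hoch.cochain K A V n)),
    psi K A V R (n + 1) ((Hoch.d K A V n).baseChange R x) =
      Hoch.d R (R ⊗[K] A) (R ⊗[K] V) n (psi K A V R n x) := by
  intro n
  induction n with
  | zero =>
    intro x
    induction x using TensorProduct.induction_on with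
    | zero => rw [map_zero, map_zero, map_zero, map_zero]
    | add x y hx hy => rw [map_add, map_add, hx, hy, map_add, map_add]
    | tmul r v =>
      rw [LinearMap.baseChange_tmul, Hoch.d_zero_apply, psi_zero, Hoch.d_zero_apply,
        TensorProduct.tmul_sub, map_sub, psi_one_eq, psi_succ_tmul, psi_zero,
        Algebra.TensorProduct.one_def]
      rfl
  | succ n ih =>
    intro x
    induction x using TensorProduct.induction_on with
    | zero => rw [map_zero, map_zero, map_zero, map_zero]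
    | add x y hx hy => rw [map_add, map_add, hx, hy, map_add, map_add]
    | tmul r y =>
      induction y using TensorProduct.induction_on with
      | zero => rw [TensorProduct.tmul_zero, map_zero, map_zero, map_zero, map_zero]
      | add y z hy hz =>
        rw [TensorProduct.tmul_add, map_add, map_add, hy, hz, map_add, map_add]
      | tmul c a =>
        rw [LinearMap.baseChange_tmul, psi_succ_tmul, Hoch.d_succ, Hoch.d_succ]
        rw [LinearMap.add_apply, LinearMap.add_apply, LinearMap.smul_apply, LinearMap.smul_apply,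
          LinearMap.rTensor_tmul, LinearMap.rTensor_tmul, TensorProduct.tmul_add, map_add]
        have h := ih (r ⊗ₜ[K] c)
        rw [LinearMap.baseChange_tmul] at h
        rw [psi_succ_tmul K A V R (n + 1) r (Hoch.d K A V n c) a, h]
        congr 1
        have hR : (-1 : R) ^ (n + 1) = algebraMap K R ((-1 : K) ^ (n + 1)) := by simp
        rw [hR]
        rcases neg_one_pow_eq_or K (n + 1) with hK | hK
        · rw [hK, one_smul, map_one, one_smul, psi_tail]
        · rw [hK, neg_smul, one_smul, map_neg, map_one, neg_smul, one_smul,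
            TensorProduct.tmul_neg, map_neg, psi_tail]

/-! ### cohomology -/

lemma bc_apply_eq_lTensor {M N : Type*} [AddCommGroup M] [Module K M] [AddCommGroup N] [Module K N]
    (f : M →ₗ[K] N) (x : R ⊗[K] M) : f.baseChange R x = f.lTensor R x := rfl

lemma bc_injective {M N : Type*} [AddCommGroup M] [Module K M] [AddCommGroup N] [Module K N]
    (f : M →ₗ[K] N) (hf : Function.Injective f) : Function.Injective (f.baseChange R) :=
  Module.Flat.lTensor_preserves_injective_linearMap (M := R) f hf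

lemma bc_surjective {M N : Type*} [AddCommGroup M] [Module K M] [AddCommGroup N] [Module K N]
    (f : M →ₗ[K] N) (hf : Function.Surjective f) : Function.Surjective (f.baseChange R) :=
  LinearMap.lTensor_surjective R hf

lemma bc_exact {M N P : Type*} [AddCommGroup M] [Module K M] [AddCommGroup N] [Module K N]
    [AddCommGroup P] [Module K P] (f : M →ₗ[K] N) (g : N →ₗ[K] P) (h : Function.Exact f g)
    (y : R ⊗[K] N) : g.baseChange R y = 0 ↔ ∃ x, f.baseChange R x = y :=
  (Module.Flat.lTensor_exact R h) y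

lemma bc_comp_apply {M N P : Type*} [AddCommGroup M] [Module K M] [AddCommGroup N] [Module K N]
    [AddCommGroup P] [Module K P] (f : M →ₗ[K] N) (g : N →ₗ[K] P) (x : R ⊗[K] M) :
    g.baseChange R (f.baseChange R x) = (g ∘ₗ f).baseChange R x := by
  rw [LinearMap.baseChange_comp]; rfl

lemma bc_zero_apply {M N : Type*} [AddCommGroup M] [Module K M] [AddCommGroup N] [Module K N]
    (x : R ⊗[K] M) : (0 : M →ₗ[K] N).baseChange R x = 0 := by
  rw [LinearMap.baseChange_zero]; rfl

/-- cocycle criterion -/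
lemma psi_mem_cocycles_iff (n : ℕ) (x : R ⊗[K] (Hoch.cochain K A V n)) :
    psi K A V R n x ∈ Hoch.cocycles R (R ⊗[K] A) (R ⊗[K] V) n ↔
      (Hoch.d K A V n).baseChange R x = 0 := by
  show Hoch.d R (R ⊗[K] A) (R ⊗[K] V) n (psi K A V R n x) = 0 ↔ _
  rw [← psi_d, LinearEquiv.map_eq_zero_iff]

/-- (e1) -/
lemma cob1 : ∀ (n : ℕ) (y : R ⊗[K] (Hoch.cochain K A V n)),
    psi K A V R n y ∈ Hoch.coboundaries R (R ⊗[K] A) (R ⊗[K] V) n →
      (Hoch.coboundaries K A V n).mkQ.baseChange R y = 0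
  | 0, y, hy => by
    have h0 : psi K A V R 0 y = 0 := (Submodule.mem_bot R).1 hy
    rw [LinearEquiv.map_eq_zero_iff] at h0
    rw [h0, map_zero]
  | m + 1, y, hy => by
    obtain ⟨z', hz'⟩ := hy
    have h1 : psi K A V R (m + 1) y =
        psi K A V R (m + 1) ((Hoch.d K A V m).baseChange R ((psi K A V R m).symm z')) := by
      rw [psi_d, LinearEquiv.apply_symm_apply, hz']
    have h2 := (psi K A V R (m + 1)).injective h1
    rw [h2, bc_comp_apply]
    have h3 : (Hoch.coboundaries K A V (m + 1)).mkQ ∘ₗ Hoch.d K A V m = 0 := by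
      apply LinearMap.ext
      intro c
      exact (Submodule.Quotient.mk_eq_zero _).2 ⟨c, rfl⟩
    rw [h3, bc_zero_apply]

/-- (e2) -/
lemma cob2 : ∀ (n : ℕ) (y : R ⊗[K] ↥(Hoch.coboundaries K A V n)),
    psi K A V R n ((Hoch.coboundaries K A V n).subtype.baseChange R y) ∈
      Hoch.coboundaries R (R ⊗[K] A) (R ⊗[K] V) n
  | 0, y => by
    induction y using TensorProduct.induction_on with
    | zero => rw [map_zero, map_zero]; exact Submodule.zero_mem _
    | add x y hx hy => rw [map_add, map_add]; exact Submodule.add_mem _ hx hy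
    | tmul r b =>
      have hb : (b : Hoch.cochain K A V 0) = 0 := (Submodule.mem_bot K).1 b.2
      rw [LinearMap.baseChange_tmul, Submodule.subtype_apply, hb, TensorProduct.tmul_zero,
        map_zero]
      exact Submodule.zero_mem _
  | m + 1, y => by
    induction y using TensorProduct.induction_on with
    | zero => rw [map_zero, map_zero]; exact Submodule.zero_mem _
    | add x y hx hy => rw [map_add, map_add]; exact Submodule.add_mem _ hx hy
    | tmul r b =>
      obtain ⟨c, hc⟩ := b.2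
      rw [LinearMap.baseChange_tmul, Submodule.subtype_apply, ← hc]
      have h1 : r ⊗ₜ[K] (Hoch.d K A V m c) = (Hoch.d K A V m).baseChange R (r ⊗ₜ[K] c) := by
        rw [LinearMap.baseChange_tmul]
      rw [h1, psi_d]
      exact ⟨_, rfl⟩

section coh
variable (n : ℕ)

/-- `r ⊗ z ↦ [ψ (r ⊗ z)]` -/
noncomputable def g0 : R ⊗[K] ↥(Hoch.cocycles K A V n) →ₗ[R] Hoch.H R (R ⊗[K] A) (R ⊗[K] V) n :=
  (Hoch.H.mk R (R ⊗[K] A) (R ⊗[K] V) n) ∘ₗ
    LinearMap.codRestrict (Hoch.cocycles R (R ⊗[K] A) (R ⊗[K] V) n)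
      ((psi K A V R n).toLinearMap ∘ₗ (Hoch.cocycles K A V n).subtype.baseChange R)
      (fun y => by
        show psi K A V R n ((Hoch.cocycles K A V n).subtype.baseChange R y) ∈ _
        rw [psi_mem_cocycles_iff, bc_comp_apply]
        have h : Hoch.d K A V n ∘ₗ (Hoch.cocycles K A V n).subtype = 0 :=
          LinearMap.comp_ker_subtype _
        rw [h, bc_zero_apply])

lemma g0_apply (y : R ⊗[K] ↥(Hoch.cocycles K A V n)) (hy) :
    g0 K A V R n y = Hoch.H.mk R (R ⊗[K] A) (R ⊗[K] V) n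
      ⟨psi K A V R n ((Hoch.cocycles K A V n).subtype.baseChange R y), hy⟩ := rfl

lemma g0_surjective : Function.Surjective (g0 K A V R n) := by
  intro h'
  obtain ⟨z', rfl⟩ := Submodule.Quotient.mk_surjective _ h'
  have h1 : psi K A V R n ((psi K A V R n).symm z'.1) ∈
      Hoch.cocycles R (R ⊗[K] A) (R ⊗[K] V) n := by
    rw [LinearEquiv.apply_symm_apply]; exact z'.2
  rw [psi_mem_cocycles_iff] at h1
  obtain ⟨y, hy⟩ := (bc_exact K R _ _ (LinearMap.exact_subtype_ker_map (Hoch.d K A V n)) _).1 h1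
  refine ⟨y, ?_⟩
  have hy' : (Hoch.cocycles K A V n).subtype.baseChange R y = (psi K A V R n).symm z'.1 := hy
  have hmem : psi K A V R n ((Hoch.cocycles K A V n).subtype.baseChange R y) ∈
      Hoch.cocycles R (R ⊗[K] A) (R ⊗[K] V) n := by
    rw [hy', LinearEquiv.apply_symm_apply]; exact z'.2
  rw [g0_apply K A V R n y hmem]
  have hz : (⟨psi K A V R n ((Hoch.cocycles K A V n).subtype.baseChange R y), hmem⟩ :
      Hoch.cocycles R (R ⊗[K] A) (R ⊗[K] V) n) = z' :=
    Subtype.ext (by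
      show psi K A V R n ((Hoch.cocycles K A V n).subtype.baseChange R y) = z'.1
      rw [hy', LinearEquiv.apply_symm_apply])
  rw [hz]
  rfl

/-- `H ↪ C/B` -/
noncomputable def iotaH : Hoch.H K A V n →ₗ[K] (Hoch.cochain K A V n) ⧸ Hoch.coboundaries K A V n :=
  ((Hoch.coboundaries K A V n).comap (Hoch.cocycles K A V n).subtype).liftQ
    ((Hoch.coboundaries K A V n).mkQ ∘ₗ (Hoch.cocycles K A V n).subtype)
    (by
      intro x hx
      rw [LinearMap.mem_ker, LinearMap.comp_apply, Submodule.mkQ_apply,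
        Submodule.Quotient.mk_eq_zero]
      exact hx)

lemma iotaH_injective : Function.Injective (iotaH K A V n) := by
  rw [← LinearMap.ker_eq_bot]
  apply Submodule.ker_liftQ_eq_bot
  intro x hx
  rw [LinearMap.mem_ker, LinearMap.comp_apply, Submodule.mkQ_apply,
    Submodule.Quotient.mk_eq_zero] at hx
  exact hx

lemma iotaH_comp : iotaH K A V n ∘ₗ Hoch.H.mk K A V n =
    (Hoch.coboundaries K A V n).mkQ ∘ₗ (Hoch.cocycles K A V n).subtype := by
  apply LinearMap.ext
  intro x
  rfl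

lemma ker_q_eq_ker_g0 :
    LinearMap.ker ((Hoch.H.mk K A V n).baseChange R) = LinearMap.ker (g0 K A V R n) := by
  ext y
  rw [LinearMap.mem_ker, LinearMap.mem_ker]
  have hsq : (iotaH K A V n).baseChange R ((Hoch.H.mk K A V n).baseChange R y) =
      (Hoch.coboundaries K A V n).mkQ.baseChange R
        ((Hoch.cocycles K A V n).subtype.baseChange R y) := by
    rw [bc_comp_apply, bc_comp_apply, iotaH_comp]
  have hmem : psi K A V R n ((Hoch.cocycles K A V n).subtype.baseChange R y) ∈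
      Hoch.cocycles R (R ⊗[K] A) (R ⊗[K] V) n := by
    rw [psi_mem_cocycles_iff, bc_comp_apply]
    have h : Hoch.d K A V n ∘ₗ (Hoch.cocycles K A V n).subtype = 0 :=
      LinearMap.comp_ker_subtype _
    rw [h, bc_zero_apply]
  rw [g0_apply K A V R n y hmem]
  have hmk : Hoch.H.mk R (R ⊗[K] A) (R ⊗[K] V) n
      ⟨psi K A V R n ((Hoch.cocycles K A V n).subtype.baseChange R y), hmem⟩ = 0 ↔
      psi K A V R n ((Hoch.cocycles K A V n).subtype.baseChange R y) ∈
        Hoch.coboundaries R (R ⊗[K] A) (R ⊗[K] V) n := by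
    show Submodule.Quotient.mk _ = 0 ↔ _
    rw [Submodule.Quotient.mk_eq_zero]
    rfl
  rw [hmk]
  constructor
  · intro hq
    have h1 : (Hoch.coboundaries K A V n).mkQ.baseChange R
        ((Hoch.cocycles K A V n).subtype.baseChange R y) = 0 := by
      rw [← hsq, hq, map_zero]
    obtain ⟨y', hy'⟩ := (bc_exact K R _ _
      (LinearMap.exact_subtype_mkQ (Hoch.coboundaries K A V n)) _).1 h1
    rw [← hy']
    exact cob2 K A V R n y'
  · intro hb
    have h1 := cob1 K A V R n _ hb
    rw [← hsq] at h1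
    have h2 := bc_injective K R _ (iotaH_injective K A V n)
    exact h2 (by rw [h1, map_zero])

/-- the base change isomorphism on cohomology -/
noncomputable def eH : R ⊗[K] Hoch.H K A V n ≃ₗ[R] Hoch.H R (R ⊗[K] A) (R ⊗[K] V) n :=
  (LinearMap.quotKerEquivOfSurjective ((Hoch.H.mk K A V n).baseChange R)
      (bc_surjective K R _ (Submodule.mkQ_surjective _))).symm ≪≫ₗ
    Submodule.quotEquivOfEq _ _ (ker_q_eq_ker_g0 K A V R n) ≪≫ₗ
    LinearMap.quotKerEquivOfSurjective (g0 K A V R n) (g0_surjective K A V R n)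

lemma eH_apply (r : R) (z : Hoch.cocycles K A V n) :
    eH K A V R n (r ⊗ₜ[K] Hoch.H.mk K A V n z) = g0 K A V R n (r ⊗ₜ[K] z) := by
  have h1 : r ⊗ₜ[K] Hoch.H.mk K A V n z = (Hoch.H.mk K A V n).baseChange R (r ⊗ₜ[K] z) := by
    rw [LinearMap.baseChange_tmul]
  rw [h1]
  show (LinearMap.quotKerEquivOfSurjective (g0 K A V R n) (g0_surjective K A V R n))
    (Submodule.quotEquivOfEq _ _ (ker_q_eq_ker_g0 K A V R n)
      ((LinearMap.quotKerEquivOfSurjective ((Hoch.H.mk K A V n).baseChange R)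
        (bc_surjective K R _ (Submodule.mkQ_surjective _))).symm
          ((Hoch.H.mk K A V n).baseChange R (r ⊗ₜ[K] z)))) = _
  rw [LinearMap.quotKerEquivOfSurjective_symm_apply, Submodule.quotEquivOfEq_mk,
    LinearMap.quotKerEquivOfSurjective_apply_mk]

end coh

end H12HBC
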