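import Mathlib

set_option autoImplicit false
set_option linter.style.haveILetI false
set_option linter.unusedSectionVars false
universe u v

namespace H12IL

open Submodule

section
variable (A : Type u) [CommRing A] (I : Ideal A)
  (M : ℕ → Type v) [∀ n, AddCommGroup (M n)] [∀ n, Module A (M n)]
  (f : ∀ n, M (n + 1) →ₗ[A] M n)

lemma exists_family (hf : ∀ n, Function.Surjective (f n)) (y0 : M 0) :
    ∃ y : ∀ n, M n, y 0 = y0 ∧ ∀ n, f n (y (n + 1)) = y n := by
  let g : ∀ n, M n := fun n =>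
    Nat.rec (motive := fun n => M n) y0 (fun n prev => Classical.choose (hf n prev)) n
  refine ⟨g, rfl, fun n => ?_⟩
  exact Classical.choose_spec (hf n (g n))

lemma nak {N : Type*} [AddCommGroup N] [Module A N] (J : Ideal A) (S : Submodule A N)
    (h1 : S ⊔ J • (⊤ : Submodule A N) = ⊤) (h2 : (J * J) • (⊤ : Submodule A N) = ⊥) : S = ⊤ := by
  have h3 : J • (⊤ : Submodule A N) ≤ S := by
    calc J • (⊤ : Submodule A N) = J • (S ⊔ J • (⊤ : Submodule A N)) := by rw [h1]
      _ = J • S ⊔ J • (J • (⊤ : Submodule A N)) := Submodule.smul_sup _ _ _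
      _ = J • S ⊔ (J * J) • (⊤ : Submodule A N) := by rw [Submodule.mul_smul]
      _ = J • S := by rw [h2, sup_bot_eq]
      _ ≤ S := Submodule.smul_le_right
  rw [← h1]
  exact (sup_eq_left.2 h3).symm

variable (L : Type v) [AddCommGroup L] [Module A L] (π : ∀ n, L →ₗ[A] M n)

lemma span_top {r : ℕ} (x : Fin r → L)
    (hker : ∀ n, LinearMap.ker (f n) = I ^ (n + 1) • (⊤ : Submodule A (M (n + 1))))
    (hkill : ∀ n, I ^ (n + 1) • (⊤ : Submodule A (M n)) = ⊥)
    (hπ : ∀ n, f n ∘ₗ π (n + 1) = π n)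
    (h0 : Submodule.span A (Set.range (fun i => π 0 (x i))) = ⊤) :
    ∀ n, Submodule.span A (Set.range (fun i => π n (x i))) = ⊤ := by
  intro n
  induction n with
  | zero => exact h0
  | succ n ih =>
    apply nak A (I ^ (n + 1))
    · rw [← hker n, eq_top_iff]
      intro z _
      have hz : f n z ∈ Submodule.span A (Set.range (fun i => π n (x i))) := by
        rw [ih]; trivial
      rw [Submodule.mem_span_range_iff_exists_fun] at hz
      obtain ⟨c, hc⟩ := hz
      have hk : z - ∑ i, c i • π (n + 1) (x i) ∈ LinearMap.ker (f n) := by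
        rw [LinearMap.mem_ker, map_sub, map_sum, sub_eq_zero, ← hc]
        apply Finset.sum_congr rfl
        intro i _
        rw [map_smul, ← LinearMap.comp_apply, hπ n]
      have hz2 : z = ∑ i, c i • π (n + 1) (x i) + (z - ∑ i, c i • π (n + 1) (x i)) := by abel
      rw [hz2]
      exact Submodule.add_mem_sup
        (Submodule.sum_mem _ fun i _ => Submodule.smul_mem _ _ (Submodule.subset_span ⟨i, rfl⟩)) hk
    · rw [eq_bot_iff, ← hkill (n + 1)]
      apply Submodule.smul_mono_left
      rw [← pow_add]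
      exact Ideal.pow_le_pow_right (by omega)

lemma step2 {r : ℕ} (x : Fin r → L)
    (hker : ∀ n, LinearMap.ker (f n) = I ^ (n + 1) • (⊤ : Submodule A (M (n + 1))))
    (hπ : ∀ n, f n ∘ₗ π (n + 1) = π n)
    (hspan : ∀ n, Submodule.span A (Set.range (fun i => π n (x i))) = ⊤)
    (y : L) (n : ℕ) (a : Fin r → A) (ha : π n y = ∑ i, a i • π n (x i)) :
    ∃ a' : Fin r → A, π (n + 1) y = ∑ i, a' i • π (n + 1) (x i) ∧
      ∀ i, a' i - a i ∈ I ^ (n + 1) := by
  have hzker : π (n + 1) y - ∑ i, a i • π (n + 1) (x i) ∈ LinearMap.ker (f n) := by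
    rw [LinearMap.mem_ker, map_sub, map_sum, ← LinearMap.comp_apply, hπ n, ha, sub_eq_zero]
    apply Finset.sum_congr rfl
    intro i _
    rw [map_smul, ← LinearMap.comp_apply, hπ n]
  rw [hker n, ← hspan (n + 1), Submodule.mem_ideal_smul_span_iff_exists_sum] at hzker
  obtain ⟨c, hcI, hc⟩ := hzker
  refine ⟨fun i => a i + c i, ?_, fun i => by simpa using hcI i⟩
  have h1 : π (n + 1) y = (π (n + 1) y - ∑ i, a i • π (n + 1) (x i)) +
      ∑ i, a i • π (n + 1) (x i) := by abel
  have hsum : (c.sum fun i c => c • π (n + 1) (x i)) = ∑ i, c i • π (n + 1) (x i) :=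
    Finsupp.sum_fintype _ _ (fun i => zero_smul _ _)
  rw [h1, ← hc, hsum, ← Finset.sum_add_distrib]
  apply Finset.sum_congr rfl
  intro i _
  rw [add_smul]
  exact add_comm _ _

lemma exists_seq {r : ℕ} (x : Fin r → L)
    (hker : ∀ n, LinearMap.ker (f n) = I ^ (n + 1) • (⊤ : Submodule A (M (n + 1))))
    (hπ : ∀ n, f n ∘ₗ π (n + 1) = π n)
    (hspan : ∀ n, Submodule.span A (Set.range (fun i => π n (x i))) = ⊤) (y : L) :
    ∃ a : ℕ → Fin r → A, (∀ n, π n y = ∑ i, a n i • π n (x i)) ∧
      ∀ n i, a (n + 1) i - a n i ∈ I ^ (n + 1) := by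
  have h0' : ∃ c : Fin r → A, ∑ i, c i • π 0 (x i) = π 0 y := by
    rw [← Submodule.mem_span_range_iff_exists_fun, hspan 0]; trivial
  have hstep := step2 A I M f L π x hker hπ hspan y
  let s : ∀ n, {a : Fin r → A // π n y = ∑ i, a i • π n (x i)} := fun n =>
    Nat.rec (motive := fun n => {a : Fin r → A // π n y = ∑ i, a i • π n (x i)})
      ⟨Classical.choose h0', (Classical.choose_spec h0').symm⟩
      (fun n sn => ⟨Classical.choose (hstep n sn.1 sn.2),
        (Classical.choose_spec (hstep n sn.1 sn.2)).1⟩) n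
  refine ⟨fun n => (s n).1, fun n => (s n).2, fun n i => ?_⟩
  exact (Classical.choose_spec (hstep n (s n).1 (s n).2)).2 i

end

section main
variable (A : Type u) [CommRing A] (I : Ideal A)
  (M : ℕ → Type v) [∀ n, AddCommGroup (M n)] [∀ n, Module A (M n)]
  (f : ∀ n, M (n + 1) →ₗ[A] M n)
  (L : Type v) [AddCommGroup L] [Module A L] (π : ∀ n, L →ₗ[A] M n)

theorem main (hI : I.FG) [∀ n, Module.Finite A (M n)]
    (hf : ∀ n, Function.Surjective (f n))
    (hker : ∀ n, LinearMap.ker (f n) = I ^ (n + 1) • (⊤ : Submodule A (M (n + 1))))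
    (hkill : ∀ n, I ^ (n + 1) • (⊤ : Submodule A (M n)) = ⊥)
    (hπ : ∀ n, f n ∘ₗ π (n + 1) = π n)
    (hinj : ∀ x : L, (∀ n, π n x = 0) → x = 0)
    (hlift : ∀ y : (∀ n, M n), (∀ n, f n (y (n + 1)) = y n) → ∃ x : L, ∀ n, π n x = y n)
    [Module (AdicCompletion I A) L] [IsScalarTower A (AdicCompletion I A) L] :
    Module.Finite (AdicCompletion I A) L := by
  classical
  obtain ⟨r, y0, hy0⟩ := Module.Finite.exists_fin (R := A) (M := M 0)
  have hx : ∀ i, ∃ xi : L, π 0 xi = y0 i := by
    intro i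
    obtain ⟨fam, hfam0, hfam⟩ := exists_family A M f hf (y0 i)
    obtain ⟨xi, hxi⟩ := hlift fam hfam
    exact ⟨xi, by rw [hxi 0, hfam0]⟩
  choose x hx using hx
  have h0 : Submodule.span A (Set.range (fun i => π 0 (x i))) = ⊤ := by
    have : (fun i => π 0 (x i)) = y0 := funext hx
    rw [this]; exact hy0
  have hspan := span_top A I M f L π x hker hkill hπ h0
  have hkillL : ∀ (n : ℕ) (b : AdicCompletion I A),
      b ∈ (I ^ (n + 1) • ⊤ : Submodule A (AdicCompletion I A)) → ∀ z : L, π n (b • z) = 0 := by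
    intro n b hb z
    refine Submodule.smul_induction_on hb ?_ ?_
    · intro c hc b' _
      rw [smul_assoc, map_smul]
      have : c • π n (b' • z) ∈ I ^ (n + 1) • (⊤ : Submodule A (M n)) :=
        Submodule.smul_mem_smul hc trivial
      rw [hkill n] at this
      exact this
    · intro b1 b2 h1 h2
      rw [add_smul, map_add, h1, h2, add_zero]
  refine ⟨⟨Finset.univ.image x, ?_⟩⟩
  rw [eq_top_iff]
  intro y _
  obtain ⟨a, ha, hcauchy⟩ := exists_seq A I M f L π x hker hπ hspan y
  have hc : ∀ i n, (fun n => a n i) n ≡ (fun n => a n i) (n + 1)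
      [SMOD (I ^ n • ⊤ : Submodule A A)] := by
    intro i n
    rw [SModEq.sub_mem, smul_eq_mul, Ideal.mul_top]
    have h1 := Ideal.pow_le_pow_right (Nat.le_succ n) (hcauchy n i)
    rw [← neg_sub]
    exact neg_mem h1
  let ah : Fin r → AdicCompletion I A := fun i =>
    AdicCompletion.mk I A (AdicCompletion.AdicCauchySequence.mk I A (fun n => a n i) (hc i))
  have hy : y = ∑ i, ah i • x i := by
    apply eq_of_sub_eq_zero
    apply hinj
    intro n
    rw [map_sub, map_sum, sub_eq_zero, ha n]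
    apply Finset.sum_congr rfl
    intro i _
    have hb : ah i - algebraMap A (AdicCompletion I A) (a n i) ∈
        (I ^ (n + 1) • ⊤ : Submodule A (AdicCompletion I A)) := by
      rw [AdicCompletion.pow_smul_top_eq_ker_eval hI, LinearMap.mem_ker, map_sub,
        AdicCompletion.algebraMap_apply, AdicCompletion.eval_of]
      show Submodule.mkQ _ (a (n + 1) i) - Submodule.mkQ _ (a n i) = 0
      rw [← map_sub, Submodule.mkQ_apply, Submodule.Quotient.mk_eq_zero, smul_eq_mul,
        Ideal.mul_top]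
      exact hcauchy n i
    have h2 := hkillL n _ hb (x i)
    rw [sub_smul, map_sub, sub_eq_zero, algebraMap_smul] at h2
    rw [h2, LinearMap.map_smul]
  rw [hy]
  refine Submodule.sum_mem _ (fun i _ => Submodule.smul_mem _ _ (Submodule.subset_span ?_))
  simp

end main

end H12IL
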