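import Mathlib

/-!
# Kaplansky's theorem on radical field extensions (helper lemmas)
-/

set_option autoImplicit false
set_option linter.style.haveILetI false
universe u

namespace H12Kap

open Polynomial

theorem zeta_inj {Ω : Type*} [Field Ω] (u v c c' : Ω) (hne : u ≠ v) (hc : u + c ≠ 0)
    (hc' : u + c' ≠ 0) (h : (v + c) / (u + c) = (v + c') / (u + c')) : c = c' := by
  rw [div_eq_div_iff hc hc'] at h
  have h2 : (v - u) * (c' - c) = 0 := by linear_combination h
  rcases mul_eq_zero.1 h2 with h3 | h3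
  · exact absurd (sub_eq_zero.1 h3).symm hne
  · exact (sub_eq_zero.1 h3).symm

theorem core {F Ω : Type*} [Field F] [Field Ω] [Algebra F Ω] (u v : Ω) (S : Set Ω)
    (h0 : (0 : Ω) ∈ S) (h1 : (1 : Ω) ∈ S) (hne : u ≠ v)
    (hS : ∀ c ∈ S, u + c ≠ 0 ∧ ∃ n : ℕ, 0 < n ∧ (v + c) ^ n = (u + c) ^ n) :
    u ∈ algebraicClosure F Ω ∧ v ∈ algebraicClosure F Ω ∧
      ∀ c ∈ S, c ∈ algebraicClosure F Ω := by
  have hz : ∀ c ∈ S, (v + c) / (u + c) ∈ algebraicClosure F Ω ∧ (v + c) / (u + c) ≠ 1 ∧
      (v + c) / (u + c) * (u + c) = v + c := by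
    intro c hc
    obtain ⟨hnz, n, hn, hpow⟩ := hS c hc
    refine ⟨?_, ?_, div_mul_cancel₀ _ hnz⟩
    · rw [mem_algebraicClosure_iff']
      refine IsIntegral.of_pow hn ?_
      rw [div_pow, hpow, div_self (pow_ne_zero _ hnz)]
      exact isIntegral_one
    · intro h
      rw [div_eq_one_iff_eq hnz] at h
      exact hne (add_right_cancel h).symm
  obtain ⟨hz0m, -, hz0⟩ := hz 0 h0
  obtain ⟨hz1m, hz1ne, -⟩ := hz 1 h1
  have key : ∀ c ∈ S, u * ((v + c) / (u + c) - (v + 0) / (u + 0)) =
      c * (1 - (v + c) / (u + c)) := by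
    intro c hc
    obtain ⟨-, -, h⟩ := hz c hc
    linear_combination h - hz0
  have hnz : ∀ c ∈ S, c ≠ 0 → (1 - (v + c) / (u + c)) ≠ 0 ∧
      ((v + c) / (u + c) - (v + 0) / (u + 0)) ≠ 0 := by
    intro c hc hc0
    have h1' : (1 - (v + c) / (u + c)) ≠ 0 := sub_ne_zero.2 (hz c hc).2.1.symm
    refine ⟨h1', fun h => ?_⟩
    have := key c hc
    rw [h, mul_zero] at this
    exact (mul_ne_zero hc0 h1') this.symm
  have hu : u ∈ algebraicClosure F Ω := by
    obtain ⟨ha, hb⟩ := hnz 1 h1 one_ne_zero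
    have : u = (1 * (1 - (v + 1) / (u + 1))) / ((v + 1) / (u + 1) - (v + 0) / (u + 0)) :=
      eq_div_of_mul_eq hb (key 1 h1)
    rw [this]
    exact div_mem (mul_mem (one_mem _) (sub_mem (one_mem _) hz1m)) (sub_mem hz1m hz0m)
  have hv : v ∈ algebraicClosure F Ω := by
    have : v = (v + 0) / (u + 0) * u := by
      have := hz0
      rw [add_zero, add_zero] at this ⊢
      exact this.symm
    rw [this]
    exact mul_mem hz0m hu
  refine ⟨hu, hv, fun c hc => ?_⟩
  by_cases hc0 : c = 0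
  · rw [hc0]; exact zero_mem _
  obtain ⟨ha, hb⟩ := hnz c hc hc0
  have : c = u * ((v + c) / (u + c) - (v + 0) / (u + 0)) / (1 - (v + c) / (u + c)) :=
    eq_div_of_mul_eq ha (key c hc).symm
  rw [this]
  exact div_mem (mul_mem hu (sub_mem (hz c hc).1 hz0m)) (sub_mem (one_mem _) (hz c hc).1)

theorem exists_pow_eq_one_of_isAlgebraic_bot {K : Type*} [Field K] (p : ℕ) [Fact p.Prime]
    [CharP K p] (y : K) (hy : y ≠ 0) (halg : IsAlgebraic (⊥ : Subfield K) y) :
    ∃ N : ℕ, 0 < N ∧ y ^ N = 1 := by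
  letI := Subfield.fintypeBot K p
  let E := IntermediateField.adjoin (⊥ : Subfield K) ({y} : Set K)
  haveI : FiniteDimensional (⊥ : Subfield K) E :=
    IntermediateField.adjoin.finiteDimensional halg.isIntegral
  haveI : Finite E := Module.finite_of_finite (⊥ : Subfield K)
  let y' : E := ⟨y, IntermediateField.mem_adjoin_simple_self _ y⟩
  have hy' : y' ≠ 0 := fun h => hy (congrArg Subtype.val h)
  let w : Eˣ := Units.mk0 y' hy'
  have hfin := isOfFinOrder_of_finite w
  refine ⟨orderOf w, hfin.orderOf_pos, ?_⟩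
  have h1 := pow_orderOf_eq_one w
  have h2 : y' ^ orderOf w = 1 := by
    have := congrArg Units.val h1
    rwa [Units.val_pow_eq_pow_val, Units.val_mk0, Units.val_one] at this
  have h3 := congrArg Subtype.val h2
  simpa [y'] using h3

theorem main {k k' : Type u} [Field k] [Field k'] [Algebra k k']
    (H : ∀ x : k', ∃ n : ℕ, 0 < n ∧ x ^ n ∈ Set.range (algebraMap k k'))
    (x : k') (hxsep : IsSeparable k x) (hxr : x ∉ Set.range (algebraMap k k')) :
    ∃ p : ℕ, p.Prime ∧ CharP k' p ∧ Algebra.IsAlgebraic (⊥ : Subfield k') k' := by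
  classical
  have hint : Algebra.IsIntegral k k' := ⟨fun z => by
    obtain ⟨n, hn, a, ha⟩ := H z
    exact IsIntegral.of_pow hn (ha ▸ isIntegral_algebraMap)⟩
  let Ω := AlgebraicClosure k'
  have hx_int : IsIntegral k x := hint.isIntegral x
  have hdeg : 2 ≤ (minpoly k x).natDegree :=
    (minpoly.two_le_natDegree_iff hx_int).2 (fun ⟨a, ha⟩ => hxr ⟨a, ha⟩)
  have hsplit : ((minpoly k x).map (algebraMap k Ω)).Splits := IsAlgClosed.splits _
  have hsepΩ : ((minpoly k x).map (algebraMap k Ω)).Separable := Separable.map hxsep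
  have hnodup : ((minpoly k x).map (algebraMap k Ω)).roots.Nodup := nodup_roots hsepΩ
  have hcard : ((minpoly k x).map (algebraMap k Ω)).roots.card = (minpoly k x).natDegree := by
    rw [← natDegree_map (algebraMap k Ω)]
    exact splits_iff_card_roots.1 hsplit
  have hcard2 : 1 < ((minpoly k x).map (algebraMap k Ω)).roots.toFinset.card := by
    rw [Multiset.toFinset_card_of_nodup hnodup, hcard]; omega
  obtain ⟨y, hy, hyne⟩ := Finset.exists_mem_ne hcard2 (algebraMap k' Ω x)
  rw [Multiset.mem_toFinset, mem_roots (Polynomial.map_ne_zero (minpoly.ne_zero hx_int))] at hy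
  have hy' : aeval y (minpoly k x) = 0 := by rwa [IsRoot.def, eval_map_algebraMap] at hy
  obtain ⟨σ, hσ⟩ := IntermediateField.exists_algHom_of_splits_of_aeval (F := k) (E := k') (K := Ω)
    (fun s => ⟨hint.isIntegral s, IsAlgClosed.splits _⟩) hy'
  set u : Ω := algebraMap k' Ω x with hu_def
  have hne : u ≠ y := hyne.symm
  let S : Set Ω := Set.range (algebraMap k Ω)
  have hS : ∀ c ∈ S, u + c ≠ 0 ∧ ∃ n : ℕ, 0 < n ∧ (y + c) ^ n = (u + c) ^ n := by
    rintro _ ⟨c, rfl⟩
    have hz : x + algebraMap k k' c ≠ 0 := fun h =>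
      hxr ⟨-c, by rw [map_neg]; exact (eq_neg_of_add_eq_zero_left h).symm⟩
    have e0 : u + algebraMap k Ω c = algebraMap k' Ω (x + algebraMap k k' c) := by
      rw [map_add, ← IsScalarTower.algebraMap_apply]
    constructor
    · rw [e0]; exact (_root_.map_ne_zero _).2 hz
    · obtain ⟨n, hn, a, ha⟩ := H (x + algebraMap k k' c)
      refine ⟨n, hn, ?_⟩
      have e1 : (y + algebraMap k Ω c) ^ n = σ ((x + algebraMap k k' c) ^ n) := by
        rw [map_pow, map_add, σ.commutes, hσ]
      have e2 : (u + algebraMap k Ω c) ^ n = algebraMap k' Ω ((x + algebraMap k k' c) ^ n) := by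
        rw [map_pow, e0]
      rw [e1, e2, ← ha, σ.commutes, ← IsScalarTower.algebraMap_apply]
  have hS0 : (0 : Ω) ∈ S := ⟨0, map_zero _⟩
  have hS1 : (1 : Ω) ∈ S := ⟨1, map_one _⟩
  obtain ⟨p, hp⟩ := CharP.exists k'
  rcases CharP.char_is_prime_or_zero k' p with hpp | hp0
  · haveI : Fact p.Prime := ⟨hpp⟩
    haveI : CharP Ω p := charP_of_injective_algebraMap (algebraMap k' Ω).injective p
    obtain ⟨-, -, hc⟩ := core (F := (⊥ : Subfield Ω)) u y S hS0 hS1 hne hS
    have hk : ∀ c : k, c ≠ 0 → ∃ N : ℕ, 0 < N ∧ c ^ N = 1 := by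
      intro c hc0
      have hmem := hc _ ⟨c, rfl⟩
      rw [mem_algebraicClosure_iff] at hmem
      obtain ⟨N, hN, hpow⟩ := exists_pow_eq_one_of_isAlgebraic_bot p (algebraMap k Ω c)
        ((_root_.map_ne_zero _).2 hc0) hmem
      exact ⟨N, hN, (algebraMap k Ω).injective (by rw [map_pow, hpow, map_one])⟩
    refine ⟨p, hpp, hp, ⟨fun z => ?_⟩⟩
    by_cases hz0 : z = 0
    · rw [hz0]; exact isAlgebraic_zero
    obtain ⟨n, hn, a, ha⟩ := H z
    have ha0 : a ≠ 0 := by
      rintro rfl
      rw [map_zero] at ha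
      exact hz0 ((pow_eq_zero_iff hn.ne').1 ha.symm)
    obtain ⟨N, hN, hpow⟩ := hk a ha0
    have hzN : z ^ (n * N) = 1 := by rw [pow_mul, ← ha, ← map_pow, hpow, map_one]
    exact (IsIntegral.of_pow (Nat.mul_pos hn hN) (hzN ▸ isIntegral_one)).isAlgebraic
  · exfalso
    subst hp0
    haveI : CharZero k' := CharP.charP_to_charZero k'
    haveI : CharZero Ω := charZero_of_injective_algebraMap (algebraMap k' Ω).injective
    obtain ⟨hu, hv, -⟩ := core (F := ℚ) u y S hS0 hS1 hne hS
    rw [mem_algebraicClosure_iff'] at hu hv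
    let L := IntermediateField.adjoin ℚ ({u, y} : Set Ω)
    haveI : FiniteDimensional ℚ L := IntermediateField.finiteDimensional_adjoin_pair hu hv
    haveI : CharZero L := charZero_of_injective_algebraMap (algebraMap ℚ L).injective
    haveI : NumberField L := { to_charZero := inferInstance, to_finiteDimensional := inferInstance }
    have huL : u ∈ L := IntermediateField.subset_adjoin _ _ (by simp)
    have hvL : y ∈ L := IntermediateField.subset_adjoin _ _ (by simp)
    have hcS : ∀ c : ℕ, (c : Ω) ∈ S := fun c => ⟨(c : k), map_natCast _ c⟩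
    let g : ℕ → L := fun c => ⟨(y + (c : Ω)) / (u + (c : Ω)),
      div_mem (add_mem hvL (natCast_mem L c)) (add_mem huL (natCast_mem L c))⟩
    have ginj : Function.Injective g := by
      intro c c' h
      have h' : (y + (c : Ω)) / (u + (c : Ω)) = (y + (c' : Ω)) / (u + (c' : Ω)) :=
        congrArg Subtype.val h
      have := zeta_inj u y c c' hne (hS _ (hcS c)).1 (hS _ (hcS c')).1 h'
      exact_mod_cast this
    have gmem : ∀ c, g c ∈ {x : L | IsIntegral ℤ x ∧ ∀ φ : L →+* ℂ, ‖φ x‖ ≤ 1} := by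
      intro c
      obtain ⟨hnz, n, hn, hpow⟩ := hS _ (hcS c)
      have h1 : (g c) ^ n = 1 := by
        apply Subtype.ext
        show ((y + (c : Ω)) / (u + (c : Ω))) ^ n = 1
        rw [div_pow, hpow, div_self (pow_ne_zero _ hnz)]
      refine ⟨IsIntegral.of_pow hn (h1 ▸ isIntegral_one), fun φ => ?_⟩
      have : (φ (g c)) ^ n = 1 := by rw [← map_pow, h1, map_one]
      exact (Complex.norm_eq_one_of_pow_eq_one this hn.ne').le
    exact (Set.infinite_of_injective_forall_mem ginj gmem)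
      (NumberField.Embeddings.finite_of_norm_le L ℂ 1)

end H12Kap
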