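import Mathlib
import Groth.Prelude.Def_ComodSub
import Groth.Agent.Lib.helper12.DualFP

/-!
# Existence of the left dual comodule structure on `M^*` (`M` finitely presented, `A` flat)
-/

set_option linter.style.haveILetI false

namespace H12LD
open TensorProduct

universe u v w

variable {k : Type u} [CommRing k] {A : Type v} [AddCommGroup A] [Module k A] [Coalgebra k A]
  {M : Type w} [AddCommGroup M] [Module k M]

/-- `a ⊗ φ ↦ (m ↦ φ m • a)`. -/
noncomputable def Φ : A ⊗[k] Module.Dual k M →ₗ[k] (M →ₗ[k] A) :=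
  dualTensorHom k M A ∘ₗ (TensorProduct.comm k A (Module.Dual k M)).toLinearMap

@[simp] lemma Φ_tmul (a : A) (φ : Module.Dual k M) (m : M) :
    Φ (k := k) (a ⊗ₜ[k] φ) m = φ m • a := by simp [Φ]

lemma Φ_bijective [Module.Flat k A] [Module.FinitePresentation k M] :
    Function.Bijective (Φ (k := k) (A := A) (M := M)) :=
  (H12DFP.dualTensorHom_bijective_of_fp_flat k M A).comp
    (TensorProduct.comm k A (Module.Dual k M)).bijective

/-- `ldualFun` as a linear map. -/
noncomputable def L (c : HopfRep.Comod k A M) : Module.Dual k M →ₗ[k] (M →ₗ[k] A) where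
  toFun g := ComodSub.ldualFun c g
  map_add' g g' := by
    ext m
    simp [ComodSub.ldualFun_apply, LinearMap.rTensor_add]
  map_smul' r g := by
    ext m
    simp [ComodSub.ldualFun_apply, LinearMap.rTensor_smul]

/-- the reassociation. -/
noncomputable def e₂ : A ⊗[k] (A ⊗[k] Module.Dual k M) ≃ₗ[k] Module.Dual k M ⊗[k] (A ⊗[k] A) :=
  (TensorProduct.assoc k A A (Module.Dual k M)).symm ≪≫ₗ
    TensorProduct.comm k (A ⊗[k] A) (Module.Dual k M)

/-- `a ⊗ (a' ⊗ φ) ↦ (m ↦ φ m • (a ⊗ a'))`. -/
noncomputable def Φ₂ : A ⊗[k] (A ⊗[k] Module.Dual k M) →ₗ[k] (M →ₗ[k] A ⊗[k] A) :=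
  dualTensorHom k M (A ⊗[k] A) ∘ₗ (e₂ (k := k) (A := A) (M := M)).toLinearMap

@[simp] lemma Φ₂_tmul (a a' : A) (φ : Module.Dual k M) (m : M) :
    Φ₂ (k := k) (a ⊗ₜ[k] (a' ⊗ₜ[k] φ)) m = φ m • (a ⊗ₜ[k] a') := by simp [Φ₂, e₂]

lemma Φ₂_injective [Module.Flat k A] [Module.FinitePresentation k M] :
    Function.Injective (Φ₂ (k := k) (A := A) (M := M)) := by
  have h1 := (H12DFP.dualTensorHom_bijective_of_fp_flat k M (A ⊗[k] A)).1
  intro x y hxy
  exact (e₂ (k := k) (A := A) (M := M)).injective (h1 hxy)

lemma Φ₂_tmul' (a : A) (W : A ⊗[k] Module.Dual k M) (m : M) :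
    Φ₂ (k := k) (a ⊗ₜ[k] W) m = a ⊗ₜ[k] Φ (k := k) W m := by
  induction W using TensorProduct.induction_on with
  | zero => simp
  | add x y hx hy => simp only [TensorProduct.tmul_add, map_add, LinearMap.add_apply, hx, hy]
  | tmul a' φ => simp only [Φ₂_tmul, Φ_tmul, TensorProduct.tmul_smul]

lemma Φ₂_assoc (Y : A ⊗[k] A) (φ : Module.Dual k M) (m : M) :
    Φ₂ (k := k) (TensorProduct.assoc k A A (Module.Dual k M) (Y ⊗ₜ[k] φ)) m = φ m • Y := by
  induction Y using TensorProduct.induction_on with
  | zero => simp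
  | add x y hx hy =>
    simp only [TensorProduct.add_tmul, map_add, LinearMap.add_apply, hx, hy, smul_add]
  | tmul a a' => simp only [TensorProduct.assoc_tmul, Φ₂_tmul]

section
variable [Module.Flat k A] [Module.FinitePresentation k M]

/-- the left coaction on the dual. -/
noncomputable def lam (c : HopfRep.Comod k A M) : Module.Dual k M →ₗ[k] A ⊗[k] Module.Dual k M :=
  (LinearEquiv.ofBijective (Φ (k := k) (A := A) (M := M)) Φ_bijective).symm.toLinearMap ∘ₗ L c

lemma Φ_lam (c : HopfRep.Comod k A M) (g : Module.Dual k M) :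
    Φ (k := k) (lam c g) = ComodSub.ldualFun c g := by
  have := (LinearEquiv.ofBijective (Φ (k := k) (A := A) (M := M)) Φ_bijective).apply_symm_apply
    (L c g)
  rw [LinearEquiv.ofBijective_apply] at this
  exact this

lemma I1 (c : HopfRep.Comod k A M) (Z : A ⊗[k] Module.Dual k M) :
    Φ₂ (k := k) ((lam c).lTensor A Z) = (Φ (k := k) Z).rTensor A ∘ₗ c.coact := by
  induction Z using TensorProduct.induction_on with
  | zero => simp
  | add x y hx hy => simp only [map_add, hx, hy, LinearMap.rTensor_add, LinearMap.add_comp]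
  | tmul a g =>
    ext m
    rw [LinearMap.lTensor_tmul, Φ₂_tmul', Φ_lam, ComodSub.ldualFun_apply, LinearMap.comp_apply]
    generalize c.coact m = z
    induction z using TensorProduct.induction_on with
    | zero => simp
    | add x y hx hy => simp only [map_add, TensorProduct.tmul_add, hx, hy]
    | tmul m' a' =>
      simp only [LinearMap.rTensor_tmul, TensorProduct.lid_tmul, Φ_tmul, TensorProduct.tmul_smul,
        TensorProduct.smul_tmul']

lemma I2 (Z : A ⊗[k] Module.Dual k M) :
    Φ₂ (k := k) (TensorProduct.assoc k A A (Module.Dual k M)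
      ((CoalgebraStruct.comul (R := k) (A := A)).rTensor (Module.Dual k M) Z)) =
      (CoalgebraStruct.comul (R := k) (A := A)) ∘ₗ Φ (k := k) Z := by
  induction Z using TensorProduct.induction_on with
  | zero => simp
  | add x y hx hy => simp only [map_add, hx, hy, LinearMap.comp_add]
  | tmul a φ =>
    ext m
    rw [LinearMap.rTensor_tmul, Φ₂_assoc, LinearMap.comp_apply, Φ_tmul, map_smul]

lemma I3 (Z : A ⊗[k] Module.Dual k M) :
    TensorProduct.lid k (Module.Dual k M)
      ((CoalgebraStruct.counit (R := k) (A := A)).rTensor (Module.Dual k M) Z) =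
      (CoalgebraStruct.counit (R := k) (A := A)) ∘ₗ Φ (k := k) Z := by
  induction Z using TensorProduct.induction_on with
  | zero => simp
  | add x y hx hy => simp only [map_add, hx, hy, LinearMap.comp_add]
  | tmul a φ =>
    ext m
    simp [mul_comm]

theorem exists_lcomod (c : HopfRep.Comod k A M) :
    ∃ l : ComodSub.LComod k A (Module.Dual k M), ComodSub.LComod.IsLDual c l := by
  have J1 : ∀ g : Module.Dual k M, (TensorProduct.lid k A).toLinearMap.rTensor A ∘ₗ
      (g.rTensor A).rTensor A =
      (TensorProduct.lid k (A ⊗[k] A)).toLinearMap ∘ₗ g.rTensor (A ⊗[k] A) ∘ₗ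
        (TensorProduct.assoc k M A A).toLinearMap := by
    intro g
    ext m a a'
    simp [TensorProduct.smul_tmul']
  have J2 : ∀ g : Module.Dual k M, (TensorProduct.lid k (A ⊗[k] A)).toLinearMap ∘ₗ
      g.rTensor (A ⊗[k] A) ∘ₗ (CoalgebraStruct.comul (R := k) (A := A)).lTensor M =
      (CoalgebraStruct.comul (R := k) (A := A)) ∘ₗ (TensorProduct.lid k A).toLinearMap ∘ₗ
        g.rTensor A := by
    intro g
    ext m a
    simp
  have J3 : ∀ g : Module.Dual k M, (CoalgebraStruct.counit (R := k) (A := A)) ∘ₗ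
      (TensorProduct.lid k A).toLinearMap ∘ₗ g.rTensor A =
      g ∘ₗ (TensorProduct.rid k M).toLinearMap ∘ₗ
        (CoalgebraStruct.counit (R := k) (A := A)).lTensor M := by
    intro g
    ext m a
    simp [mul_comm]
  refine ⟨{ coact := lam c, coassoc := ?_, counit_comp := ?_ }, ?_⟩
  · ext g
    apply Φ₂_injective
    simp only [LinearMap.comp_apply, LinearEquiv.coe_coe]
    rw [I1, I2, Φ_lam]
    ext m
    have hco := LinearMap.congr_fun c.coassoc m
    simp only [LinearMap.comp_apply, LinearEquiv.coe_coe] at hco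
    simp only [LinearMap.comp_apply, ComodSub.ldualFun_apply]
    calc (ComodSub.ldualFun c g).rTensor A (c.coact m)
        = (TensorProduct.lid k A).toLinearMap.rTensor A
            ((g.rTensor A).rTensor A (c.coact.rTensor A (c.coact m))) := by
          rw [ComodSub.ldualFun, LinearMap.rTensor_comp, LinearMap.rTensor_comp]; rfl
      _ = TensorProduct.lid k (A ⊗[k] A) (g.rTensor (A ⊗[k] A)
            (TensorProduct.assoc k M A A (c.coact.rTensor A (c.coact m)))) :=
          LinearMap.congr_fun (J1 g) _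
      _ = TensorProduct.lid k (A ⊗[k] A) (g.rTensor (A ⊗[k] A)
            ((CoalgebraStruct.comul (R := k) (A := A)).lTensor M (c.coact m))) := by rw [hco]
      _ = CoalgebraStruct.comul (R := k) (A := A)
            (TensorProduct.lid k A (g.rTensor A (c.coact m))) :=
          LinearMap.congr_fun (J2 g) _
  · ext g
    apply (TensorProduct.lid k (Module.Dual k M)).injective
    simp only [LinearMap.comp_apply]
    rw [I3, Φ_lam]
    ext m
    have hcu := LinearMap.congr_fun c.counit_comp m
    simp only [LinearMap.comp_apply] at hcu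
    have := LinearMap.congr_fun (J3 g) (c.coact m)
    simp only [LinearMap.comp_apply, LinearEquiv.coe_coe] at this
    rw [LinearMap.comp_apply, ComodSub.ldualFun_apply, this, hcu]
    simp
  · intro g
    exact Φ_lam c g

end

end H12LD
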