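import Mathlib

set_option autoImplicit false
set_option linter.style.haveILetI false
universe u

namespace H12LT

open MvPolynomial

section
variable {k : Type u} [Field k] {r : ℕ}

/-- sum of the `some` exponents -/
noncomputable def sHom : (Option (Fin r) →₀ ℕ) →+ ℕ :=
  ∑ i : Fin r, Finsupp.applyAddHom (some i)

lemma sHom_apply (m : Option (Fin r) →₀ ℕ) : sHom m = ∑ i : Fin r, m (some i) := by
  simp [sHom]

noncomputable def fexp : (Option (Fin r) →₀ ℕ) →+ (Option (Fin r) →₀ ℕ) :=
  AddMonoidHom.id _ + (Finsupp.singleAddHom none).comp sHom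

lemma fexp_apply (m : Option (Fin r) →₀ ℕ) : fexp m = m + Finsupp.single none (sHom m) := rfl

lemma fexp_injective : Function.Injective (fexp (r := r)) := by
  intro m m' h
  have hs : ∀ i : Fin r, m (some i) = m' (some i) := by
    intro i
    have := DFunLike.congr_fun h (some i)
    simpa [fexp_apply] using this
  have hsum : sHom m = sHom m' := by
    rw [sHom_apply, sHom_apply]; exact Finset.sum_congr rfl (fun i _ => hs i)
  ext o
  cases o with
  | none =>
    have := DFunLike.congr_fun h none
    simp only [fexp_apply, Finsupp.add_apply, Finsupp.single_eq_same, hsum] at this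
    exact Nat.add_right_cancel this
  | some i => exact hs i

variable (k r) in
/-- the substitution `X_i ↦ X_i T`, `T ↦ T` on `k[X, T]` -/
noncomputable def sig : MvPolynomial (Option (Fin r)) k →ₐ[k] MvPolynomial (Option (Fin r)) k :=
  AddMonoidAlgebra.mapDomainAlgHom k k (fexp (r := r))

lemma sig_monomial (m : Option (Fin r) →₀ ℕ) (c : k) :
    sig k r (monomial m c) = monomial (fexp m) c := by
  show AddMonoidAlgebra.mapDomain fexp (AddMonoidAlgebra.single m c) = _
  rw [AddMonoidAlgebra.mapDomain_single]
  rfl

lemma sig_injective : Function.Injective (sig k r) := by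
  show Function.Injective (AddMonoidAlgebra.mapDomain (fexp (r := r)))
  exact AddMonoidAlgebra.mapDomain_injective fexp_injective

lemma sig_X_none : sig k r (X none) = X none := by
  show sig k r (monomial _ _) = monomial _ _
  rw [sig_monomial]
  congr 1
  rw [fexp_apply, sHom_apply]
  simp

lemma sig_X_some (i : Fin r) : sig k r (X (some i)) = X (some i) * X none := by
  show sig k r (monomial _ _) = monomial _ _ * monomial _ _
  rw [sig_monomial, monomial_mul, one_mul]
  congr 1
  rw [fexp_apply, sHom_apply]
  congr 2
  rw [Finset.sum_eq_single i]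
  · simp
  · intro j _ hj
    rw [Finsupp.single_apply, if_neg]
    intro h
    exact hj (Option.some.inj h).symm
  · intro h; exact absurd (Finset.mem_univ i) h

lemma sig_C (c : k) : sig k r (C c) = C c := (sig k r).commutes c

lemma exists_shift (A : MvPolynomial (Option (Fin r)) k) :
    ∃ (a : ℕ) (A' : MvPolynomial (Option (Fin r)) k), sig k r A' = X none ^ a * A := by
  induction A using MvPolynomial.induction_on with
  | C c => exact ⟨0, C c, by rw [sig_C, pow_zero, one_mul]⟩
  | add p q hp hq =>
    obtain ⟨a₁, A₁, h₁⟩ := hp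
    obtain ⟨a₂, A₂, h₂⟩ := hq
    refine ⟨a₁ + a₂, X none ^ a₂ * A₁ + X none ^ a₁ * A₂, ?_⟩
    rw [map_add, map_mul, map_mul, map_pow, map_pow, sig_X_none, h₁, h₂]
    ring
  | mul_X p o hp =>
    obtain ⟨a, A', h⟩ := hp
    cases o with
    | none =>
      refine ⟨a, A' * X none, ?_⟩
      rw [map_mul, h, sig_X_none]; ring
    | some i =>
      refine ⟨a + 1, A' * X (some i), ?_⟩
      rw [map_mul, h, sig_X_some]; ring

end

section main
variable {k : Type u} [Field k] {r : ℕ}

local notation "PP" => MvPolynomial (Option (Fin r)) k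

lemma optionEquivLeft_rename_some (F : MvPolynomial (Fin r) k) :
    optionEquivLeft k (Fin r) (rename some F) = Polynomial.C F := by
  induction F using MvPolynomial.induction_on with
  | C c => rw [rename_C, optionEquivLeft_C]
  | add p q hp hq => rw [map_add, map_add, hp, hq, map_add]
  | mul_X p i hp => rw [map_mul, map_mul, hp, rename_X, optionEquivLeft_X_some, map_mul]

lemma prime_rename_some {F : MvPolynomial (Fin r) k} (hF : Irreducible F) :
    Prime (rename some F : PP) := by
  rw [← MulEquiv.prime_iff (optionEquivLeft k (Fin r)), optionEquivLeft_rename_some,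
    Polynomial.prime_C_iff]
  exact hF.prime

lemma prime_X_none : Prime (X none : PP) := by
  rw [← MulEquiv.prime_iff (optionEquivLeft k (Fin r)), optionEquivLeft_X_none]
  exact Polynomial.prime_X

/-- evaluation at the origin (all variables including `T`) -/
noncomputable def ev0 : PP →ₐ[k] k := aeval (fun _ => (0 : k))

lemma ev0_sig_rename (F : MvPolynomial (Fin r) k) :
    ev0 (sig k r (rename some F)) = eval (fun _ => (0 : k)) F := by
  have h : (ev0.comp ((sig k r).comp (rename some))) =
      (aeval (fun _ => (0 : k)) : MvPolynomial (Fin r) k →ₐ[k] k) := by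
    apply MvPolynomial.algHom_ext
    intro i
    simp [ev0, sig_X_some]
  have h2 := AlgHom.congr_fun h F
  rw [AlgHom.comp_apply, AlgHom.comp_apply] at h2
  rw [h2]
  rfl

lemma not_X_none_dvd {F : MvPolynomial (Fin r) k} (hF0 : eval (fun _ => (0 : k)) F ≠ 0) :
    ¬ (X none : PP) ∣ sig k r (rename some F) := by
  rintro ⟨Q, hQ⟩
  apply hF0
  rw [← ev0_sig_rename, hQ, map_mul]
  simp [ev0]

/-- `T ↦ 1` -/
noncomputable def ev1 : PP →ₐ[k] PP :=
  aeval (fun o : Option (Fin r) => match o with
    | none => (1 : PP)
    | some i => X (some i))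

lemma ev1_sig_rename (F : MvPolynomial (Fin r) k) :
    ev1 (sig k r (rename some F)) = rename some F := by
  have h : (ev1.comp ((sig k r).comp (rename some))) =
      (rename some : MvPolynomial (Fin r) k →ₐ[k] PP) := by
    apply MvPolynomial.algHom_ext
    intro i
    simp [ev1, sig_X_some]
  have h2 := AlgHom.congr_fun h F
  rw [AlgHom.comp_apply, AlgHom.comp_apply] at h2
  exact h2

lemma isUnit_right {F : MvPolynomial (Fin r) k} (hF : Irreducible F)
    (hF0 : eval (fun _ => (0 : k)) F ≠ 0) {A B A' B' : PP} {a b : ℕ}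
    (hAB : sig k r (rename some F) = A * B) (hA : sig k r A' = X none ^ a * A)
    (hB : sig k r B' = X none ^ b * B) (hdvd : (rename some F : PP) ∣ A') : IsUnit B := by
  have hFP := prime_rename_some (k := k) hF
  have hT := prime_X_none (k := k) (r := r)
  have h1 : A' * B' = X none ^ (a + b) * rename some F := by
    apply sig_injective
    rw [map_mul, hA, hB, map_mul, map_pow, sig_X_none, hAB]
    ring
  obtain ⟨A'', rfl⟩ := hdvd
  have h2 : A'' * B' = X none ^ (a + b) := by
    apply mul_left_cancel₀ hFP.ne_zero
    rw [← mul_assoc, h1, mul_comm]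
  have h3 : B' ∣ X none ^ (a + b) := ⟨A'', by rw [← h2, mul_comm]⟩
  obtain ⟨j, -, u, hu⟩ := (dvd_prime_pow hT _).1 h3
  have h4 : X none ^ b * B * sig k r (u : PP) = X none ^ j := by
    rw [← hB, ← map_mul, hu, map_pow, sig_X_none]
  have hsu : IsUnit (sig k r (u : PP)) := u.isUnit.map (sig k r)
  have hTB : ¬ (X none : PP) ∣ B := fun h =>
    not_X_none_dvd hF0 (hAB ▸ Dvd.dvd.mul_left h A)
  rcases le_or_gt b j with hbj | hbj
  · obtain ⟨c, rfl⟩ := Nat.exists_eq_add_of_le hbj
    have h5 : B * sig k r (u : PP) = X none ^ c := by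
      apply mul_left_cancel₀ (pow_ne_zero b hT.ne_zero)
      rw [← mul_assoc, h4, pow_add]
    rcases Nat.eq_zero_or_pos c with rfl | hc
    · rw [pow_zero] at h5
      exact IsUnit.of_mul_eq_one _ h5
    · exfalso
      have h6 : (X none : PP) ∣ B * sig k r (u : PP) := by
        rw [h5]; exact dvd_pow_self _ hc.ne'
      rcases hT.dvd_or_dvd h6 with h7 | h7
      · exact hTB h7
      · exact hT.not_isUnit (isUnit_of_dvd_unit h7 hsu)
  · obtain ⟨c, rfl⟩ := Nat.exists_eq_add_of_lt hbj
    have h5 : B * (X none ^ (c + 1) * sig k r (u : PP)) = 1 := by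
      apply mul_left_cancel₀ (pow_ne_zero j hT.ne_zero)
      rw [mul_one]
      nth_rw 2 [← h4]
      ring
    exact IsUnit.of_mul_eq_one _ h5

theorem irreducible_sig {F : MvPolynomial (Fin r) k} (hF : Irreducible F)
    (hF0 : eval (fun _ => (0 : k)) F ≠ 0) : Irreducible (sig k r (rename some F)) := by
  have hFP := prime_rename_some (k := k) hF
  rw [irreducible_iff]
  constructor
  · intro hu
    apply hFP.not_isUnit
    rw [← ev1_sig_rename]
    exact hu.map ev1
  · intro A B hAB
    obtain ⟨a, A', hA⟩ := exists_shift A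
    obtain ⟨b, B', hB⟩ := exists_shift B
    have h1 : A' * B' = X none ^ (a + b) * rename some F := by
      apply sig_injective
      rw [map_mul, hA, hB, map_mul, map_pow, sig_X_none, hAB]
      ring
    have h2 : (rename some F : PP) ∣ A' * B' := ⟨X none ^ (a + b), by rw [h1, mul_comm]⟩
    rcases hFP.dvd_or_dvd h2 with h3 | h3
    · right
      exact isUnit_right hF hF0 hAB hA hB h3
    · left
      exact isUnit_right hF hF0 (by rw [hAB, mul_comm]) hB hA h3

end main

section final
variable (k : Type u) [Field k] (r : ℕ)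

/-- the polynomial in the statement -/
noncomputable def G (F : MvPolynomial (Fin r) k) : Polynomial (MvPolynomial (Fin r) k) :=
  MvPolynomial.eval₂ (Polynomial.C.comp MvPolynomial.C)
    (fun j => Polynomial.C (MvPolynomial.X j) * Polynomial.X) F

lemma optionEquivLeft_sig (F : MvPolynomial (Fin r) k) :
    optionEquivLeft k (Fin r) (sig k r (rename some F)) = G k r F := by
  have h : ((optionEquivLeft k (Fin r)).toRingEquiv.toRingHom.comp
      ((sig k r).toRingHom.comp
        (rename some : MvPolynomial (Fin r) k →ₐ[k] MvPolynomial (Option (Fin r)) k).toRingHom)) =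
      MvPolynomial.eval₂Hom (Polynomial.C.comp MvPolynomial.C)
        (fun j => Polynomial.C (MvPolynomial.X j) * Polynomial.X) := by
    apply MvPolynomial.ringHom_ext
    · intro c
      simp [sig_C, optionEquivLeft_C]
    · intro i
      simp [sig_X_some, optionEquivLeft_X_some, optionEquivLeft_X_none]
  exact RingHom.congr_fun h F

lemma eval_one_G (F : MvPolynomial (Fin r) k) : Polynomial.eval 1 (G k r F) = F := by
  have h : (Polynomial.evalRingHom (1 : MvPolynomial (Fin r) k)).comp
      (MvPolynomial.eval₂Hom (Polynomial.C.comp MvPolynomial.C)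
        (fun j => Polynomial.C (MvPolynomial.X j) * Polynomial.X)) = RingHom.id _ := by
    apply MvPolynomial.ringHom_ext
    · intro c; simp
    · intro i; simp
  exact RingHom.congr_fun h F

lemma eval_zero_G (F : MvPolynomial (Fin r) k) :
    Polynomial.eval 0 (G k r F) = C (eval (fun _ => (0 : k)) F) := by
  have h : (Polynomial.evalRingHom (0 : MvPolynomial (Fin r) k)).comp
      (MvPolynomial.eval₂Hom (Polynomial.C.comp MvPolynomial.C)
        (fun j => Polynomial.C (MvPolynomial.X j) * Polynomial.X)) =
      (C : k →+* MvPolynomial (Fin r) k).comp (eval (fun _ => (0 : k))) := by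
    apply MvPolynomial.ringHom_ext
    · intro c; simp
    · intro i; simp
  exact RingHom.congr_fun h F

theorem irreducible_G {F : MvPolynomial (Fin r) k} (hF : Irreducible F)
    (hF0 : eval (fun _ => (0 : k)) F ≠ 0) : Irreducible (G k r F) := by
  rw [← optionEquivLeft_sig]
  exact (MulEquiv.irreducible_iff (optionEquivLeft k (Fin r))).2 (irreducible_sig hF hF0)

theorem main {F : MvPolynomial (Fin r) k} (hF : Irreducible F)
    (hF0 : eval (fun _ => (0 : k)) F ≠ 0) :
    Irreducible ((G k r F).map
      (algebraMap (MvPolynomial (Fin r) k) (FractionRing (MvPolynomial (Fin r) k)))) := by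
  have hirr := irreducible_G k r hF hF0
  have hdeg : (G k r F).natDegree ≠ 0 := by
    intro h0
    have hc := Polynomial.eq_C_of_natDegree_eq_zero h0
    have e1 := eval_one_G k r F
    have e0 := eval_zero_G k r F
    rw [hc, Polynomial.eval_C] at e1 e0
    have hFc : F = C (eval (fun _ => (0 : k)) F) := e1.symm.trans e0
    apply hF.not_isUnit
    rw [hFc]
    exact (isUnit_iff_ne_zero.2 hF0).map C
  have hprim := hirr.isPrimitive hdeg
  exact (hprim.irreducible_iff_irreducible_map_fraction_map).1 hirr

end final

end H12LT
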