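import Mathlib
import Groth.Prelude.Def_SGA3b

/-!
helper12: a monomorphism from a group of multiplicative type to an affine group is a closed
immersion (Hopf form).  Core: for a bialgebra map `ψ : C → S[M]` which is a monomorphism on points,
`ψ` is surjective.
-/

set_option autoImplicit false
set_option linter.unusedSectionVars false
set_option linter.style.haveILetI false
universe u

open TensorProduct

namespace Groth.Agent.H12Mono

section antipode
variable {R : Type u} [CommRing R] {C T : Type u} [CommRing C] [CommRing T] [HopfAlgebra R C]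
  [HopfAlgebra R T]

/-- bialgebra maps between commutative Hopf algebras commute with the antipodes -/
theorem map_antipode (ψ : C →ₐc[R] T) (c : C) :
    ψ (HopfAlgebra.antipode R c) = HopfAlgebra.antipode R (ψ c) := by
  have h1 : WithConv.toConv ((HopfAlgebra.antipodeAlgHom R T).comp (ψ : C →ₐ[R] T)) *
      WithConv.toConv (ψ : C →ₐ[R] T) = 1 := by
    have h := AlgHom.convMul_comp_bialgHom_distrib
      (WithConv.toConv (HopfAlgebra.antipodeAlgHom R T)) (WithConv.toConv (AlgHom.id R T)) ψ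
    rw [AlgHom.antipode_id_cancel] at h
    apply WithConv.ofConv_injective
    have h' : WithConv.ofConv (WithConv.toConv ((HopfAlgebra.antipodeAlgHom R T).comp
        (ψ : C →ₐ[R] T)) * WithConv.toConv (ψ : C →ₐ[R] T)) =
        (WithConv.ofConv (1 : WithConv (T →ₐ[R] T))).comp (ψ : C →ₐ[R] T) := h.symm
    rw [h']
    ext c
    change algebraMap R T (Coalgebra.counit (R := R) (ψ c)) =
      algebraMap R T (Coalgebra.counit (R := R) c)
    rw [CoalgHomClass.counit_comp_apply]
  have h2 := eq_inv_of_mul_eq_one_left h1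
  have h3 : (HopfAlgebra.antipodeAlgHom R T).comp (ψ : C →ₐ[R] T) =
      (ψ : C →ₐ[R] T).comp (HopfAlgebra.antipodeAlgHom R C) := congrArg WithConv.ofConv h2
  exact (DFunLike.congr_fun h3 c).symm

end antipode

section core
variable {S : Type u} [CommRing S] {M : Type u} [CommGroup M] {C : Type u} [CommRing C]
  [HopfAlgebra S C] (ψ : C →ₐc[S] MonoidAlgebra S M)

/-- contraction against the coefficient functional -/
noncomputable def lam (m : M) :
    MonoidAlgebra S M ⊗[S] MonoidAlgebra S M →ₗ[S] MonoidAlgebra S M :=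
  (TensorProduct.rid S (MonoidAlgebra S M)).toLinearMap ∘ₗ
    LinearMap.lTensor (MonoidAlgebra S M) ((MonoidAlgebra.basis M S).coord m)

lemma lam_tmul (m : M) (x y : MonoidAlgebra S M) :
    lam m (x ⊗ₜ[S] y) = ((MonoidAlgebra.basis M S).coord m y) • x := by
  simp [lam]

open scoped Classical in
lemma coord_of (m n : M) :
    (MonoidAlgebra.basis M S).coord m (MonoidAlgebra.of S M n) = if n = m then 1 else 0 := by
  rw [MonoidAlgebra.of_apply, ← MonoidAlgebra.basis_apply (R := M) (k := S), Module.Basis.coord_apply,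
    Module.Basis.repr_self, Finsupp.single_apply]

lemma lam_comul (m : M) (x : MonoidAlgebra S M) :
    lam m (Coalgebra.comul (R := S) x) =
      ((MonoidAlgebra.basis M S).coord m x) • MonoidAlgebra.of S M m := by
  classical
  induction x using MonoidAlgebra.induction_on with
  | of n =>
    rw [(MonoidAlgebra.isGroupLikeElem_of (R := S) (A := S) n).comul_eq_tmul_self, lam_tmul, coord_of]
    split_ifs with h
    · rw [h]
    · rw [zero_smul, zero_smul]
  | add x y hx hy => rw [map_add, map_add, hx, hy, map_add, add_smul]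
  | smul r x hx => rw [map_smul, map_smul, hx, map_smul, smul_eq_mul, mul_smul]

/-- the image of `ψ` as a submodule -/
noncomputable def Bim : Submodule S (MonoidAlgebra S M) :=
  LinearMap.range ((ψ : C →ₐ[S] MonoidAlgebra S M).toLinearMap)

lemma mem_Bim {x : MonoidAlgebra S M} : x ∈ Bim ψ ↔ ∃ c, ψ c = x := Iff.rfl

lemma lam_map_mem (m : M) (F : C →ₗ[S] MonoidAlgebra S M) (hF : ∀ c, F c = ψ c) (t : C ⊗[S] C) :
    lam m (TensorProduct.map F F t) ∈ Bim ψ := by
  induction t using TensorProduct.induction_on with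
  | zero => rw [map_zero, map_zero]; exact Submodule.zero_mem _
  | tmul c d =>
    rw [TensorProduct.map_tmul, lam_tmul, hF, hF]
    exact ⟨((MonoidAlgebra.basis M S).coord m (ψ d)) • c, map_smul _ _ _⟩
  | add x y hx hy =>
    rw [map_add, map_add]
    exact Submodule.add_mem _ hx hy

lemma coord_smul_mem (m : M) (c : C) :
    ((MonoidAlgebra.basis M S).coord m (ψ c)) • MonoidAlgebra.of S M m ∈ Bim ψ := by
  rw [← lam_comul, ← CoalgHomClass.map_comp_comul_apply ψ c]
  exact lam_map_mem ψ m _ (fun _ => rfl) _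

/-- the ideal of coefficients of `m` -/
noncomputable def Iof (m : M) : Ideal S :=
  (Bim ψ).comap (LinearMap.toSpanSingleton S (MonoidAlgebra S M) (MonoidAlgebra.of S M m))

lemma mem_Iof {m : M} {r : S} : r ∈ Iof ψ m ↔ r • MonoidAlgebra.of S M m ∈ Bim ψ := Iff.rfl

lemma mem_Iof' {m : M} {r : S} : r ∈ Iof ψ m ↔ ∃ c, ψ c = r • MonoidAlgebra.of S M m := Iff.rfl

lemma coord_mem_Iof (m : M) (c : C) : (MonoidAlgebra.basis M S).coord m (ψ c) ∈ Iof ψ m :=
  coord_smul_mem ψ m c

lemma Iof_one : Iof ψ 1 = ⊤ := by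
  rw [Ideal.eq_top_iff_one, mem_Iof, one_smul, map_one]
  exact ⟨1, map_one ψ⟩

lemma mul_mem_Iof {m n : M} {r r' : S} (hr : r ∈ Iof ψ m) (hr' : r' ∈ Iof ψ n) :
    r * r' ∈ Iof ψ (m * n) := by
  rw [mem_Iof'] at hr hr' ⊢
  obtain ⟨c, hc⟩ := hr
  obtain ⟨d, hd⟩ := hr'
  refine ⟨c * d, ?_⟩
  rw [map_mul, hc, hd, map_mul, smul_mul_smul_comm]

lemma mem_Iof_inv {m : M} {r : S} (hr : r ∈ Iof ψ m) : r ∈ Iof ψ m⁻¹ := by
  rw [mem_Iof'] at hr ⊢
  obtain ⟨c, hc⟩ := hr
  refine ⟨HopfAlgebra.antipode S c, ?_⟩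
  rw [map_antipode, hc, map_smul, MonoidAlgebra.of_apply, MonoidAlgebra.antipode_single,
    MonoidAlgebra.of_apply]
  rfl

lemma surjective_of_Iof (h : ∀ m, Iof ψ m = ⊤) : Function.Surjective ψ := by
  have htop : Bim ψ = ⊤ := by
    rw [eq_top_iff, ← (MonoidAlgebra.basis M S).span_eq, Submodule.span_le]
    rintro _ ⟨m, rfl⟩
    have h1 : (1 : S) ∈ Iof ψ m := by rw [h m]; trivial
    rw [mem_Iof, one_smul] at h1
    rw [MonoidAlgebra.basis_apply, ← MonoidAlgebra.of_apply]
    exact h1
  intro x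
  have hx : x ∈ Bim ψ := by rw [htop]; trivial
  exact hx

/-- the core: a monomorphism from a diagonalisable group to an affine group is a closed immersion -/
theorem surjective_of_mono
    (hmono : ∀ (T : Type u) [CommRing T] [Algebra S T],
      Function.Injective (fun x : MonoidAlgebra S M →ₐ[S] T =>
        x.comp (ψ : C →ₐ[S] MonoidAlgebra S M))) :
    Function.Surjective ψ := by
  apply surjective_of_Iof
  intro m
  by_contra hm
  obtain ⟨𝔭, h𝔭, hle⟩ := Ideal.exists_le_maximal _ hm
  haveI := h𝔭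
  letI : Field (S ⧸ 𝔭) := Ideal.Quotient.field 𝔭
  let N : Subgroup M :=
    { carrier := {n | ¬ Iof ψ n ≤ 𝔭}
      one_mem' := by
        change ¬ Iof ψ 1 ≤ 𝔭
        rw [Iof_one]
        intro h
        exact h𝔭.ne_top (top_le_iff.mp h)
      mul_mem' := by
        intro a b ha hb
        obtain ⟨r, hr, hr'⟩ := SetLike.not_le_iff_exists.mp ha
        obtain ⟨t, ht, ht'⟩ := SetLike.not_le_iff_exists.mp hb
        change ¬ Iof ψ (a * b) ≤ 𝔭
        intro hcon
        have h1 := hcon (mul_mem_Iof ψ hr ht)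
        rcases h𝔭.isPrime.mem_or_mem h1 with h2 | h2
        · exact hr' h2
        · exact ht' h2
      inv_mem' := by
        intro a ha
        obtain ⟨r, hr, hr'⟩ := SetLike.not_le_iff_exists.mp ha
        change ¬ Iof ψ a⁻¹ ≤ 𝔭
        intro hcon
        exact hr' (hcon (mem_Iof_inv ψ hr)) }
  have hN : ∀ n, n ∈ N ↔ ¬ Iof ψ n ≤ 𝔭 := fun n => Iff.rfl
  have hmN : m ∉ N := by
    rw [hN]
    push Not
    exact hle
  let T := MonoidAlgebra (S ⧸ 𝔭) (M ⧸ N)
  let χ : M →* T := (MonoidAlgebra.of (S ⧸ 𝔭) (M ⧸ N)).comp (QuotientGroup.mk' N)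
  let x : MonoidAlgebra S M →ₐ[S] T := MonoidAlgebra.lift S T M χ
  let y : MonoidAlgebra S M →ₐ[S] T := MonoidAlgebra.lift S T M 1
  have hx : ∀ n, x (MonoidAlgebra.basis M S n) = χ n := by
    intro n
    rw [MonoidAlgebra.basis_apply, ← MonoidAlgebra.of_apply]
    exact MonoidAlgebra.lift_of _ _
  have hy : ∀ n, y (MonoidAlgebra.basis M S n) = 1 := by
    intro n
    rw [MonoidAlgebra.basis_apply, ← MonoidAlgebra.of_apply]
    exact MonoidAlgebra.lift_of _ _
  have hkill : ∀ (r : S) (t : T), r ∈ 𝔭 → r • t = 0 := by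
    intro r t hr
    rw [← algebraMap_smul (S ⧸ 𝔭) r t]
    have : algebraMap S (S ⧸ 𝔭) r = 0 := Ideal.Quotient.eq_zero_iff_mem.mpr hr
    rw [this, zero_smul]
  have hxy : x.comp (ψ : C →ₐ[S] MonoidAlgebra S M) = y.comp (ψ : C →ₐ[S] MonoidAlgebra S M) := by
    refine AlgHom.ext fun c => ?_
    change x (ψ c) = y (ψ c)
    rw [← sub_eq_zero]
    have hz := (MonoidAlgebra.basis M S).linearCombination_repr (ψ c)
    have hD : (x.toLinearMap - y.toLinearMap) (ψ c) = 0 := by
      rw [← hz, Finsupp.apply_linearCombination, Finsupp.linearCombination_apply, Finsupp.sum]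
      apply Finset.sum_eq_zero
      intro n _
      have hcoef : (MonoidAlgebra.basis M S).repr (ψ c) n ∈ Iof ψ n := coord_mem_Iof ψ n c
      change (MonoidAlgebra.basis M S).repr (ψ c) n •
        (x (MonoidAlgebra.basis M S n) - y (MonoidAlgebra.basis M S n)) = 0
      rw [hx, hy]
      by_cases hn : n ∈ N
      · have : χ n = 1 := by
          change MonoidAlgebra.of (S ⧸ 𝔭) (M ⧸ N) (QuotientGroup.mk n) = 1
          rw [(QuotientGroup.eq_one_iff n).mpr hn, map_one]
        rw [this, sub_self, smul_zero]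
      · rw [hN] at hn
        push Not at hn
        exact hkill _ _ (hn hcoef)
    exact hD
  have hxy' : x = y := hmono T hxy
  have h1 : x (MonoidAlgebra.basis M S m) = y (MonoidAlgebra.basis M S m) := by rw [hxy']
  rw [hx, hy] at h1
  have h2 : (QuotientGroup.mk m : M ⧸ N) = 1 := by
    apply MonoidAlgebra.of_injective (R := S ⧸ 𝔭)
    rw [map_one]
    exact h1
  exact hmN ((QuotientGroup.eq_one_iff m).mp h2)

end core

section bc
variable {R : Type u} [CommRing R] {A C : Type u} [CommRing A] [CommRing C] [HopfAlgebra R A]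
  [HopfAlgebra R C] (φ : C →ₐc[R] A)

/-- monomorphism on points (Hopf form) -/
def IsMono : Prop :=
  ∀ (T : Type u) [CommRing T] [Algebra R T],
    Function.Injective (fun x : A →ₐ[R] T => x.comp (φ : C →ₐ[R] A))

theorem isMono_baseChange (R₁ : Type u) [CommRing R₁] [Algebra R R₁] (h : IsMono φ) :
    IsMono (Bialgebra.TensorProduct.map (BialgHom.id R₁ R₁) φ :
      R₁ ⊗[R] C →ₐc[R₁] R₁ ⊗[R] A) := by
  intro T _ _ x y hxy
  letI : Algebra R T := Algebra.compHom T (algebraMap R R₁)
  haveI : IsScalarTower R R₁ T := IsScalarTower.of_algebraMap_eq (fun r => rfl)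
  have key : ((x.restrictScalars R).comp
      (Algebra.TensorProduct.includeRight : A →ₐ[R] R₁ ⊗[R] A)).comp (φ : C →ₐ[R] A) =
      ((y.restrictScalars R).comp
      (Algebra.TensorProduct.includeRight : A →ₐ[R] R₁ ⊗[R] A)).comp (φ : C →ₐ[R] A) := by
    refine AlgHom.ext fun c => ?_
    have h0 := DFunLike.congr_fun hxy ((1 : R₁) ⊗ₜ[R] c)
    exact h0
  have h1 := h T key
  apply Algebra.TensorProduct.ext
  · refine AlgHom.ext fun r => ?_
    change x (r ⊗ₜ[R] (1 : A)) = y (r ⊗ₜ[R] (1 : A))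
    have h2 : r ⊗ₜ[R] (1 : A) = algebraMap R₁ (R₁ ⊗[R] A) r := by
      rw [Algebra.TensorProduct.algebraMap_apply]
      rfl
    rw [h2, x.commutes, y.commutes]
  · exact h1

theorem isMono_comp_equiv {B : Type u} [CommRing B] [HopfAlgebra R B] (e : A ≃ₐc[R] B)
    (h : IsMono φ) : IsMono ((e : A →ₐc[R] B).comp φ) := by
  intro T _ _ x y hxy
  have h1 : (x.comp ((e : A →ₐc[R] B) : A →ₐ[R] B)).comp (φ : C →ₐ[R] A) =
      (y.comp ((e : A →ₐc[R] B) : A →ₐ[R] B)).comp (φ : C →ₐ[R] A) := by
    refine AlgHom.ext fun c => ?_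
    have h0 := DFunLike.congr_fun hxy c
    exact h0
  have h2 := h T h1
  refine AlgHom.ext fun b => ?_
  obtain ⟨a, rfl⟩ := e.surjective b
  exact DFunLike.congr_fun h2 a

theorem surjective_of_isMono_of_isMultType (h : SGA3b.IsMultType R A) (hmono : IsMono φ) :
    Function.Surjective φ := by
  obtain ⟨s, hs, hmt⟩ := h
  intro a
  have hmem : a ∈ LinearMap.range (φ : C →ₐ[R] A).toLinearMap := by
    apply Submodule.mem_of_span_eq_top_of_smul_pow_mem _ s hs a
    rintro ⟨f, hf⟩
    obtain ⟨R', _, _, hff, M, _, ⟨e⟩⟩ := hmt f hf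
    haveI := hff
    obtain ⟨φ₁, hm₁, hφ₁⟩ : ∃ φ₁ : Localization.Away f ⊗[R] C →ₐc[Localization.Away f]
        Localization.Away f ⊗[R] A, IsMono (R := Localization.Away f)
          (A := Localization.Away f ⊗[R] A) (C := Localization.Away f ⊗[R] C) φ₁ ∧
          ∀ l c, φ₁ (l ⊗ₜ[R] c) = l ⊗ₜ[R] φ c := by
      refine ⟨_, isMono_baseChange φ (Localization.Away f) hmono, ?_⟩
      intro l c
      rfl
    obtain ⟨φ₂, hm₂, hφ₂⟩ : ∃ φ₂ : R' ⊗[Localization.Away f] (Localization.Away f ⊗[R] C) →ₐc[R']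
        R' ⊗[Localization.Away f] (Localization.Away f ⊗[R] A),
          IsMono (R := R') (A := R' ⊗[Localization.Away f] (Localization.Away f ⊗[R] A))
            (C := R' ⊗[Localization.Away f] (Localization.Away f ⊗[R] C)) φ₂ ∧
          ∀ r w, φ₂ (r ⊗ₜ[Localization.Away f] w) = r ⊗ₜ[Localization.Away f] φ₁ w := by
      refine ⟨_, isMono_baseChange φ₁ R' hm₁, ?_⟩
      intro r w
      rfl
    have hm₃ := isMono_comp_equiv (R := R')
      (A := R' ⊗[Localization.Away f] (Localization.Away f ⊗[R] A))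
      (C := R' ⊗[Localization.Away f] (Localization.Away f ⊗[R] C))
      (B := MonoidAlgebra R' M) φ₂ e hm₂
    have hsurj₃ := surjective_of_mono (S := R') (M := M)
      (C := R' ⊗[Localization.Away f] (Localization.Away f ⊗[R] C)) _ hm₃
    have hsurj₂ : Function.Surjective φ₂ := by
      intro z
      obtain ⟨w, hw⟩ := hsurj₃ (e z)
      exact ⟨w, e.injective hw⟩
    let q : A →ₗ[R] A ⧸ LinearMap.range (φ : C →ₐ[R] A).toLinearMap := Submodule.mkQ _
    have hqφ : ∀ c, q (φ c) = 0 := fun c => (Submodule.Quotient.mk_eq_zero _).mpr ⟨c, rfl⟩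
    have hzero : ∀ z : R' ⊗[Localization.Away f] (Localization.Away f ⊗[R] C),
        (LinearMap.lTensor R' (q.baseChange (Localization.Away f))) (φ₂ z) = 0 := by
      intro z
      induction z using TensorProduct.induction_on with
      | zero => simp
      | tmul r w =>
        induction w using TensorProduct.induction_on with
        | zero => simp
        | tmul l c =>
          rw [hφ₂, hφ₁, LinearMap.lTensor_tmul, LinearMap.baseChange_tmul, hqφ, TensorProduct.tmul_zero,
            TensorProduct.tmul_zero]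
        | add x y hx hy => rw [TensorProduct.tmul_add, map_add, map_add, hx, hy, add_zero]
      | add x y hx hy => rw [map_add, map_add, hx, hy, add_zero]
    obtain ⟨z, hz⟩ := hsurj₂ ((1 : R') ⊗ₜ[Localization.Away f] ((1 : Localization.Away f) ⊗ₜ[R] a))
    have h1 : (1 : R') ⊗ₜ[Localization.Away f] ((1 : Localization.Away f) ⊗ₜ[R] q a) = 0 := by
      have h0 := hzero z
      rw [hz, LinearMap.lTensor_tmul, LinearMap.baseChange_tmul] at h0
      exact h0
    have h2 : (1 : Localization.Away f) ⊗ₜ[R] q a = 0 := by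
      apply Module.FaithfullyFlat.tensorProduct_mk_injective (A := Localization.Away f) (B := R')
        (Localization.Away f ⊗[R] (A ⧸ LinearMap.range (φ : C →ₐ[R] A).toLinearMap))
      rw [map_zero]
      exact h1
    haveI : IsLocalizedModule (Submonoid.powers f) (TensorProduct.mk R (Localization.Away f)
        (A ⧸ LinearMap.range (φ : C →ₐ[R] A).toLinearMap) 1) :=
      (isLocalizedModule_iff_isBaseChange (Submonoid.powers f) (Localization.Away f) _).mpr
        (TensorProduct.isBaseChange R _ (Localization.Away f))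
    obtain ⟨⟨_, k, rfl⟩, hc⟩ := (IsLocalizedModule.eq_zero_iff (Submonoid.powers f)
      (TensorProduct.mk R (Localization.Away f)
        (A ⧸ LinearMap.range (φ : C →ₐ[R] A).toLinearMap) 1)).mp h2
    refine ⟨k, ?_⟩
    have h3 : q (f ^ k • a) = 0 := by
      rw [map_smul]
      exact hc
    exact (Submodule.Quotient.mk_eq_zero _).mp h3
  exact hmem

end bc

end Groth.Agent.H12Mono
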