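import Mathlib
import Groth.Prelude.Def_SGA3b
import Groth.Agent.Lib.helper12.MultRigid

/-!
# Descent for groups of multiplicative type (Hopf form), helper12
-/

set_option autoImplicit false
set_option linter.style.haveILetI false

open TensorProduct Coalgebra WithConv

namespace H12MR

universe u

section Descent

variable {R : Type u} [CommRing R] {A : Type u} [CommRing A] [HopfAlgebra R A]

/-- An element of a multiplicative-type Hopf algebra vanishing after all the diagonalising base changes
is zero. -/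
theorem eq_zero_of_multType (hH : SGA3b.IsMultType R A) (a : A)
    (h : ∀ (f : R) (R' : Type u) [CommRing R'] [Algebra (Localization.Away f) R'],
      Module.FaithfullyFlat (Localization.Away f) R' →
      SGA3b.IsDiag R' (R' ⊗[Localization.Away f] (Localization.Away f ⊗[R] A)) →
      (1 : R') ⊗ₜ[Localization.Away f] ((1 : Localization.Away f) ⊗ₜ[R] a) = 0) : a = 0 := by
  obtain ⟨s, hs, hf⟩ := hH
  set ann : Ideal R := LinearMap.ker (LinearMap.toSpanSingleton R A a) with hann
  have hmem : ∀ r : R, r ∈ ann ↔ r • a = 0 := by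
    intro r
    rw [hann, LinearMap.mem_ker, LinearMap.toSpanSingleton_apply]
  have hsub : s ⊆ (ann.radical : Set R) := by
    intro f hfs
    obtain ⟨R', _, _, hff, hdiag⟩ := hf f hfs
    have h1 := h f R' hff hdiag
    have h2 : (1 : Localization.Away f) ⊗ₜ[R] a = 0 := by
      apply Module.FaithfullyFlat.tensorProduct_mk_injective (A := Localization.Away f) (B := R')
        (Localization.Away f ⊗[R] A)
      simpa using h1
    haveI : IsLocalizedModule (Submonoid.powers f) (TensorProduct.mk R (Localization.Away f) A 1) :=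
      (isLocalizedModule_iff_isBaseChange (Submonoid.powers f) (Localization.Away f) _).mpr
        (TensorProduct.isBaseChange R A (Localization.Away f))
    have h3 : (TensorProduct.mk R (Localization.Away f) A 1) a
        = (TensorProduct.mk R (Localization.Away f) A 1) 0 := by
      rw [map_zero]; exact h2
    obtain ⟨⟨c, n, rfl⟩, hc⟩ := (IsLocalizedModule.eq_iff_exists (Submonoid.powers f)
      (TensorProduct.mk R (Localization.Away f) A 1)).mp h3
    refine ⟨n, (hmem _).mpr ?_⟩
    rw [smul_zero] at hc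
    exact hc
  have htop : ann.radical = ⊤ := by
    rw [eq_top_iff, ← hs, Ideal.span_le]
    exact hsub
  have : ann = ⊤ := Ideal.radical_eq_top.mp htop
  have h1 : (1 : R) ∈ ann := by rw [this]; trivial
  simpa using (hmem 1).mp h1

end Descent

section Transfer

variable {R : Type u} [CommRing R] {A : Type u} [CommRing A] [HopfAlgebra R A]
  {C : Type u} [CommRing C] [HopfAlgebra R C]

theorem mem_smul_top_of_tmul_eq (I : Ideal R) (x y : A)
    (h : (1 : R ⧸ I) ⊗ₜ[R] x = (1 : R ⧸ I) ⊗ₜ[R] y) : x - y ∈ I • (⊤ : Submodule R A) := by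
  have := congrArg (TensorProduct.quotTensorEquivQuotSMul A I) h
  rw [TensorProduct.quotTensorEquivQuotSMul_mk_one_tmul, TensorProduct.quotTensorEquivQuotSMul_mk_one_tmul] at this
  exact (Submodule.Quotient.eq _).mp this

theorem key_smul (f : R) (R' : Type u) [CommRing R'] [Algebra (Localization.Away f) R']
    (i : R) (a₀ : A) (r' : R') (r : Localization.Away f) :
    r' ⊗ₜ[Localization.Away f] (r ⊗ₜ[R] (i • a₀)) =
      (algebraMap (Localization.Away f) R' (algebraMap R (Localization.Away f) i)) •
        (r' ⊗ₜ[Localization.Away f] (r ⊗ₜ[R] a₀)) := by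
  have h1 : r ⊗ₜ[R] (i • a₀) = (algebraMap R (Localization.Away f) i) • (r ⊗ₜ[R] a₀) := by
    rw [TensorProduct.tmul_smul, algebraMap_smul]
  rw [h1, TensorProduct.tmul_smul, algebraMap_smul R']

theorem mem_of_mem_smul_top (I : Ideal R) (f : R) (R' : Type u) [CommRing R'] [Algebra (Localization.Away f) R']
    (L : R' ⊗[Localization.Away f] (Localization.Away f ⊗[R] A) →ₗ[R'] R') (a : A)
    (ha : a ∈ I • (⊤ : Submodule R A)) (r' : R') (r : Localization.Away f) :
    L (r' ⊗ₜ (r ⊗ₜ a)) ∈ Ideal.map (algebraMap (Localization.Away f) R')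
      (Ideal.map (algebraMap R (Localization.Away f)) I) := by
  refine Submodule.smul_induction_on ha ?_ ?_
  · intro i hi a₀ _ 
    rw [key_smul, map_smul, smul_eq_mul]
    exact Ideal.mul_mem_right _ _ (Ideal.mem_map_of_mem _ (Ideal.mem_map_of_mem _ hi))
  · intro x y hx hy
    rw [TensorProduct.tmul_add, TensorProduct.tmul_add, map_add]
    exact Ideal.add_mem _ hx hy

theorem s5241_aux (I : Ideal R) (hI : IsNilpotent I) (hH : SGA3b.IsMultType R A)
    [Coalgebra.IsCocomm R C] (φ ψ : C →ₐc[R] A)
    (h0 : ∀ c : C, φ c - ψ c ∈ I • (⊤ : Submodule R A)) : φ = ψ := by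
  apply DFunLike.ext
  intro c
  rw [← sub_eq_zero]
  apply H12MR.eq_zero_of_multType hH
  rintro f R' _ _ hff ⟨M, _, ⟨e⟩⟩
  let φ' := Bialgebra.TensorProduct.map (BialgHom.id R' R')
    (Bialgebra.TensorProduct.map (BialgHom.id (Localization.Away f) (Localization.Away f)) φ)
  let ψ' := Bialgebra.TensorProduct.map (BialgHom.id R' R')
    (Bialgebra.TensorProduct.map (BialgHom.id (Localization.Away f) (Localization.Away f)) ψ)
  let Φ : (R' ⊗[Localization.Away f] (Localization.Away f ⊗[R] C)) →ₗc[R'] MonoidAlgebra R' M :=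
    (((e : _ →ₐc[R'] MonoidAlgebra R' M).comp φ') : _ →ₗc[R'] MonoidAlgebra R' M)
  let Ψ : (R' ⊗[Localization.Away f] (Localization.Away f ⊗[R] C)) →ₗc[R'] MonoidAlgebra R' M :=
    (((e : _ →ₐc[R'] MonoidAlgebra R' M).comp ψ') : _ →ₗc[R'] MonoidAlgebra R' M)
  set N : Ideal R' := Ideal.map (algebraMap (Localization.Away f) R')
      (Ideal.map (algebraMap R (Localization.Away f)) I) with hNdef
  have hN : IsNilpotent N := by
    obtain ⟨k, hk⟩ := hI
    refine ⟨k, ?_⟩
    rw [hNdef, ← Ideal.map_pow, ← Ideal.map_pow, hk, Ideal.zero_eq_bot, Ideal.map_bot, Ideal.map_bot]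
    rfl
  have hcong : ∀ c' m, H12MR.ev m (Φ c' - Ψ c') ∈ N := by
    intro c' m
    induction c' using TensorProduct.induction_on with
    | zero => simp
    | tmul r' y =>
      induction y using TensorProduct.induction_on with
      | zero => simp
      | tmul r c₀ =>
        have : Φ (r' ⊗ₜ (r ⊗ₜ c₀)) - Ψ (r' ⊗ₜ (r ⊗ₜ c₀)) = e (r' ⊗ₜ (r ⊗ₜ (φ c₀ - ψ c₀))) := by
          simp only [Φ, Ψ, φ', ψ', TensorProduct.tmul_sub, map_sub]
          rfl
        rw [this]
        exact mem_of_mem_smul_top I f R' ((H12MR.ev m) ∘ₗ (e : _ →ₗ[R'] MonoidAlgebra R' M)) _ (h0 c₀) r' r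
      | add y z hy hz =>
        rw [TensorProduct.tmul_add, map_add, map_add, add_sub_add_comm, map_add]
        exact Ideal.add_mem _ hy hz
    | add y z hy hz =>
      rw [map_add, map_add, add_sub_add_comm, map_add]
      exact Ideal.add_mem _ hy hz
  have hall := H12MR.coalgHom_eq hN Φ Ψ hcong (fun m => mul_comm _ _)
  have h1 := hall ((1 : R') ⊗ₜ ((1 : Localization.Away f) ⊗ₜ c))
  have h2 : e ((1 : R') ⊗ₜ ((1 : Localization.Away f) ⊗ₜ φ c)) = e ((1 : R') ⊗ₜ ((1 : Localization.Away f) ⊗ₜ ψ c)) := h1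
  have h3 := e.injective h2
  rw [TensorProduct.tmul_sub, TensorProduct.tmul_sub, h3, sub_self]

theorem counit_tt (f : R) (R' : Type u) [CommRing R'] [Algebra (Localization.Away f) R'] (r' : R') (r : Localization.Away f) (c₀ : C) :
   Coalgebra.counit (R := R') (r' ⊗ₜ[Localization.Away f] (r ⊗ₜ[R] c₀)) = r' * algebraMap _ R' (r * algebraMap R _ (Coalgebra.counit c₀)) := by
  simp only [TensorProduct.counit_tmul, CommSemiring.counit_apply, Algebra.smul_def, map_mul]
  ring

theorem tt_algebraMap (f : R) (R' : Type u) [CommRing R'] [Algebra (Localization.Away f) R'] (r' : R') (r : Localization.Away f) (x : R) :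
   r' ⊗ₜ[Localization.Away f] (r ⊗ₜ[R] (algebraMap R A x)) = (r' * algebraMap (Localization.Away f) R' (r * algebraMap R (Localization.Away f) x)) • (1 : R' ⊗[Localization.Away f] (Localization.Away f ⊗[R] A)) := by
  have h1 : r ⊗ₜ[R] (algebraMap R A x) = (r * algebraMap R _ x) • (1 : Localization.Away f ⊗[R] A) := by
    rw [Algebra.algebraMap_eq_smul_one x, TensorProduct.tmul_smul, Algebra.TensorProduct.one_def,
      TensorProduct.smul_tmul', TensorProduct.smul_tmul', smul_eq_mul, mul_one, Algebra.smul_def, mul_comm]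
  rw [h1, TensorProduct.tmul_smul, TensorProduct.smul_tmul', Algebra.smul_def]
  conv_rhs => rw [Algebra.TensorProduct.one_def, TensorProduct.smul_tmul', smul_eq_mul, mul_one, mul_comm]

theorem s5240_aux (I : Ideal R) (hI : IsNilpotent I) (hH : SGA3b.IsMultType R A)
    (φ : C →ₐc[R] A)
    (h0 : ∀ c : C, φ c - algebraMap R A (Coalgebra.counit c) ∈ I • (⊤ : Submodule R A)) :
    ∀ c : C, φ c = algebraMap R A (Coalgebra.counit c) := by
  classical
  intro c
  rw [← sub_eq_zero]
  apply H12MR.eq_zero_of_multType hH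
  rintro f R' _ _ hff ⟨M, _, ⟨e⟩⟩
  let φ' := Bialgebra.TensorProduct.map (BialgHom.id R' R')
    (Bialgebra.TensorProduct.map (BialgHom.id (Localization.Away f) (Localization.Away f)) φ)
  let Φ : (R' ⊗[Localization.Away f] (Localization.Away f ⊗[R] C)) →ₗc[R'] MonoidAlgebra R' M :=
    (((e : _ →ₐc[R'] MonoidAlgebra R' M).comp φ') : _ →ₗc[R'] MonoidAlgebra R' M)
  set N : Ideal R' := Ideal.map (algebraMap (Localization.Away f) R')
      (Ideal.map (algebraMap R (Localization.Away f)) I) with hNdef
  have hN : IsNilpotent N := by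
    obtain ⟨k, hk⟩ := hI
    refine ⟨k, ?_⟩
    rw [hNdef, ← Ideal.map_pow, ← Ideal.map_pow, hk, Ideal.zero_eq_bot, Ideal.map_bot, Ideal.map_bot]
    rfl
  have hkey : ∀ (r' : R') (r : Localization.Away f) (c₀ : C),
      algebraMap R' (MonoidAlgebra R' M) (Coalgebra.counit (r' ⊗ₜ[Localization.Away f] (r ⊗ₜ[R] c₀)))
        = e (r' ⊗ₜ (r ⊗ₜ (algebraMap R A (Coalgebra.counit c₀)))) := by
    intro r' r c₀
    rw [counit_tt, tt_algebraMap, map_smul, map_one, Algebra.algebraMap_eq_smul_one]
  -- the congruence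
  have hcong : ∀ c' m, H12MR.ev m (Φ c' - algebraMap R' (MonoidAlgebra R' M) (Coalgebra.counit c')) ∈ N := by
    intro c' m
    induction c' using TensorProduct.induction_on with
    | zero => simp
    | tmul r' y =>
      induction y using TensorProduct.induction_on with
      | zero => simp
      | tmul r c₀ =>
        have : Φ (r' ⊗ₜ (r ⊗ₜ c₀)) - algebraMap R' (MonoidAlgebra R' M) (Coalgebra.counit (r' ⊗ₜ[Localization.Away f] (r ⊗ₜ[R] c₀)))
            = e (r' ⊗ₜ (r ⊗ₜ (φ c₀ - algebraMap R A (Coalgebra.counit c₀)))) := by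
          rw [hkey]
          simp only [Φ, φ', TensorProduct.tmul_sub, map_sub]
          rfl
        rw [this]
        exact mem_of_mem_smul_top I f R' ((H12MR.ev m) ∘ₗ (e : _ →ₗ[R'] MonoidAlgebra R' M)) _ (h0 c₀) r' r
      | add y z hy hz =>
        rw [TensorProduct.tmul_add, map_add, map_add, map_add, add_sub_add_comm, map_add]
        exact Ideal.add_mem _ hy hz
    | add y z hy hz =>
      rw [map_add, map_add, map_add, add_sub_add_comm, map_add]
      exact Ideal.add_mem _ hy hz
  have hm : ∀ m : M, (toConv ((H12MR.ev m) ∘ₗ (Φ : _ →ₗ[R'] MonoidAlgebra R' M)) :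
      WithConv ((R' ⊗[Localization.Away f] (Localization.Away f ⊗[R] C)) →ₗ[R'] R'))
        = if m = 1 then 1 else 0 := by
    intro m
    refine H12MR.eq_of_idem hN _ _ (by simpa using H12MR.coeff_conv Φ m m) ?_ ?_ ?_
    · split_ifs <;> simp
    · split_ifs <;> simp
    · intro c'
      have := hcong c' m
      rw [map_sub, Algebra.algebraMap_eq_smul_one, MonoidAlgebra.one_def, MonoidAlgebra.smul_single,
        smul_eq_mul, mul_one, H12MR.ev_single] at this
      by_cases h1 : m = 1
      · subst h1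
        simpa using this
      · rw [if_neg (Ne.symm h1)] at this
        simpa [h1] using this
  have hall : ∀ c', Φ c' = algebraMap R' (MonoidAlgebra R' M) (Coalgebra.counit c') := by
    intro c'
    apply MonoidAlgebra.coeff_injective
    ext m
    have h1 := congrArg (fun α : WithConv ((R' ⊗[Localization.Away f] (Localization.Away f ⊗[R] C)) →ₗ[R'] R') =>
      α.ofConv c') (hm m)
    have h2 : H12MR.ev m (algebraMap R' (MonoidAlgebra R' M) (Coalgebra.counit c'))
        = if m = 1 then Coalgebra.counit c' else 0 := by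
      rw [Algebra.algebraMap_eq_smul_one, MonoidAlgebra.one_def, MonoidAlgebra.smul_single,
        smul_eq_mul, mul_one, H12MR.ev_single]
      by_cases h : m = 1
      · subst h; simp
      · rw [if_neg h, if_neg (Ne.symm h)]
    change H12MR.ev m (Φ c') = H12MR.ev m (algebraMap R' (MonoidAlgebra R' M) (Coalgebra.counit c'))
    rw [h2]
    by_cases h : m = 1
    · subst h; simpa using h1
    · simpa [h] using h1
  have h1 := hall ((1 : R') ⊗ₜ ((1 : Localization.Away f) ⊗ₜ c))
  rw [hkey] at h1
  have h2 : e ((1 : R') ⊗ₜ ((1 : Localization.Away f) ⊗ₜ φ c))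
      = e ((1 : R') ⊗ₜ ((1 : Localization.Away f) ⊗ₜ (algebraMap R A (Coalgebra.counit c)))) := h1
  have h3 := e.injective h2
  rw [TensorProduct.tmul_sub, TensorProduct.tmul_sub, h3, sub_self]

end Transfer

end H12MR
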