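import Mathlib
import Groth.Agent.S18468
import Groth.Prelude.Def_CartDual2

/-!
helper12: the convolution powers of the identity of the Cartier dual are the transposes of those of
`A` (`powConv_dual_apply`), and the duality between the eigen-submodules of the augmentation ideals
of `A` and of its Cartier dual (`eigenAug_dual_bijective`).
-/

set_option autoImplicit false
set_option linter.unusedSectionVars false
universe u

open TensorProduct WithConv

namespace Groth.Agent.H12OT

section Transpose

variable (R : Type u) [CommRing R] (A : Type u) [CommRing A] [HopfAlgebra R A]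
  [Coalgebra.IsCocomm R A] [Module.Finite R A] [Module.Projective R A]

lemma mul'_map_transposeLin (g h : A →ₗ[R] A) (y : CartDual.D R A ⊗[R] CartDual.D R A) (a : A) :
    (LinearMap.mul' R (CartDual.D R A)
      (TensorProduct.map (CartDual.transposeLin R g) (CartDual.transposeLin R h) y)) a =
      CartDual.ev₂ R A y (TensorProduct.map g h (Coalgebra.comul (R := R) a)) := by
  induction y using TensorProduct.induction_on with
  | zero => simp
  | add y y' hy hy' =>
    simp only [map_add, LinearMap.add_apply]
    rw [← hy, ← hy']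
    rfl
  | tmul x z =>
    rw [TensorProduct.map_tmul, LinearMap.mul'_apply]
    show ((CartDual.transposeLin R g x) * (CartDual.transposeLin R h z)) a = _
    rw [LinearMap.convMul_apply]
    generalize Coalgebra.comul (R := R) a = t
    induction t using TensorProduct.induction_on with
    | zero => simp
    | tmul b c => simp [CartDual.coe_apply]
    | add t t' ht ht' => simp only [map_add, ht, ht']

lemma transposeLin_convMul (g h : WithConv (A →ₗ[R] A)) :
    toConv (CartDual.transposeLin R (g * h).ofConv) =
      toConv (CartDual.transposeLin R g.ofConv) * toConv (CartDual.transposeLin R h.ofConv) := by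
  apply WithConv.ext
  apply LinearMap.ext
  intro x
  apply WithConv.ext
  apply LinearMap.ext
  intro a
  show x ((g * h) a) = (LinearMap.mul' R (CartDual.D R A)
      (TensorProduct.map (CartDual.transposeLin R g.ofConv) (CartDual.transposeLin R h.ofConv)
        (Coalgebra.comul (R := R) x))) a
  rw [mul'_map_transposeLin, CartDual.comul_def, CartDual.ev₂_comul, LinearMap.convMul_apply]
  rfl

lemma transposeLin_convOne :
    toConv (CartDual.transposeLin R (1 : WithConv (A →ₗ[R] A)).ofConv) =
      (1 : WithConv (CartDual.D R A →ₗ[R] CartDual.D R A)) := by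
  apply WithConv.ext
  apply LinearMap.ext
  intro x
  apply WithConv.ext
  apply LinearMap.ext
  intro a
  show x ((1 : WithConv (A →ₗ[R] A)) a) = ((1 : WithConv (CartDual.D R A →ₗ[R] CartDual.D R A)) x) a
  rw [LinearMap.convOne_apply, LinearMap.convOne_apply]
  simp [Algebra.algebraMap_eq_smul_one, CartDual.coe_apply, LinearMap.convOne_apply, mul_comm]

lemma transposeLin_convPow (n : ℕ) :
    toConv (CartDual.transposeLin R ((toConv (LinearMap.id : A →ₗ[R] A)) ^ n).ofConv) =
      (toConv (LinearMap.id : CartDual.D R A →ₗ[R] CartDual.D R A)) ^ n := by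
  induction n with
  | zero => rw [pow_zero, pow_zero]; exact transposeLin_convOne R A
  | succ n ih =>
    rw [pow_succ, pow_succ, transposeLin_convMul, ih]
    rfl

/-- the `n`-th power map of the Cartier dual is the transpose of the `n`-th power map. -/
theorem powConv_dual_apply (n : ℕ) (x : CartDual.D R A) (a : A) :
    (SGA3b.powConv R (CartDual.D R A) n x) a = x (SGA3b.powConv R A n a) := by
  have h1 := AlgHom.toLinearMap_convPow (toConv (AlgHom.id R (CartDual.D R A))) n
  have h2 := AlgHom.toLinearMap_convPow (toConv (AlgHom.id R A)) n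
  have h3 := transposeLin_convPow R A n
  have e1 : (SGA3b.powConv R (CartDual.D R A) n).toLinearMap =
      ((toConv (LinearMap.id : CartDual.D R A →ₗ[R] CartDual.D R A)) ^ n).ofConv := by
    have := congrArg WithConv.ofConv h1
    exact this
  have e2 : (SGA3b.powConv R A n).toLinearMap =
      ((toConv (LinearMap.id : A →ₗ[R] A)) ^ n).ofConv := by
    have := congrArg WithConv.ofConv h2
    exact this
  have e3 : (SGA3b.powConv R (CartDual.D R A) n).toLinearMap =
      CartDual.transposeLin R (SGA3b.powConv R A n).toLinearMap := by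
    rw [e1, e2, ← h3]
  have := LinearMap.congr_fun e3 x
  exact congrArg (fun y : CartDual.D R A => y a) this

end Transpose

section Main

open OortTate

theorem eigenAug_dual_bijective
    (p : ℕ) [Fact p.Prime] (R : Type u) [CommRing R] (u : R) (hu : u * ((p - 1 : ℕ) : R) = 1)
    (χ : (ZMod p)ˣ →* Rˣ)
    (A : Type u) [CommRing A] [HopfAlgebra R A] [Coalgebra.IsCocomm R A]
    [Module.Finite R A] [Module.Projective R A]
    (hp : (WithConv.toConv (AlgHom.id R A)) ^ p = 1) (i : ℕ) :
    Function.Bijective (fun f : OortTate.eigenAug R (CartDual.D R A) p χ i =>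
      ((CartDual.toDual R A) (f : CartDual.D R A)).comp (OortTate.eigenAug R A p χ i).subtype) := by
  classical
  have hcard : Fintype.card (ZMod p)ˣ = p - 1 := ZMod.card_units p
  set ρ := Groth.Agent.S18468.rho p R A hp with hρ
  have hρ_apply : ∀ m : (ZMod p)ˣ, ρ m = (SGA3b.powConv R A (m : ZMod p).val).toLinearMap :=
    fun _ => rfl
  set P := OortTate.proj R A p u χ i with hP
  have hP_apply : ∀ a : A, P a = u • ∑ m : (ZMod p)ˣ, (((χ m⁻¹ : Rˣ) : R) ^ i) • ρ m a := by
    intro a
    simp [P, OortTate.proj, hρ_apply, LinearMap.smul_apply, LinearMap.sum_apply]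
  let ε := Bialgebra.counitAlgHom R A
  have hε : ∀ (m : (ZMod p)ˣ) (a : A), ε (ρ m a) = ε a := by
    intro m a
    exact DFunLike.congr_fun (Groth.Agent.S18468.counit_comp_powConv R A (m : ZMod p).val) a
  have hρ1 : ∀ m : (ZMod p)ˣ, ρ m 1 = 1 := by
    intro m
    rw [hρ_apply]
    exact map_one (SGA3b.powConv R A (m : ZMod p).val)
  have hχ : ∀ m n : (ZMod p)ˣ, ((χ n⁻¹ : Rˣ) : R) ^ i =
      ((χ m : Rˣ) : R) ^ i * ((χ (m * n)⁻¹ : Rˣ) : R) ^ i := by
    intro m n
    have e1 : χ n⁻¹ = χ m * χ (m * n)⁻¹ := by
      rw [← map_mul]; congr 1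
      rw [mul_inv_rev, mul_comm n⁻¹ m⁻¹, mul_inv_cancel_left]
    rw [← mul_pow, ← Units.val_mul, ← e1]
  -- ρ m ∘ P = χ m ^ i • P
  have hρP : ∀ (m : (ZMod p)ˣ) (a : A), ρ m (P a) = (((χ m : Rˣ) : R) ^ i) • P a := by
    intro m a
    rw [hP_apply, map_smul, map_sum, smul_comm]
    congr 1
    rw [Finset.smul_sum]
    refine Fintype.sum_equiv (Equiv.mulLeft m) _ _ (fun n => ?_)
    rw [map_smul, Equiv.coe_mulLeft, map_mul, Module.End.mul_apply, smul_smul, ← hχ]
  have hPρ : ∀ (m : (ZMod p)ˣ) (a : A), P (ρ m a) = (((χ m : Rˣ) : R) ^ i) • P a := by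
    intro m a
    rw [hP_apply, hP_apply, smul_comm]
    congr 1
    rw [Finset.smul_sum]
    refine Fintype.sum_equiv (Equiv.mulLeft m) _ _ (fun n => ?_)
    show _ = (((χ m : Rˣ) : R) ^ i) • (((χ (m * n)⁻¹ : Rˣ) : R) ^ i) • ρ (m * n) a
    rw [smul_smul, ← hχ, mul_comm m n, map_mul, Module.End.mul_apply]
  have hmemA : ∀ a : A, a ∈ OortTate.eigenAug R A p χ i ↔
      ε a = 0 ∧ ∀ m : (ZMod p)ˣ, ρ m a = (((χ m : Rˣ) : R) ^ i) • a := by
    intro a
    unfold OortTate.eigenAug
    rw [Submodule.mem_inf, Submodule.mem_iInf, LinearMap.mem_ker]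
    refine and_congr Iff.rfl (forall_congr' fun m => ?_)
    rw [Module.End.mem_eigenspace_iff]
    exact Iff.rfl
  have hPε : ∀ a : A, ε a = 0 → ε (P a) = 0 := by
    intro a ha
    rw [hP_apply, map_smul, map_sum]
    simp only [map_smul, hε, ha, smul_zero, Finset.sum_const_zero]
  have hPmem : ∀ a : A, ε a = 0 → P a ∈ OortTate.eigenAug R A p χ i := by
    intro a ha
    rw [hmemA]
    exact ⟨hPε a ha, fun m => hρP m a⟩
  have hsum : ∀ (x : A) (F : A →ₗ[R] A), (∀ m : (ZMod p)ˣ, F (ρ m x) = (((χ m : Rˣ) : R) ^ i) • F x) →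
      F (P x) = F x := by
    intro x F hF
    rw [hP_apply, map_smul, map_sum]
    simp only [map_smul, hF, smul_smul, ← mul_pow, ← Units.val_mul, ← map_mul, inv_mul_cancel,
      map_one, Units.val_one, one_pow, one_smul]
    rw [Finset.sum_const, Finset.card_univ, hcard, ← Nat.cast_smul_eq_nsmul R, smul_smul, hu,
      one_smul]
  have hPfix : ∀ a ∈ OortTate.eigenAug R A p χ i, P a = a := by
    intro a ha
    exact hsum a LinearMap.id (fun m => ((hmemA a).1 ha).2 m)
  have hmemD : ∀ f : CartDual.D R A, f ∈ OortTate.eigenAug R (CartDual.D R A) p χ i ↔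
      f 1 = 0 ∧ ∀ (m : (ZMod p)ˣ) (a : A), f (ρ m a) = (((χ m : Rˣ) : R) ^ i) * f a := by
    intro f
    unfold OortTate.eigenAug
    rw [Submodule.mem_inf, Submodule.mem_iInf, LinearMap.mem_ker]
    refine and_congr Iff.rfl (forall_congr' fun m => ?_)
    rw [Module.End.mem_eigenspace_iff]
    constructor
    · intro h a
      have h1 := congrArg (fun y : CartDual.D R A => y a) h
      simp only [AlgHom.toLinearMap_apply] at h1
      rw [powConv_dual_apply] at h1
      exact h1
    · intro h
      apply WithConv.ext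
      apply LinearMap.ext
      intro a
      show (SGA3b.powConv R (CartDual.D R A) (m : ZMod p).val f) a = _
      rw [powConv_dual_apply]
      exact h a
  have hfP : ∀ (f : CartDual.D R A), f ∈ OortTate.eigenAug R (CartDual.D R A) p χ i →
      ∀ a : A, f (P a) = f a := by
    intro f hf a
    have h2 := ((hmemD f).1 hf).2
    rw [hP_apply, CartDual.coe_apply, map_smul, map_sum]
    simp only [map_smul, ← CartDual.coe_apply, h2, smul_eq_mul, ← mul_assoc, ← mul_pow,
      ← Units.val_mul, ← map_mul, inv_mul_cancel, map_one, Units.val_one, one_pow, one_mul]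
    rw [Finset.sum_const, Finset.card_univ, hcard, nsmul_eq_mul, ← mul_assoc, hu, one_mul]
  have hdecomp : ∀ a : A, ε (a - algebraMap R A (ε a)) = 0 := by
    intro a
    simp [ε]
  constructor
  · intro f g hfg
    apply Subtype.ext
    apply WithConv.ext
    apply LinearMap.ext
    intro a
    show (f : CartDual.D R A) a = (g : CartDual.D R A) a
    have hf1 := ((hmemD f).1 f.2).1
    have hg1 := ((hmemD g).1 g.2).1
    have ha : a = (a - algebraMap R A (ε a)) + ε a • (1 : A) := by
      rw [Algebra.algebraMap_eq_smul_one]; ring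
    have key : (f : CartDual.D R A) (a - algebraMap R A (ε a)) =
        (g : CartDual.D R A) (a - algebraMap R A (ε a)) := by
      rw [← hfP f f.2, ← hfP g g.2]
      exact LinearMap.congr_fun hfg ⟨_, hPmem _ (hdecomp a)⟩
    rw [ha, CartDual.coe_apply, CartDual.coe_apply, map_add, map_add, map_smul, map_smul,
      ← CartDual.coe_apply, ← CartDual.coe_apply, ← CartDual.coe_apply, ← CartDual.coe_apply, key,
      hf1, hg1]
  · intro φ
    let Q : A →ₗ[R] A := LinearMap.id - (Algebra.linearMap R A).comp ε.toLinearMap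
    have hQ : ∀ a : A, Q a = a - algebraMap R A (ε a) := fun a => rfl
    let L : A →ₗ[R] OortTate.eigenAug R A p χ i :=
      LinearMap.codRestrict (OortTate.eigenAug R A p χ i) (P.comp Q)
        (fun a => hPmem _ (hdecomp a))
    have hL : ∀ a : A, ((L a : OortTate.eigenAug R A p χ i) : A) = P (a - algebraMap R A (ε a)) :=
      fun a => rfl
    let f : CartDual.D R A := toConv (φ.comp L)
    have hf_apply : ∀ a : A, f a = φ (L a) := fun a => rfl
    have hfmem : f ∈ OortTate.eigenAug R (CartDual.D R A) p χ i := by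
      rw [hmemD]
      constructor
      · rw [hf_apply]
        have : L 1 = 0 := by
          apply Subtype.ext
          rw [hL]
          simp [ε]
        rw [this, map_zero]
      · intro m a
        rw [hf_apply, hf_apply]
        have : L (ρ m a) = (((χ m : Rˣ) : R) ^ i) • L a := by
          apply Subtype.ext
          rw [Submodule.coe_smul, hL, hL, hε, ← hPρ]
          congr 1
          rw [map_sub, Algebra.algebraMap_eq_smul_one, map_smul, hρ1]
        rw [this, map_smul, smul_eq_mul]
    refine ⟨⟨f, hfmem⟩, ?_⟩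
    apply LinearMap.ext
    intro a
    show f (a : A) = φ a
    rw [hf_apply]
    congr 1
    apply Subtype.ext
    rw [hL]
    have h0 : ε (a : A) = 0 := ((hmemA _).1 a.2).1
    rw [h0, map_zero, sub_zero]
    exact hPfix _ a.2

end Main

end Groth.Agent.H12OT
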