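import Mathlib
import Groth.Prelude.Def_Lie2
import Groth.Agent.Lib.helper12.Unip

/-!
# `p`-th convolution powers of `ε`-derivations, and unipotent groups in characteristic `p`
-/

set_option autoImplicit false
set_option linter.style.haveILetI false
set_option linter.unusedSectionVars false

namespace H12PL
open TensorProduct WithConv

universe u

variable {k : Type u} [Field k] {A : Type u} [CommRing A] [HopfAlgebra k A]

local notation "𝒜" => WithConv (A →ₗ[k] k)
local notation "𝒜₂" => WithConv (A ⊗[k] A →ₗ[k] k)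

/-- external product of two functionals. -/
noncomputable def box (X Y : 𝒜) : 𝒜₂ :=
  toConv ((Algebra.TensorProduct.lmul' k (S := k)).toLinearMap ∘ₗ
    (toConv (TensorProduct.map X.ofConv Y.ofConv)).ofConv)

@[simp] lemma box_apply (X Y : 𝒜) (a b : A) :
    (box X Y).ofConv (a ⊗ₜ[k] b) = X.ofConv a * Y.ofConv b := by
  simp [box]

lemma box_mul (X Y X' Y' : 𝒜) : box X Y * box X' Y' = box (X * X') (Y * Y') := by
  unfold box
  rw [← TensorProduct.map_convMul_map]
  apply ofConv_injective
  rw [ofConv_toConv, LinearMap.algHom_comp_convMul_distrib]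

lemma box_one : box (1 : 𝒜) (1 : 𝒜) = 1 := by
  apply ofConv_injective
  apply TensorProduct.ext'
  intro a b
  rw [box_apply]
  simp [mul_comm]

lemma box_pow (X Y : 𝒜) (n : ℕ) : box X Y ^ n = box (X ^ n) (Y ^ n) := by
  induction n with
  | zero => rw [pow_zero, pow_zero, pow_zero, box_one]
  | succ n ih => rw [pow_succ, pow_succ, pow_succ, ih, box_mul]

/-- pull back along the multiplication. -/
noncomputable def μs (f : 𝒜) : 𝒜₂ := toConv (f.ofConv ∘ₗ LinearMap.mul' k A)

@[simp] lemma μs_apply (f : 𝒜) (a b : A) : (μs f).ofConv (a ⊗ₜ[k] b) = f.ofConv (a * b) := by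
  simp [μs]

lemma μs_mul (f g : 𝒜) : μs (f * g) = μs f * μs g := by
  apply ofConv_injective
  have := LinearMap.convMul_comp_coalgHom_distrib f g (Bialgebra.mulCoalgHom k A)
  simpa [μs] using this

lemma μs_one : μs (1 : 𝒜) = 1 := by
  apply ofConv_injective
  apply TensorProduct.ext'
  intro a b
  rw [μs_apply]
  simp [mul_comm]

lemma μs_pow (f : 𝒜) (n : ℕ) : μs (f ^ n) = μs f ^ n := by
  induction n with
  | zero => rw [pow_zero, pow_zero, μs_one]
  | succ n ih => rw [pow_succ, pow_succ, μs_mul, ih]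

/-- the Leibniz rule with respect to the counit. -/
def IsLeib (X : 𝒜) : Prop :=
  ∀ a b : A, X.ofConv (a * b) =
    X.ofConv a * Coalgebra.counit (R := k) b + Coalgebra.counit (R := k) a * X.ofConv b

lemma isLeib_iff (X : 𝒜) : IsLeib X ↔ μs X = box X 1 + box 1 X := by
  constructor
  · intro h
    apply ofConv_injective
    apply TensorProduct.ext'
    intro a b
    rw [μs_apply, h a b, ofConv_add, LinearMap.add_apply, box_apply, box_apply]
    simp
  · intro h a b
    have := congrArg (fun f : 𝒜₂ => f.ofConv (a ⊗ₜ[k] b)) h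
    simp only [μs_apply, ofConv_add, LinearMap.add_apply, box_apply] at this
    rw [this]
    simp

lemma add_pow_char {R' : Type*} [Ring R'] [Algebra k R'] (p : ℕ) [Fact p.Prime] [CharP k p]
    (x y : R') (h : Commute x y) : (x + y) ^ p = x ^ p + y ^ p := by
  rcases subsingleton_or_nontrivial R' with hs | hn
  · exact Subsingleton.elim _ _
  · haveI : CharP R' p := charP_of_injective_algebraMap (algebraMap k R').injective p
    exact add_pow_char_of_commute p h

theorem isLeib_pow (p : ℕ) [Fact p.Prime] [CharP k p] (X : 𝒜) (hX : IsLeib X) :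
    IsLeib (X ^ p) := by
  rw [isLeib_iff] at hX ⊢
  have hc : Commute (box X 1) (box 1 X) := by
    change box X 1 * box 1 X = box 1 X * box X 1
    rw [box_mul, box_mul, mul_one, one_mul]
  rw [μs_pow, hX, add_pow_char (k := k) p _ _ hc, box_pow, box_pow, one_pow]

theorem isLeib_pow_pow (p : ℕ) [Fact p.Prime] [CharP k p] (X : 𝒜) (hX : IsLeib X) (n : ℕ) :
    IsLeib (X ^ (p ^ n)) := by
  induction n with
  | zero => simpa using hX
  | succ n ih =>
    rw [pow_succ, pow_mul]
    exact isLeib_pow p _ ih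

lemma IsLeib.map_one {X : 𝒜} (hX : IsLeib X) : X.ofConv 1 = 0 := by
  have := hX 1 1
  simp only [mul_one, Bialgebra.counit_one, one_mul] at this
  linear_combination -this

theorem IsLeib.eq_zero_of_adjoin {X : 𝒜} (hX : IsLeib X) (s : Set A)
    (hs : Algebra.adjoin k s = ⊤) (h0 : ∀ a ∈ s, X.ofConv a = 0) : X = 0 := by
  apply ofConv_injective
  ext a
  have ha : a ∈ Algebra.adjoin k s := by rw [hs]; trivial
  simp only [ofConv_zero, LinearMap.zero_apply]
  induction ha using Algebra.adjoin_induction with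
  | mem x hx => exact h0 x hx
  | algebraMap r =>
    rw [Algebra.algebraMap_eq_smul_one, map_smul, hX.map_one, smul_zero]
  | add x y _ _ hx hy => rw [map_add, hx, hy, add_zero]
  | mul x y _ _ hx hy => rw [hX x y, hx, hy, zero_mul, mul_zero, add_zero]

open Groth.Agent.H12Uni Groth.Agent.H12Comod in
lemma mul_apply_eq (f g : 𝒜) (c : A) :
    (f * g).ofConv c = f.ofConv (Groth.Agent.H12Comod.S g.ofConv c) := by
  change LinearMap.mul' k k (TensorProduct.map f.ofConv g.ofConv (Coalgebra.comul (R := k) c)) =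
    f.ofConv (T A g.ofConv (Coalgebra.comul (R := k) c))
  generalize Coalgebra.comul (R := k) c = t
  induction t using TensorProduct.induction_on with
  | zero => simp
  | add x y hx hy => simp only [map_add, hx, hy]
  | tmul a b => simp [mul_comm]

open Groth.Agent.H12Uni in
theorem pow_apply_eq_zero (X : 𝒜) (hX1 : X.ofConv 1 = 0) (m : ℕ) :
    ∀ c ∈ Fil k A m, (X ^ m).ofConv c = 0 := by
  induction m with
  | zero =>
    intro c hc
    rw [fil_zero, Submodule.mem_bot] at hc
    rw [hc, map_zero]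
  | succ m ih =>
    intro c hc
    rw [pow_succ, mul_apply_eq]
    exact ih _ (S_mem_fil X.ofConv hX1 hc)

lemma convPow_eq (D : A →ₗ[k] k) (n : ℕ) :
    LieHopf.convPow D n = ((toConv D : 𝒜) ^ n).ofConv := by
  induction n with
  | zero =>
    rw [pow_zero]
    change (Bialgebra.counitAlgHom k A).toLinearMap = Algebra.linearMap k k ∘ₗ Coalgebra.counit
    ext a
    simp
  | succ n ih =>
    rw [pow_succ]
    change LieHopf.conv (LieHopf.convPow D n) D = _
    rw [ih]
    rfl

open Groth.Agent.H12Uni in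
theorem main (p : ℕ) [Fact p.Prime] [CharP k p] [Algebra.FiniteType k A]
    (hU : HopfRep.IsUnipotent k A) (D : A →ₗ[k] k)
    (hD : ∀ a b : A, D (a * b) = D a * Coalgebra.counit (R := k) b + Coalgebra.counit (R := k) a * D b) :
    ∃ n : ℕ, 0 < n ∧ LieHopf.convPow D (p ^ n) = 0 := by
  classical
  obtain ⟨s, hs⟩ := (Algebra.FiniteType.out : (⊤ : Subalgebra k A).FG)
  have hL : IsLeib (toConv D : 𝒜) := hD
  have hex : ∀ a : A, ∃ m, a ∈ Fil k A m := exists_mem_fil_of_isUnipotent hU
  choose mf hmf using hex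
  let m₀ := s.sup mf
  have hm₀ : ∀ a ∈ s, a ∈ Fil k A m₀ := fun a ha => fil_mono (Finset.le_sup ha) (hmf a)
  refine ⟨m₀ + 1, Nat.succ_pos _, ?_⟩
  rw [convPow_eq]
  have hp : m₀ ≤ p ^ (m₀ + 1) := by
    have h2 : 2 ≤ p := (Fact.out : p.Prime).two_le
    calc m₀ ≤ m₀ + 1 := Nat.le_succ _
      _ ≤ 2 ^ (m₀ + 1) := Nat.lt_two_pow_self.le
      _ ≤ p ^ (m₀ + 1) := Nat.pow_le_pow_left h2 _
  have hz : (toConv D : 𝒜) ^ (p ^ (m₀ + 1)) = 0 := by
    refine (isLeib_pow_pow p _ hL (m₀ + 1)).eq_zero_of_adjoin (s : Set A) hs ?_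
    intro a ha
    exact pow_apply_eq_zero _ hL.map_one _ a (fil_mono hp (hm₀ a ha))
  rw [hz]
  rfl

end H12PL
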