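import Mathlib

/-!
helper12: `R⟦X⟧` is integrally closed for a noetherian integrally closed domain `R`.
-/

set_option autoImplicit false
set_option linter.unusedSectionVars false
set_option linter.style.haveILetI false
universe u

open PowerSeries nonZeroDivisors

namespace H12PS

variable {R : Type u} [CommRing R] [IsDomain R]

local notation "K" => FractionRing R

/-- the constant coefficient of an almost integral power series is almost integral -/
lemma constantCoeff_isAlmostIntegral {P : (FractionRing R)⟦X⟧}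
    (hP : IsAlmostIntegral R⟦X⟧ P) : IsAlmostIntegral R (constantCoeff P) := by
  obtain ⟨d, hd, h⟩ := hP
  have hd0 : d ≠ 0 := nonZeroDivisors.ne_zero hd
  refine ⟨coeff d.order.toNat d, mem_nonZeroDivisors_of_ne_zero (coeff_order hd0), fun n => ?_⟩
  obtain ⟨q, hq⟩ := h n
  refine ⟨coeff d.order.toNat q, ?_⟩
  have h1 : coeff d.order.toNat (algebraMap R⟦X⟧ (FractionRing R)⟦X⟧ q) =
      coeff d.order.toNat (d • P ^ n) := by rw [hq]
  rw [algebraMap_apply'', coeff_map, Algebra.smul_def, algebraMap_apply'', coeff_mul,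
    Finset.sum_eq_single (d.order.toNat, 0)] at h1
  · rw [h1, coeff_map, coeff_zero_eq_constantCoeff_apply, map_pow, Algebra.smul_def]
  · rintro ⟨a, b⟩ hab hne
    have hab' : a + b = d.order.toNat := Finset.HasAntidiagonal.mem_antidiagonal.1 hab
    have ha : a < d.order.toNat := by
      rcases Nat.eq_zero_or_pos b with hb | hb
      · exfalso; apply hne; subst hb; rw [add_zero] at hab'; rw [hab']
      · omega
    rw [coeff_map, coeff_of_lt_order_toNat a ha, map_zero, zero_mul]
  · intro h2
    exact absurd (Finset.HasAntidiagonal.mem_antidiagonal.2 (add_zero _)) h2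

lemma shift_isAlmostIntegral {P₂ : (FractionRing R)⟦X⟧}
    (hP : IsAlmostIntegral R⟦X⟧ (X * P₂)) : IsAlmostIntegral R⟦X⟧ P₂ := by
  obtain ⟨d, hd, h⟩ := hP
  refine ⟨d, hd, fun n => ?_⟩
  obtain ⟨q, hq⟩ := h n
  refine ⟨PowerSeries.mk fun j => coeff (j + n) q, ?_⟩
  ext j
  rw [algebraMap_apply'', coeff_map, coeff_mk]
  have h1 : coeff (j + n) (algebraMap R⟦X⟧ (FractionRing R)⟦X⟧ q) =
      coeff (j + n) (d • (X * P₂) ^ n) := by rw [hq]
  rw [algebraMap_apply'', coeff_map] at h1
  rw [h1, mul_pow, Algebra.smul_def, mul_left_comm, coeff_X_pow_mul, Algebra.smul_def]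

variable [IsNoetherianRing R] [IsIntegrallyClosed R]

lemma exists_of_isAlmostIntegral {p : FractionRing R} (hp : IsAlmostIntegral R p) :
    ∃ c : R, algebraMap R (FractionRing R) c = p :=
  IsIntegrallyClosed.algebraMap_eq_of_integral hp.isIntegral

lemma coeff_isAlmostIntegral : ∀ (i : ℕ) {P : (FractionRing R)⟦X⟧},
    IsAlmostIntegral R⟦X⟧ P → IsAlmostIntegral R (coeff i P)
  | 0, P, hP => by
    rw [coeff_zero_eq_constantCoeff_apply]
    exact constantCoeff_isAlmostIntegral hP
  | i + 1, P, hP => by
    obtain ⟨c, hc⟩ := exists_of_isAlmostIntegral (constantCoeff_isAlmostIntegral hP)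
    have h1 : X * (PowerSeries.mk fun p => coeff (p + 1) P) =
        P - algebraMap R⟦X⟧ (FractionRing R)⟦X⟧ (C c) := by
      rw [algebraMap_apply'', map_C, hc]
      exact (sub_eq_of_eq_add (eq_X_mul_shift_add_const P)).symm
    have h2 : IsAlmostIntegral R⟦X⟧ (X * (PowerSeries.mk fun p => coeff (p + 1) P)) := by
      rw [h1]
      exact (completeIntegralClosure R⟦X⟧ (FractionRing R)⟦X⟧).sub_mem hP
        ((completeIntegralClosure R⟦X⟧ (FractionRing R)⟦X⟧).algebraMap_mem _)
    have h3 := coeff_isAlmostIntegral i (shift_isAlmostIntegral h2)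
    rwa [coeff_mk] at h3

theorem isIntegrallyClosed_powerSeries : IsIntegrallyClosed R⟦X⟧ := by
  let S := R⟦X⟧
  let T := (FractionRing R)⟦X⟧
  let F := FractionRing S
  let L := FractionRing T
  let g : S →+* L := (algebraMap T L).comp (algebraMap S T)
  have hST : Function.Injective (algebraMap S T) :=
    PowerSeries.map_injective _ (IsFractionRing.injective R (FractionRing R))
  have hg : Function.Injective g := (IsFractionRing.injective T L).comp hST
  let ι : F →+* L := IsFractionRing.lift hg
  have hι : ∀ s : S, ι (algebraMap S F s) = algebraMap T L (algebraMap S T s) :=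
    fun s => IsFractionRing.lift_algebraMap hg s
  refine (isIntegrallyClosed_iff F).2 (fun {x} hx => ?_)
  -- almost integral
  obtain ⟨d, hd, hdx⟩ := hx.isAlmostIntegral (R := S) (S := F)
  -- image in `L` is integral over `T`, hence lies in `T`
  have hx' : IsIntegral T (ι x) :=
    hx.map_of_comp_eq (algebraMap S T) ι (by ext s; exact (hι s).symm)
  obtain ⟨P, hP⟩ := IsIntegrallyClosed.algebraMap_eq_of_integral hx'
  have hPai : IsAlmostIntegral S P := by
    refine ⟨d, hd, fun n => ?_⟩
    obtain ⟨q, hq⟩ := hdx n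
    refine ⟨q, ?_⟩
    apply IsFractionRing.injective T L
    rw [← hι, hq, Algebra.smul_def, map_mul, hι, map_pow, ← hP, Algebra.smul_def, map_mul,
      map_pow]
  have hc : ∀ i, ∃ c : R, algebraMap R (FractionRing R) c = coeff i P :=
    fun i => exists_of_isAlmostIntegral (coeff_isAlmostIntegral i hPai)
  choose c hc using hc
  refine ⟨PowerSeries.mk c, ?_⟩
  apply ι.injective
  rw [hι, ← hP]
  congr 1
  ext i
  rw [algebraMap_apply'', coeff_map, coeff_mk, hc]

end H12PS
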