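import Mathlib
import Groth.Agent.Lib.helper7.GeomRed3

/-!
helper12: over a perfect field `k`, reduced commutative `k`-algebras are geometrically reduced and
tensor products of reduced commutative `k`-algebras are reduced (via helper7's GeomRed2/GeomRed3).
-/

set_option autoImplicit false
set_option linter.style.haveILetI false
universe u v w

open scoped TensorProduct

namespace Groth.Agent.H12PT

/-- A reduced commutative algebra over a perfect field is geometrically reduced. -/
theorem isGeometricallyReduced_of_isReduced (k : Type u) [Field k] [PerfectField k]
    (A : Type v) [CommRing A] [Algebra k A] [IsReduced A] : Algebra.IsGeometricallyReduced k A := by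
  rw [Algebra.isGeometricallyReduced_field_iff]
  haveI : Algebra.IsGeometricallyReduced k (AlgebraicClosure k) :=
    Groth.Agent.Lib.helper7.GeomRed3.isGeometricallyReduced_of_perfectField k (AlgebraicClosure k)
  exact Groth.Agent.Lib.helper7.GeomRed2.isReduced_tensorProduct (k := k) (AlgebraicClosure k) A

/-- Over a perfect field the tensor product of two reduced commutative algebras is reduced. -/
theorem isReduced_tensorProduct (k : Type u) [Field k] [PerfectField k]
    (A : Type v) [CommRing A] [Algebra k A] [IsReduced A]
    (B : Type w) [CommRing B] [Algebra k B] [IsReduced B] : IsReduced (A ⊗[k] B) := by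
  haveI := isGeometricallyReduced_of_isReduced k A
  exact Groth.Agent.Lib.helper7.GeomRed2.isReduced_tensorProduct (k := k) A B

end Groth.Agent.H12PT
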