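import Mathlib
import Groth.Prelude.Def_QuadGrp

/-!
# Infinitesimal isometries `1 + ε X_{u,w}` and the centre of the orthogonal group (helper12)
-/

set_option autoImplicit false
set_option linter.style.haveILetI false

open TensorProduct CliffordAlgebra

namespace H12QC

universe u v

section General

variable {A : Type u} [CommRing A] {M : Type v} [AddCommGroup M] [Module A M]
variable (Q : QuadraticForm A M)

/-- The endomorphism `X_{u,w} : y ↦ B(y,u) w − B(y,w) u`. -/
noncomputable def X (u w : M) : M →ₗ[A] M :=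
  (((QuadraticMap.polarBilin Q).flip u).smulRight w) - (((QuadraticMap.polarBilin Q).flip w).smulRight u)

theorem X_apply (u w y : M) :
    X Q u w y = QuadraticMap.polar Q y u • w - QuadraticMap.polar Q y w • u := by
  simp [X]

theorem polar_X (u w y : M) : QuadraticMap.polar Q y (X Q u w y) = 0 := by
  rw [X_apply, QuadraticMap.polar_sub_right, QuadraticMap.polar_smul_right,
    QuadraticMap.polar_smul_right]
  simp only [smul_eq_mul]
  ring

/-- The isometry `1 + ε X_{u,w}` for `ε² = 0`. -/
noncomputable def hEquiv (ε : A) (hε : ε * ε = 0) (u w : M) : M ≃ₗ[A] M where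
  toFun y := y + ε • X Q u w y
  invFun y := y - ε • X Q u w y
  map_add' a b := by simp only [map_add, smul_add]; abel
  map_smul' c a := by simp only [map_smul, smul_add, RingHom.id_apply, smul_comm ε c]
  left_inv y := by
    simp only [map_add, map_smul, smul_add, smul_smul, hε, zero_smul]
    abel
  right_inv y := by
    simp only [map_sub, map_smul, smul_sub, smul_smul, hε, zero_smul]
    abel

theorem hEquiv_apply (ε : A) (hε : ε * ε = 0) (u w y : M) :
    hEquiv Q ε hε u w y = y + ε • X Q u w y := rfl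

theorem hEquiv_mem_O (ε : A) (hε : ε * ε = 0) (u w : M) : hEquiv Q ε hε u w ∈ QuadGrp.O Q := by
  intro y
  rw [hEquiv_apply]
  have h1 : Q (y + ε • X Q u w y) = Q y + Q (ε • X Q u w y) + QuadraticMap.polar Q y (ε • X Q u w y) := by
    simp only [QuadraticMap.polar]; ring
  rw [h1, QuadraticMap.map_smul, QuadraticMap.polar_smul_right, polar_X, smul_zero, add_zero,
    hε, zero_smul, add_zero]

/-- The even Clifford element `z = 1 - ε u w` whose conjugation induces `1 + ε X_{u,w}`. -/
noncomputable def zel (ε : A) (u w : M) : CliffordAlgebra Q := 1 - ε • (ι Q u * ι Q w)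

theorem zel_mem_even (ε : A) (u w : M) : zel Q ε u w ∈ CliffordAlgebra.even Q := by
  refine Subalgebra.sub_mem _ (Subalgebra.one_mem _) (Subalgebra.smul_mem _ ?_ _)
  rw [CliffordAlgebra.even, Subalgebra.mem_mk]
  exact CliffordAlgebra.ι_mul_ι_mem_evenOdd_zero Q u w

theorem zel_mul_inv (ε : A) (hε : ε * ε = 0) (u w : M) :
    zel Q ε u w * (1 + ε • (ι Q u * ι Q w)) = 1 := by
  simp only [zel, sub_mul, mul_add, one_mul, mul_one, smul_mul_smul_comm, hε, zero_smul]
  abel

theorem triple (u w y : M) :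
    ι Q u * ι Q w * ι Q y = QuadraticMap.polar Q w y • ι Q u - QuadraticMap.polar Q u y • ι Q w
      + ι Q y * ι Q u * ι Q w := by
  have h1 : ι Q w * ι Q y = algebraMap A _ (QuadraticMap.polar Q w y) - ι Q y * ι Q w :=
    eq_sub_of_add_eq (CliffordAlgebra.ι_mul_ι_add_swap w y)
  have h2 : ι Q u * ι Q y = algebraMap A _ (QuadraticMap.polar Q u y) - ι Q y * ι Q u :=
    eq_sub_of_add_eq (CliffordAlgebra.ι_mul_ι_add_swap u y)
  rw [mul_assoc, h1, mul_sub, ← mul_assoc, h2, sub_mul, ← Algebra.commutes, Algebra.smul_def,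
    Algebra.smul_def]
  abel

theorem map_hEquiv_mul_zel (ε : A) (hε : ε * ε = 0) (u w : M) (a : CliffordAlgebra Q) :
    CliffordAlgebra.map (QuadGrp.isometryOfMem Q (hEquiv Q ε hε u w) (hEquiv_mem_O Q ε hε u w)) a
      * zel Q ε u w = zel Q ε u w * a := by
  induction a using CliffordAlgebra.induction with
  | algebraMap r => rw [AlgHom.commutes, Algebra.commutes]
  | ι y =>
    rw [CliffordAlgebra.map_apply_ι, QuadGrp.isometryOfMem_apply, hEquiv_apply, X_apply]
    have hε' : ∀ a : A, a * ε * ε = 0 := fun a => by rw [mul_assoc, hε, mul_zero]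
    simp only [zel, map_add, map_smul, map_sub, sub_mul, mul_sub, one_mul, mul_one, add_mul,
      smul_mul_assoc, mul_smul_comm, smul_sub, smul_smul, ← mul_assoc,
      triple Q u w y, smul_add, QuadraticMap.polar_comm Q w y, QuadraticMap.polar_comm Q u y,
      mul_comm ε, hε', zero_smul, sub_zero]
    abel
  | mul a b ha hb => rw [map_mul, mul_assoc, hb, ← mul_assoc, ha, mul_assoc]
  | add a b ha hb => rw [map_add, add_mul, ha, hb, mul_add]

theorem isDicksonTrivial_hEquiv (ε : A) (hε : ε * ε = 0) (u w : M) :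
    QuadGrp.IsDicksonTrivial Q (hEquiv Q ε hε u w) (hEquiv_mem_O Q ε hε u w) := by
  intro c hc
  have hcomm := Subalgebra.mem_center_iff.mp hc ⟨zel Q ε u w, zel_mem_even Q ε u w⟩
  have hcomm' : zel Q ε u w * (c : CliffordAlgebra Q) = (c : CliffordAlgebra Q) * zel Q ε u w :=
    congrArg Subtype.val hcomm
  have h := map_hEquiv_mul_zel Q ε hε u w (c : CliffordAlgebra Q)
  rw [hcomm'] at h
  have := congrArg (fun t => t * (1 + ε • (ι Q u * ι Q w))) h
  simpa only [mul_assoc, zel_mul_inv Q ε hε u w, mul_one] using this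

theorem hEquiv_mem_SOeven (ε : A) (hε : ε * ε = 0) (u w : M) :
    hEquiv Q ε hε u w ∈ QuadGrp.SOeven Q :=
  ⟨hEquiv_mem_O Q ε hε u w, isDicksonTrivial_hEquiv Q ε hε u w⟩

end General

section BaseChange

variable {R : Type u} [CommRing R] {M : Type v} [AddCommGroup M] [Module R M] [Module.Free R M]
variable (Q : QuadraticForm R M) (A : Type u) [CommRing A] [Algebra R A]

theorem polar_baseChangeForm_tmul (a b : A) (x y : M) :
    QuadraticMap.polar (QuadGrp.baseChangeForm A Q) (a ⊗ₜ[R] x) (b ⊗ₜ[R] y)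
      = a * b * algebraMap R A (QuadraticMap.polar Q x y) := by
  have hp : QuadraticMap.polar Q x y = QuadGrp.bilinLift Q x y + QuadGrp.bilinLift Q y x := by
    conv_lhs => rw [← QuadGrp.bilinLift_spec Q]
    exact LinearMap.BilinMap.polar_toQuadraticMap x y
  simp only [QuadGrp.baseChangeForm, QuadGrp.baseChange, QuadraticMap.polar,
    LinearMap.compQuadraticMap_apply, LinearMap.BilinMap.toQuadraticMap_apply] at hp ⊢
  simp only [map_add, LinearMap.add_apply, LinearMap.BilinMap.baseChange_tmul,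
    LinearEquiv.coe_coe, AlgebraTensorModule.rid_tmul, Algebra.smul_def] 
  rw [show algebraMap R A (Q (x + y) - Q x - Q y) = algebraMap R A ((QuadGrp.bilinLift Q x) y + (QuadGrp.bilinLift Q y) x) from congrArg _ hp]
  simp only [map_add, map_sub]
  ring

theorem X_baseChangeForm_one_tmul (u w x : M) :
    X (QuadGrp.baseChangeForm A Q) ((1 : A) ⊗ₜ[R] u) ((1 : A) ⊗ₜ[R] w) ((1 : A) ⊗ₜ[R] x)
      = (1 : A) ⊗ₜ[R] (QuadraticMap.polar Q x u • w - QuadraticMap.polar Q x w • u) := by
  rw [X_apply, polar_baseChangeForm_tmul, polar_baseChangeForm_tmul]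
  simp only [one_mul, TensorProduct.tmul_sub, TensorProduct.tmul_smul]
  rw [TensorProduct.smul_tmul', TensorProduct.smul_tmul', smul_eq_mul, mul_one, smul_eq_mul, mul_one,
    Algebra.algebraMap_eq_smul_one, Algebra.algebraMap_eq_smul_one, ← TensorProduct.smul_tmul',
    ← TensorProduct.smul_tmul']

end BaseChange

section Dual

variable {R : Type u} [CommRing R] {M : Type v} [AddCommGroup M] [Module R M] [Module.Free R M]
variable (Q : QuadraticForm R M)

open DualNumber in
theorem eps_tmul_injective (m m' : M) (h : (ε : R[ε]) ⊗ₜ[R] m = (ε : R[ε]) ⊗ₜ[R] m') : m = m' := by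
  have := congrArg (fun t => TensorProduct.lid R M ((TrivSqZeroExt.sndHom R R).rTensor M t)) h
  simp only [LinearMap.rTensor_tmul, TensorProduct.lid_tmul] at this
  rw [show (TrivSqZeroExt.sndHom R R) (ε : R[ε]) = 1 from rfl, one_smul, one_smul] at this
  exact this

open DualNumber in
/-- The isometry `1 + ε X_{u,w}` over the dual numbers. -/
noncomputable def hDual (u w : M) : (R[ε] ⊗[R] M) ≃ₗ[R[ε]] (R[ε] ⊗[R] M) :=
  hEquiv (QuadGrp.baseChangeForm R[ε] Q) (ε : R[ε]) DualNumber.eps_mul_eps ((1 : R[ε]) ⊗ₜ[R] u)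
    ((1 : R[ε]) ⊗ₜ[R] w)

open DualNumber in
theorem hDual_one_tmul (u w x : M) :
    hDual Q u w ((1 : R[ε]) ⊗ₜ[R] x) = (1 : R[ε]) ⊗ₜ[R] x
      + (ε : R[ε]) ⊗ₜ[R] (QuadraticMap.polar Q x u • w - QuadraticMap.polar Q x w • u) := by
  rw [hDual, hEquiv_apply, X_baseChangeForm_one_tmul, TensorProduct.smul_tmul', smul_eq_mul, mul_one]

open DualNumber in
theorem bracket_of_comm (g : M ≃ₗ[R] M) (u w x : M)
    (hcomm : g.baseChange R R[ε] M M * hDual Q u w = hDual Q u w * g.baseChange R R[ε] M M) :
    g (QuadraticMap.polar Q x u • w - QuadraticMap.polar Q x w • u)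
      = QuadraticMap.polar Q (g x) u • w - QuadraticMap.polar Q (g x) w • u := by
  have h := congrArg (fun f => f ((1 : R[ε]) ⊗ₜ[R] x)) hcomm
  simp only [LinearEquiv.mul_apply, hDual_one_tmul, LinearEquiv.baseChange_tmul, map_add] at h
  exact eps_tmul_injective _ _ (add_left_cancel h)

end Dual

section Scalar

variable {R : Type u} [CommRing R] {n : ℕ}
variable (Q : QuadraticForm R (Fin n → R))

/-- Lemma A: if `λ = B(x,·)` has `λ u = 1`, `λ w = 0`, then `g w ∈ span(u, w)`. -/
theorem lemmaA (g : (Fin n → R) ≃ₗ[R] (Fin n → R))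
    (hbr : ∀ u w x : Fin n → R, g (QuadraticMap.polar Q x u • w - QuadraticMap.polar Q x w • u)
      = QuadraticMap.polar Q (g x) u • w - QuadraticMap.polar Q (g x) w • u)
    (x u w : Fin n → R) (hu : QuadraticMap.polar Q x u = 1) (hw : QuadraticMap.polar Q x w = 0) :
    g w = QuadraticMap.polar Q (g x) u • w - QuadraticMap.polar Q (g x) w • u := by
  have := hbr u w x
  rwa [hu, hw, one_smul, zero_smul, sub_zero] at this

theorem scalar_of_bracket (hn : 3 ≤ n) (hQ : Function.Surjective (QuadraticMap.polarBilin Q))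
    (g : (Fin n → R) ≃ₗ[R] (Fin n → R))
    (hbr : ∀ u w x : Fin n → R, g (QuadraticMap.polar Q x u • w - QuadraticMap.polar Q x w • u)
      = QuadraticMap.polar Q (g x) u • w - QuadraticMap.polar Q (g x) w • u) :
    ∃ c : R, ∀ v, g v = c • v := by
  classical
  -- dual vectors
  have hdual : ∀ l : Fin n, ∃ x : Fin n → R, ∀ v, QuadraticMap.polar Q x v = v l := by
    intro l
    obtain ⟨x, hx⟩ := hQ (LinearMap.proj l)
    exact ⟨x, fun v => by simpa using LinearMap.congr_fun hx v⟩
  let e : Fin n → (Fin n → R) := fun i => Pi.single i 1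
  -- off-diagonal entries vanish
  have hoff : ∀ j k : Fin n, k ≠ j → g (e j) k = 0 := by
    intro j k hkj
    obtain ⟨l, hlj, hlk⟩ := Fin.exists_ne_and_ne_of_two_lt j k (by omega)
    obtain ⟨x, hx⟩ := hdual l
    have h := lemmaA Q g hbr x (e l) (e j) (by rw [hx]; simp [e]) (by rw [hx]; simp [e, hlj.symm])
    rw [h]
    simp [e, hkj, hlk.symm]
  have hdiag : ∀ j : Fin n, g (e j) = (g (e j) j) • e j := by
    intro j
    funext k
    by_cases hkj : k = j
    · subst hkj; simp [e]
    · rw [hoff j k hkj]; simp [e, hkj]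
  -- diagonal entries are equal
  have heq : ∀ i j : Fin n, g (e i) i = g (e j) j := by
    intro i j
    by_cases hij : i = j
    · subst hij; rfl
    obtain ⟨l, hli, hlj⟩ := Fin.exists_ne_and_ne_of_two_lt i j (by omega)
    obtain ⟨x, hx⟩ := hdual l
    have h := lemmaA Q g hbr x (e l) (e i + e j) (by rw [hx]; simp [e])
      (by rw [hx]; simp [e, hli.symm, hlj.symm])
    have hi := congrFun h i
    have hj := congrFun h j
    rw [map_add, hdiag i, hdiag j] at hi hj
    simp only [Pi.add_apply, Pi.smul_apply, Pi.sub_apply, smul_eq_mul, e, Pi.single_eq_same,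
      Pi.single_eq_of_ne hij, Pi.single_eq_of_ne (Ne.symm hij), Pi.single_eq_of_ne hli.symm,
      Pi.single_eq_of_ne hlj.symm, mul_one, mul_zero, add_zero, zero_add, sub_zero] at hi hj
    rw [hi, hj]
  have h0 : 0 < n := by omega
  refine ⟨g (e ⟨0, h0⟩) ⟨0, h0⟩, fun v => ?_⟩
  have hv : v = ∑ i, v i • e i := by
    funext k
    simp [e, Finset.sum_apply, Pi.single_apply]
  conv_lhs => rw [hv]
  rw [map_sum]
  conv_rhs => rw [hv, Finset.smul_sum]
  refine Finset.sum_congr rfl fun i _ => ?_
  rw [map_smul, hdiag i, heq i ⟨0, h0⟩, smul_comm]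

theorem sq_eq_one_of_scalar (hn : 0 < n) (hQ : Function.Injective (QuadraticMap.polarBilin Q))
    (c : R) (hc : ∀ v, Q (c • v) = Q v) : c * c = 1 := by
  classical
  have h1 : ∀ v : Fin n → R, (c * c - 1) • Q v = 0 := by
    intro v
    have := hc v
    rw [QuadraticMap.map_smul] at this
    rw [sub_smul, one_smul, this, sub_self]
  have h2 : ∀ v : Fin n → R, (c * c - 1) • v = 0 := by
    intro v
    apply hQ
    rw [map_zero]
    refine LinearMap.ext fun w => ?_
    rw [QuadraticMap.polarBilin_apply_apply, LinearMap.zero_apply, QuadraticMap.polar_smul_left]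
    simp only [QuadraticMap.polar, smul_sub, h1, sub_zero]
  have := congrFun (h2 (Pi.single ⟨0, hn⟩ 1)) ⟨0, hn⟩
  simp only [Pi.smul_apply, Pi.single_eq_same, smul_eq_mul, mul_one, Pi.zero_apply] at this
  exact sub_eq_zero.mp this

end Scalar

end H12QC
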