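import Mathlib
import Groth.Agent.Lib.helper12.QuadCentre

/-!
# Centre of the orthogonal group, odd rank: a `d`-scaled basis lemma (helper12)
-/

set_option autoImplicit false
set_option linter.style.haveILetI false

open TensorProduct

namespace H12QC

universe u v

section Scaled

variable {R : Type u} [CommRing R] {M : Type v} [AddCommGroup M] [Module R M]
variable (B : LinearMap.BilinForm R M) (g : M →ₗ[R] M)

/-- The bracket identity: `g` commutes with all `X_{u,w}`. -/
def Bracket : Prop :=
  ∀ u w x : M, g (B x u • w - B x w • u) = B (g x) u • w - B (g x) w • u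

variable {B g}

theorem scaledA (hbr : Bracket B g) (x u w : M) (hw : B x w = 0) :
    B x u • g w = B (g x) u • w - B (g x) w • u := by
  have := hbr u w x
  rwa [hw, zero_smul, sub_zero, map_smul] at this

theorem scaledA'' (hbr : Bracket B g) (d : R) (x' w u₁ vv : M) (h1 : B x' w = 0) (h2 : B x' u₁ = d)
    (h3 : B x' vv = 0) (hind : ∀ α α' : R, α • w + α' • vv = 0 → d * α' = 0) :
    (d * d) • g w = (d * B (g x') u₁) • w := by
  have e1 := scaledA hbr x' u₁ w h1
  have e2 := scaledA hbr x' (u₁ + vv) w h1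
  rw [map_add, h2, h3, add_zero] at e2
  rw [h2] at e1
  have e3 : B (g x') vv • w + (-(B (g x') w)) • vv = 0 := by
    have := e1.symm.trans e2
    rw [map_add, add_smul, smul_add] at this
    rw [neg_smul]
    have h4 : B (g x') u₁ • w - B (g x') w • u₁ - (B (g x') u₁ • w + B (g x') vv • w
        - (B (g x') w • u₁ + B (g x') w • vv)) = 0 := sub_eq_zero.mpr this
    have : B (g x') vv • w + -(B (g x') w • vv) = -(B (g x') u₁ • w - B (g x') w • u₁ - (B (g x') u₁ • w + B (g x') vv • w
        - (B (g x') w • u₁ + B (g x') w • vv))) := by abel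
    rw [this, h4, neg_zero]
  have e4 := hind _ _ e3
  rw [mul_smul, e1, smul_sub, smul_smul, smul_smul]
  have : d * B (g x') w = 0 := by
    have := e4; rw [mul_neg, neg_eq_zero] at this; exact this
  rw [this, zero_smul, sub_zero]

/-- The `d`-scaled basis lemma. -/
theorem scaled_scalar (hbr : Bracket B g) {n : ℕ} (hn : 3 ≤ n) (d : R) (v xs : Fin n → M) (i0 : Fin n)
    (hind : ∀ c : Fin n → R, ∑ b, c b • v b = 0 → ∀ b, d * c b = 0)
    (hspan : ∀ m : M, ∃ c : Fin n → R, d • m = ∑ b, c b • v b)
    (hdual : ∀ a, a ≠ i0 → ∀ b, B (xs a) (v b) = if a = b then d else 0) :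
    ∃ γ : R, ∀ m : M, (d * d * d * d) • g m = γ • m := by
  classical
  -- two-term independence
  have hsingle : ∀ (p : Fin n) (α : R), ∑ b, (Pi.single p α : Fin n → R) b • v b = α • v p := by
    intro p α
    rw [Finset.sum_eq_single p]
    · rw [Pi.single_eq_same]
    · intro b _ hb; rw [Pi.single_eq_of_ne hb, zero_smul]
    · intro h; exact absurd (Finset.mem_univ p) h
  have hind2 : ∀ p q : Fin n, p ≠ q → ∀ α α' : R, α • v p + α' • v q = 0 → d * α = 0 ∧ d * α' = 0 := by
    intro p q hpq α α' h
    have h0 : ∑ b, (Pi.single p α + Pi.single q α' : Fin n → R) b • v b = 0 := by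
      simp only [Pi.add_apply, add_smul, Finset.sum_add_distrib, hsingle]
      exact h
    have hp := hind _ h0 p
    have hq := hind _ h0 q
    simp only [Pi.add_apply, Pi.single_eq_same, Pi.single_eq_of_ne hpq, Pi.single_eq_of_ne hpq.symm,
      add_zero, zero_add] at hp hq
    exact ⟨hp, hq⟩
  have hind3 : ∀ p q r : Fin n, p ≠ q → p ≠ r → q ≠ r → ∀ α α' α'' : R,
      α • v p + α' • v q + α'' • v r = 0 → d * α = 0 ∧ d * α' = 0 ∧ d * α'' = 0 := by
    intro p q r hpq hpr hqr α α' α'' h
    have h0 : ∑ b, (Pi.single p α + Pi.single q α' + Pi.single r α'' : Fin n → R) b • v b = 0 := by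
      simp only [Pi.add_apply, add_smul, Finset.sum_add_distrib, hsingle]
      exact h
    have hp := hind _ h0 p
    have hq := hind _ h0 q
    have hr := hind _ h0 r
    simp only [Pi.add_apply, Pi.single_eq_same, Pi.single_eq_of_ne hpq, Pi.single_eq_of_ne hpq.symm,
      Pi.single_eq_of_ne hpr, Pi.single_eq_of_ne hpr.symm, Pi.single_eq_of_ne hqr,
      Pi.single_eq_of_ne hqr.symm, add_zero, zero_add] at hp hq hr
    exact ⟨hp, hq, hr⟩
  -- eigenvector statements
  have hv : ∀ p : Fin n, ∃ l : R, (d * d) • g (v p) = l • v p := by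
    intro p
    by_cases hp : p = i0
    · subst hp
      obtain ⟨b, hb, -⟩ := Fin.exists_ne_and_ne_of_two_lt p p (by omega)
      obtain ⟨b', hb'p, hb'b⟩ := Fin.exists_ne_and_ne_of_two_lt p b (by omega)
      refine ⟨_, scaledA'' hbr d (xs b) (v p) (v b) (v b') ?_ ?_ ?_ ?_⟩
      · rw [hdual b hb, if_neg hb]
      · rw [hdual b hb, if_pos rfl]
      · rw [hdual b hb, if_neg hb'b.symm]
      · intro α α' h; exact (hind2 p b' hb'p.symm α α' h).2
    · obtain ⟨b, hbi, hbp⟩ := Fin.exists_ne_and_ne_of_two_lt i0 p (by omega)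
      refine ⟨_, scaledA'' hbr d (xs b) (v p) (v b) (v i0) ?_ ?_ ?_ ?_⟩
      · rw [hdual b hbi, if_neg hbp]
      · rw [hdual b hbi, if_pos rfl]
      · rw [hdual b hbi, if_neg hbi]
      · intro α α' h; exact (hind2 p i0 hp α α' h).2
  have hvv : ∀ p q : Fin n, p ≠ q → ∃ l : R, (d * d) • g (v p + v q) = l • (v p + v q) := by
    -- wlog q ≠ i0 ... handle cases
    have key : ∀ p q : Fin n, p ≠ q → p ≠ i0 → ∃ l : R, (d * d) • g (v p + v q) = l • (v p + v q) := by
      intro p q hpq hp
      by_cases hq : q = i0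
      · subst hq
        obtain ⟨b, hbi, hbp⟩ := Fin.exists_ne_and_ne_of_two_lt q p (by omega)
        refine ⟨_, scaledA'' hbr d (xs b) (v p + v q) (v b) (v p) ?_ ?_ ?_ ?_⟩
        · rw [map_add, hdual b hbi, hdual b hbi, if_neg hbp, if_neg hbi, add_zero]
        · rw [hdual b hbi, if_pos rfl]
        · rw [hdual b hbi, if_neg hbp]
        · intro α α' h
          have h' : (α + α') • v p + α • v q = 0 := by
            rw [add_smul]; rw [smul_add] at h
            have : α • v p + α' • v p + α • v q = α • v p + α • v q + α' • v p := by abel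
            rw [this]; exact h
          obtain ⟨h1, h2⟩ := hind2 p q hpq _ _ h'
          rw [mul_add, h2, zero_add] at h1
          exact h1
      · refine ⟨_, scaledA'' hbr d (xs p - xs q) (v p + v q) (v p) (v i0) ?_ ?_ ?_ ?_⟩
        · simp only [map_sub, map_add, LinearMap.sub_apply, hdual p hp, hdual q hq, if_pos rfl,
            if_neg hpq, if_neg hpq.symm]
          ring
        · simp only [map_sub, LinearMap.sub_apply, hdual p hp, hdual q hq,
            if_neg hpq.symm, sub_zero, if_true]
        · simp only [map_sub, LinearMap.sub_apply, hdual p hp, hdual q hq, if_neg hp, if_neg hq,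
            sub_zero]
        · intro α α' h
          rw [smul_add] at h
          exact (hind3 p q i0 hpq hp hq α α α' h).2.2
    intro p q hpq
    by_cases hp : p = i0
    · have hq : q ≠ i0 := fun h => hpq (hp.trans h.symm)
      obtain ⟨l, hl⟩ := key q p hpq.symm hq
      exact ⟨l, by rw [add_comm (v p) (v q)]; exact hl⟩
    · exact key p q hpq hp
  choose lam hlam using hv
  -- all d * lam p agree
  have hagree : ∀ p q : Fin n, d * lam p = d * lam q := by
    intro p q
    by_cases hpq : p = q
    · rw [hpq]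
    obtain ⟨l, hl⟩ := hvv p q hpq
    rw [map_add, smul_add, hlam p, hlam q, smul_add] at hl
    have h0 : (lam p - l) • v p + (lam q - l) • v q = 0 := by
      rw [sub_smul, sub_smul]
      have : lam p • v p - l • v p + (lam q • v q - l • v q) = (lam p • v p + lam q • v q) - (l • v p + l • v q) := by
        abel
      rw [this, hl, sub_self]
    obtain ⟨h1, h2⟩ := hind2 p q hpq _ _ h0
    rw [mul_sub, sub_eq_zero] at h1 h2
    rw [h1, h2]
  have h0n : 0 < n := by omega
  refine ⟨d * lam ⟨0, h0n⟩ * d, fun m => ?_⟩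
  obtain ⟨c, hc⟩ := hspan m
  have h1 : (d * d * d) • g (d • m) = (d * lam ⟨0, h0n⟩) • (d • m) := by
    rw [hc, map_sum, Finset.smul_sum, Finset.smul_sum]
    refine Finset.sum_congr rfl fun b _ => ?_
    rw [map_smul, smul_comm, show d * d * d = d * (d * d) by ring, mul_smul, hlam b, smul_smul,
      smul_smul, smul_smul, mul_assoc, hagree b ⟨0, h0n⟩, mul_comm]
  rw [map_smul, smul_smul, smul_smul] at h1
  exact h1

end Scaled

section Inst

variable {R : Type u} [CommRing R] {n : ℕ} (Q : QuadraticForm R (Fin n → R))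

/-- The polar matrix of `Q` in the standard basis. -/
noncomputable def polMat : Matrix (Fin n) (Fin n) R :=
  Matrix.of fun i j => QuadraticMap.polar Q (Pi.single i 1) (Pi.single j 1)

theorem polMat_apply (i j : Fin n) :
    polMat Q i j = QuadraticMap.polar Q (Pi.single i 1) (Pi.single j 1) := rfl

theorem polar_single_left (a : Fin n) (y : Fin n → R) :
    QuadraticMap.polar Q (Pi.single a 1) y = (polMat Q).mulVec y a := by
  classical
  have hy : y = ∑ c, y c • (Pi.single c 1 : Fin n → R) := by
    funext k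
    simp [Finset.sum_apply, Pi.single_apply]
  conv_lhs => rw [hy]
  have := map_sum (QuadraticMap.polarBilin Q (Pi.single a 1)) (fun c => y c • (Pi.single c 1 : Fin n → R))
    Finset.univ
  simp only [QuadraticMap.polarBilin_apply_apply] at this
  rw [this]
  simp only [QuadraticMap.polar_smul_right, Matrix.mulVec, dotProduct, polMat_apply, smul_eq_mul,
    mul_comm]

theorem scaled_entries (hn : 3 ≤ n) (g : (Fin n → R) →ₗ[R] (Fin n → R))
    (hbr : Bracket (QuadraticMap.polarBilin Q) g) (i0 j0 : Fin n) :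
    ∃ γ : R, ∀ m : Fin n → R,
      ((polMat Q).adjugate i0 j0 * (polMat Q).adjugate i0 j0 * (polMat Q).adjugate i0 j0
        * (polMat Q).adjugate i0 j0) • g m = γ • m := by
  classical
  set T : Matrix (Fin n) (Fin n) R := (polMat Q).updateRow j0 (Pi.single i0 1) with hT
  have hdet : T.det = (polMat Q).adjugate i0 j0 := (Matrix.adjugate_apply _ _ _).symm
  rw [← hdet]
  have hmul1 : T * T.adjugate = T.det • (1 : Matrix (Fin n) (Fin n) R) := Matrix.mul_adjugate T
  have hmul2 : T.adjugate * T = T.det • (1 : Matrix (Fin n) (Fin n) R) := Matrix.adjugate_mul T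
  have hv : ∀ c : Fin n → R, ∑ b, c b • (fun k => T.adjugate k b) = T.adjugate.mulVec c := by
    intro c
    funext k
    simp only [Finset.sum_apply, Pi.smul_apply, smul_eq_mul, Matrix.mulVec, dotProduct, mul_comm]
  refine scaled_scalar hbr hn T.det (fun b k => T.adjugate k b) (fun a => Pi.single a 1) j0 ?_ ?_ ?_
  · intro c hc b
    rw [hv] at hc
    have := congrArg (fun w => T.mulVec w) hc
    simp only [Matrix.mulVec_mulVec, hmul1, Matrix.mulVec_zero, Matrix.smul_mulVec,
      Matrix.one_mulVec] at this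
    simpa using congrFun this b
  · intro m
    refine ⟨T.mulVec m, ?_⟩
    rw [hv, Matrix.mulVec_mulVec, hmul2, Matrix.smul_mulVec, Matrix.one_mulVec]
  · intro a ha b
    rw [QuadraticMap.polarBilin_apply_apply, polar_single_left]
    have : (polMat Q).mulVec (fun k => T.adjugate k b) a = (T * T.adjugate) a b := by
      simp only [Matrix.mulVec, dotProduct, Matrix.mul_apply, hT, Matrix.updateRow_ne ha]
    rw [this, hmul1, Matrix.smul_apply, Matrix.one_apply, smul_eq_mul, mul_ite, mul_one, mul_zero]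

theorem eq_zero_of_pow_mul {S : Set R} (hS : Ideal.span S = ⊤) (N : ℕ) (r : R)
    (h : ∀ s ∈ S, s ^ N * r = 0) : r = 0 := by
  have h1 := Ideal.span_pow_eq_top S hS N
  have h2 : Ideal.span ((fun x => x ^ N) '' S) ≤ Submodule.annihilator (Ideal.span {r}) := by
    rw [Ideal.span_le]
    rintro _ ⟨s, hs, rfl⟩
    rw [SetLike.mem_coe, Ideal.span, Submodule.mem_annihilator_span_singleton]
    exact h s hs
  have h3 : (1 : R) ∈ Submodule.annihilator (Ideal.span {r}) := h2 (by rw [h1]; trivial)
  rw [Ideal.span, Submodule.mem_annihilator_span_singleton] at h3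
  simpa using h3

theorem scalar_of_adj_top (hn : 3 ≤ n) (g : (Fin n → R) →ₗ[R] (Fin n → R))
    (hbr : Bracket (QuadraticMap.polarBilin Q) g)
    (hJ : Ideal.span (Set.range fun p : Fin n × Fin n => (polMat Q).adjugate p.1 p.2) = ⊤) :
    ∃ c : R, ∀ m, g m = c • m := by
  classical
  let e : Fin n → (Fin n → R) := fun i => Pi.single i 1
  have hoff : ∀ k l : Fin n, k ≠ l → g (e l) k = 0 := by
    intro k l hkl
    refine eq_zero_of_pow_mul hJ 4 _ ?_
    rintro _ ⟨⟨i0, j0⟩, rfl⟩
    obtain ⟨γ, hγ⟩ := scaled_entries Q hn g hbr i0 j0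
    have := congrFun (hγ (e l)) k
    simp only [Pi.smul_apply, smul_eq_mul, e, Pi.single_eq_of_ne hkl, mul_zero] at this
    rw [← this]; ring
  have hdiag : ∀ k l : Fin n, g (e k) k - g (e l) l = 0 := by
    intro k l
    refine eq_zero_of_pow_mul hJ 4 _ ?_
    rintro _ ⟨⟨i0, j0⟩, rfl⟩
    obtain ⟨γ, hγ⟩ := scaled_entries Q hn g hbr i0 j0
    have h1 := congrFun (hγ (e k)) k
    have h2 := congrFun (hγ (e l)) l
    simp only [Pi.smul_apply, smul_eq_mul, e, Pi.single_eq_same, mul_one] at h1 h2
    have : ∀ d x y : R, d * d * d * d * x = γ → d * d * d * d * y = γ → d ^ 4 * (x - y) = 0 := by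
      intro d x y hx hy
      have : d ^ 4 * (x - y) = d * d * d * d * x - d * d * d * d * y := by ring
      rw [this, hx, hy, sub_self]
    exact this _ _ _ h1 h2
  have h0 : 0 < n := by omega
  refine ⟨g (e ⟨0, h0⟩) ⟨0, h0⟩, fun m => ?_⟩
  have hm : m = ∑ i, m i • e i := by
    funext k
    simp [e, Finset.sum_apply, Pi.single_apply]
  have hel : ∀ l, g (e l) = g (e ⟨0, h0⟩) ⟨0, h0⟩ • e l := by
    intro l
    funext k
    by_cases hkl : k = l
    · subst hkl
      simp only [Pi.smul_apply, smul_eq_mul, e, Pi.single_eq_same, mul_one]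
      exact sub_eq_zero.mp (hdiag k ⟨0, h0⟩)
    · rw [hoff k l hkl]
      simp [e, Pi.single_eq_of_ne hkl]
  conv_lhs => rw [hm]
  rw [map_sum]
  conv_rhs => rw [hm, Finset.smul_sum]
  refine Finset.sum_congr rfl fun i _ => ?_
  rw [map_smul, hel i, smul_comm]

theorem sq_eq_one_of_adj_top (hn : 2 ≤ n)
    (hJ : Ideal.span (Set.range fun p : Fin n × Fin n => (polMat Q).adjugate p.1 p.2) = ⊤)
    (c : R) (hc : ∀ v, Q (c • v) = Q v) : c * c = 1 := by
  classical
  have h1 : ∀ v : Fin n → R, (c * c - 1) • Q v = 0 := by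
    intro v
    have := hc v
    rw [QuadraticMap.map_smul] at this
    rw [sub_smul, one_smul, this, sub_self]
  have h2 : ∀ i j, (c * c - 1) * polMat Q i j = 0 := by
    intro i j
    have := h1
    simp only [smul_eq_mul] at this
    rw [polMat_apply, QuadraticMap.polar, mul_sub, mul_sub, this, this, this, sub_zero, sub_zero]
  have h3 : c * c - 1 = 0 := by
    refine eq_zero_of_pow_mul hJ 1 _ ?_
    rintro _ ⟨⟨i0, j0⟩, rfl⟩
    rw [pow_one, mul_comm]
    change (c * c - 1) * (polMat Q).adjugate i0 j0 = 0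
    rw [Matrix.adjugate_apply]
    obtain ⟨a, ha⟩ : ∃ a : Fin n, a ≠ j0 := by
      by_cases h : j0 = ⟨0, by omega⟩
      · exact ⟨⟨1, by omega⟩, by rw [h]; simp [Fin.ext_iff]⟩
      · exact ⟨⟨0, by omega⟩, fun h' => h h'.symm⟩
    set T := (polMat Q).updateRow j0 (Pi.single i0 1) with hT
    have hTa : T = T.updateRow a (T a) := (Matrix.updateRow_eq_self _ _).symm
    rw [hTa, ← Matrix.det_updateRow_smul]
    apply Matrix.det_eq_zero_of_row_eq_zero a
    intro j
    rw [Matrix.updateRow_self, Pi.smul_apply, hT, Matrix.updateRow_ne ha, smul_eq_mul, h2]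
  exact sub_eq_zero.mp h3

end Inst

section Det

variable {A : Type u} [CommRing A] {M : Type v} [AddCommGroup M] [Module A M]
  [Module.Free A M] [Module.Finite A M] (Q : QuadraticForm A M)

theorem trace_X (u w : M) : LinearMap.trace A M (X Q u w) = 0 := by
  rw [X, map_sub, LinearMap.trace_smulRight, LinearMap.trace_smulRight]
  simp only [LinearMap.flip_apply, QuadraticMap.polarBilin_apply_apply]
  rw [QuadraticMap.polar_comm, sub_self]

theorem det_hEquiv (ε : A) (hε : ε * ε = 0) (u w : M) :
    LinearEquiv.det (hEquiv Q ε hε u w) = 1 := by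
  classical
  apply Units.ext
  rw [LinearEquiv.coe_det, Units.val_one]
  have hcoe : ((hEquiv Q ε hε u w : M ≃ₗ[A] M) : M →ₗ[A] M) = LinearMap.id + ε • X Q u w := by
    ext y; rfl
  rw [hcoe]
  let b := Module.Free.chooseBasis A M
  rw [← LinearMap.det_toMatrix b, map_add, map_smul, LinearMap.toMatrix_id, Matrix.det_one_add_smul,
    ← LinearMap.trace_eq_matrix_trace A b, trace_X, pow_two, hε, zero_mul, mul_zero, add_zero,
    add_zero]

theorem hEquiv_mem_SO' (ε : A) (hε : ε * ε = 0) (u w : M) :
    hEquiv Q ε hε u w ∈ QuadGrp.SO' Q := by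
  refine ⟨hEquiv_mem_O Q ε hε u w, ?_⟩
  exact MonoidHom.mem_ker.mpr (det_hEquiv Q ε hε u w)

end Det

section OBase

variable {R : Type u} [CommRing R] {M : Type v} [AddCommGroup M] [Module R M] [Module.Free R M]
variable (Q : QuadraticForm R M) (A : Type u) [CommRing A] [Algebra R A]

theorem O_baseChange_eq : QuadGrp.O (QuadGrp.baseChange A Q) = QuadGrp.O (QuadGrp.baseChangeForm A Q) := by
  ext h
  rw [QuadGrp.mem_O, QuadGrp.mem_O]
  refine forall_congr' fun y => ?_
  simp only [QuadGrp.baseChangeForm, LinearMap.compQuadraticMap_apply, LinearEquiv.coe_coe]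
  exact ((AlgebraTensorModule.rid R A A).injective.eq_iff).symm

end OBase

end H12QC
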