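import Mathlib
import Groth.Agent.Lib.helper1.HalfDisc3
import Groth.Agent.Lib.helper12.QuadCentre2

/-!
# Semiregular (unit half-discriminant) forms: the adjugate of the polar matrix generates the unit ideal
(helper12; uses helper1's `HalfDisc` library)
-/

set_option autoImplicit false
set_option linter.style.haveILetI false

namespace H12QC

universe u

open Matrix MvPolynomial QuadGrp Groth.Agent.Lib.helper1.HalfDisc

section Univ

variable {S : Type u} [CommRing S] {n : ℕ}

theorem polarMat_transpose (c : Sym2 (Fin n) → S) : (polarMat c)ᵀ = polarMat c := by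
  rw [polarMat_eq, Matrix.transpose_add, Matrix.transpose_transpose, add_comm]

theorem map_polarMat {S' : Type*} [CommRing S'] (φ : S →+* S') (c : Sym2 (Fin n) → S) :
    (polarMat c).map φ = polarMat (fun s => φ (c s)) := by
  ext i j
  simp only [polarMat, Matrix.map_apply, Matrix.of_apply]
  split_ifs
  · rw [map_mul, map_ofNat]
  · rfl

/-- `2 * tr(U adj P) = n * det P` for `P = U + Uᵀ`. -/
theorem two_mul_trace_upper (c : Sym2 (Fin n) → S) :
    2 * Matrix.trace (upperMat c * (polarMat c).adjugate) = (n : S) * (polarMat c).det := by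
  have hsymm : ((polarMat c).adjugate)ᵀ = (polarMat c).adjugate := by
    rw [Matrix.adjugate_transpose, polarMat_transpose]
  have h1 : Matrix.trace ((upperMat c)ᵀ * (polarMat c).adjugate)
      = Matrix.trace (upperMat c * (polarMat c).adjugate) := by
    rw [← Matrix.trace_transpose, Matrix.transpose_mul, Matrix.transpose_transpose, hsymm,
      Matrix.trace_mul_comm]
  have h2 : Matrix.trace (polarMat c * (polarMat c).adjugate) = (n : S) * (polarMat c).det := by
    rw [Matrix.mul_adjugate, Matrix.trace_smul, Matrix.trace_one, Fintype.card_fin, smul_eq_mul,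
      mul_comm]
  rw [← h2, polarMat_eq c, Matrix.add_mul, Matrix.trace_add, ← polarMat_eq c, h1, two_mul]

end Univ

theorem univ_trace (m : ℕ) :
    ((2 * m + 1 : ℕ) : MvPolynomial (Sym2 (Fin (2 * m + 1))) ℤ) * halfDiscUniv (2 * m + 1)
      = Matrix.trace (upperMat (fun s => (MvPolynomial.X s : MvPolynomial (Sym2 (Fin (2 * m + 1))) ℤ))
          * (polarMat (fun s => (MvPolynomial.X s : MvPolynomial (Sym2 (Fin (2 * m + 1))) ℤ))).adjugate) := by
  have huniv : univPolarMat (2 * m + 1)
      = polarMat (fun s => (MvPolynomial.X s : MvPolynomial (Sym2 (Fin (2 * m + 1))) ℤ)) := by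
    ext i j
    simp only [univPolarMat, polarMat, Matrix.of_apply]
  apply mul_left_cancel₀ (two_ne_zero : (2 : MvPolynomial (Sym2 (Fin (2 * m + 1))) ℤ) ≠ 0)
  rw [two_mul_trace_upper, mul_left_comm, two_mul_halfDiscUniv, discUniv, huniv]

section Eval

variable {R : Type u} [CommRing R]

theorem eval_trace (m : ℕ) (c : Sym2 (Fin (2 * m + 1)) → R) :
    ((2 * m + 1 : ℕ) : R) * eval₂ (Int.castRingHom R) c (halfDiscUniv (2 * m + 1))
      = Matrix.trace (upperMat c * (polarMat c).adjugate) := by
  have h := congrArg (eval₂Hom (Int.castRingHom R) c) (univ_trace m)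
  rw [map_mul, map_natCast, coe_eval₂Hom] at h
  rw [h, ← coe_eval₂Hom, AddMonoidHom.map_trace, Matrix.map_mul]
  have h1 : (upperMat (fun s => (MvPolynomial.X s : MvPolynomial (Sym2 (Fin (2 * m + 1))) ℤ))).map
      (eval₂Hom (Int.castRingHom R) c) = upperMat c := by
    rw [map_upperMat]
    congr 1
    funext s
    exact eval₂_X _ _ _
  have h2 : ((polarMat (fun s => (MvPolynomial.X s : MvPolynomial (Sym2 (Fin (2 * m + 1))) ℤ))).adjugate).map
      (eval₂Hom (Int.castRingHom R) c) = (polarMat c).adjugate := by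
    have := RingHom.map_adjugate (eval₂Hom (Int.castRingHom R) c)
      (polarMat (fun s => (MvPolynomial.X s : MvPolynomial (Sym2 (Fin (2 * m + 1))) ℤ)))
    rw [RingHom.mapMatrix_apply, RingHom.mapMatrix_apply] at this
    rw [this, map_polarMat]
    congr 2
    funext s
    exact eval₂_X _ _ _
  rw [h1, h2]

theorem eval_two_mul (m : ℕ) (c : Sym2 (Fin (2 * m + 1)) → R) :
    2 * eval₂ (Int.castRingHom R) c (halfDiscUniv (2 * m + 1)) = (polarMat c).det := by
  rw [← eval₂_discUniv, ← two_mul_halfDiscUniv, eval₂_mul]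
  congr 1
  rw [show (2 : MvPolynomial (Sym2 (Fin (2 * m + 1))) ℤ) = C (2 : ℤ) from (map_ofNat C 2).symm,
    eval₂_C]
  simp

theorem halfDisc_mem_adj (m : ℕ) (c : Sym2 (Fin (2 * m + 1)) → R) :
    eval₂ (Int.castRingHom R) c (halfDiscUniv (2 * m + 1)) ∈
      Ideal.span (Set.range fun p : Fin (2 * m + 1) × Fin (2 * m + 1) => (polarMat c).adjugate p.1 p.2) := by
  set J := Ideal.span (Set.range fun p : Fin (2 * m + 1) × Fin (2 * m + 1) =>
    (polarMat c).adjugate p.1 p.2) with hJ
  set H := eval₂ (Int.castRingHom R) c (halfDiscUniv (2 * m + 1)) with hH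
  have hmem : ∀ i j, (polarMat c).adjugate i j ∈ J := fun i j =>
    Ideal.subset_span ⟨(i, j), rfl⟩
  have h1 : ((2 * m + 1 : ℕ) : R) * H ∈ J := by
    rw [eval_trace, Matrix.trace]
    refine Ideal.sum_mem _ fun i _ => ?_
    rw [Matrix.diag_apply, Matrix.mul_apply]
    exact Ideal.sum_mem _ fun j _ => Ideal.mul_mem_left _ _ (hmem j i)
  have h2 : 2 * H ∈ J := by
    rw [eval_two_mul]
    have h := congrFun (congrFun (Matrix.mul_adjugate (polarMat c)) 0) 0
    rw [Matrix.smul_apply, Matrix.one_apply_eq, smul_eq_mul, mul_one, Matrix.mul_apply] at h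
    rw [← h]
    exact Ideal.sum_mem _ fun j _ => Ideal.mul_mem_left _ _ (hmem j 0)
  have h3 : H = ((2 * m + 1 : ℕ) : R) * H - (m : R) * (2 * H) := by
    push_cast; ring
  rw [h3]
  exact J.sub_mem h1 (Ideal.mul_mem_left _ _ h2)

theorem polarMat_coeffs {n : ℕ} (Q : QuadraticForm R (Fin n → R)) :
    polarMat (coeffs (Pi.basisFun R (Fin n)) (LinearEquiv.refl R R) Q) = polMat Q := by
  ext i j
  simp only [polarMat, polMat, Matrix.of_apply, coeffs_mk, LinearEquiv.refl_apply, Pi.basisFun_apply]
  by_cases h : i = j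
  · subst h
    rw [if_pos rfl, if_pos rfl, QuadraticMap.polar_self, two_smul, two_mul]
  · rw [if_neg h, if_neg h]

theorem adj_top_of_semiregular (m : ℕ) (Q : QuadraticForm R (Fin (2 * m + 1) → R))
    (h : IsSemiregular (Pi.basisFun R (Fin (2 * m + 1))) (LinearEquiv.refl R R) Q) :
    Ideal.span (Set.range fun p : Fin (2 * m + 1) × Fin (2 * m + 1) => (polMat Q).adjugate p.1 p.2) = ⊤ := by
  have := halfDisc_mem_adj m (coeffs (Pi.basisFun R (Fin (2 * m + 1))) (LinearEquiv.refl R R) Q)
  rw [polarMat_coeffs] at this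
  exact Ideal.eq_top_of_isUnit_mem _ this h

end Eval

end H12QC
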