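import Groth.Prelude.Def_W4c1tameactTame
import Groth.Agent.Lib.helper12.HopfAnti
import Mathlib.Tactic

/-!
The Reynolds operator of a total integral (helper12).
-/

set_option autoImplicit false
set_option linter.unusedSectionVars false
universe u v w w'

open TensorProduct

namespace Groth.Agent.H12Reynolds

variable {k : Type u} [CommRing k] {A : Type v} [CommRing A] [HopfAlgebra k A]
variable {B : Type w} [CommRing B] [Algebra k B] [HopfRep.Comod k A B]
variable {M : Type w'} [AddCommGroup M] [Module k M] [Module B M] [IsScalarTower k B M]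
  [HopfRep.Comod k A M]

/-- `Φ (m ⊗ a) = α (S a) • m` -/
noncomputable def Phi (α : A →ₗ[k] B) : M ⊗[k] A →ₗ[k] M :=
  TensorProduct.lift
    ((Algebra.lsmul k k M : B →ₐ[k] Module.End k M).toLinearMap ∘ₗ α ∘ₗ
      (HopfAlgebraStruct.antipode (R := k) (A := A))).flip

@[simp] lemma Phi_tmul (α : A →ₗ[k] B) (m : M) (a : A) :
    Phi (M := M) α (m ⊗ₜ[k] a) = α (HopfAlgebraStruct.antipode (R := k) a) • m := by
  simp [Phi]

lemma reynolds_eq (α : A →ₗ[k] B) (m : M) :
    TameAct.reynolds k A B M α m = Phi α (HopfRep.Comod.coact (k := k) (A := A) m) := rfl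

/-- `κ (b ⊗ c) = α (S c) ⊗ S b` -/
noncomputable def kap (α : A →ₗ[k] B) : A ⊗[k] A →ₗ[k] B ⊗[k] A :=
  TensorProduct.map (α ∘ₗ HopfAlgebraStruct.antipode (R := k) (A := A))
    (HopfAlgebraStruct.antipode (R := k) (A := A)) ∘ₗ (TensorProduct.comm k A A).toLinearMap

@[simp] lemma kap_tmul (α : A →ₗ[k] B) (b c : A) :
    kap α (b ⊗ₜ[k] c) = α (HopfAlgebraStruct.antipode (R := k) c) ⊗ₜ[k]
      HopfAlgebraStruct.antipode (R := k) b := by
  simp [kap]

/-- `Θ (m ⊗ u) = (κ u) · ρ m` -/
noncomputable def Theta (α : A →ₗ[k] B) : M ⊗[k] (A ⊗[k] A) →ₗ[k] M ⊗[k] A :=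
  TensorProduct.lift
    (LinearMap.lcomp k (M ⊗[k] A) (kap α) ∘ₗ (TameAct.hmSMul k A B M).flip ∘ₗ
      HopfRep.Comod.coact (k := k) (A := A) (V := M))

@[simp] lemma Theta_tmul (α : A →ₗ[k] B) (m : M) (u : A ⊗[k] A) :
    Theta (M := M) α (m ⊗ₜ[k] u) =
      TameAct.hmSMul k A B M (kap α u) (HopfRep.Comod.coact (k := k) (A := A) m) := by
  simp [Theta]

/-- `G β (y ⊗ (a ⊗ b)) = β • y ⊗ a * S b` -/
noncomputable def G (β : B) : M ⊗[k] (A ⊗[k] A) →ₗ[k] M ⊗[k] A :=
  TensorProduct.map ((Algebra.lsmul k k M : B →ₐ[k] Module.End k M) β)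
    (LinearMap.mul' k A ∘ₗ (HopfAlgebraStruct.antipode (R := k) (A := A)).lTensor A)

@[simp] lemma G_tmul (β : B) (y : M) (a b : A) :
    G (k := k) (M := M) β (y ⊗ₜ[k] (a ⊗ₜ[k] b)) =
      (β • y) ⊗ₜ[k] (a * HopfAlgebraStruct.antipode (R := k) b) := by
  simp [G]

lemma coact_coact (m : M) :
    (HopfRep.Comod.coact (k := k) (A := A) (V := M)).rTensor A
      (HopfRep.Comod.coact (k := k) (A := A) m) =
      (TensorProduct.assoc k M A A).symm ((CoalgebraStruct.comul (R := k) (A := A)).lTensor M
        (HopfRep.Comod.coact (k := k) (A := A) m)) := by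
  have hco := LinearMap.congr_fun (HopfRep.Comod.coassoc (k := k) (A := A) (V := M)) m
  simp only [LinearMap.comp_apply, LinearEquiv.coe_coe] at hco
  rw [← hco, LinearEquiv.symm_apply_apply]

lemma counit_coact (m : M) :
    TensorProduct.rid k M ((CoalgebraStruct.counit (R := k) (A := A)).lTensor M
      (HopfRep.Comod.coact (k := k) (A := A) m)) = m := by
  have hcu := LinearMap.congr_fun (HopfRep.Comod.counit_comp (k := k) (A := A) (V := M)) m
  simp only [LinearMap.comp_apply, LinearMap.flip_apply, TensorProduct.mk_apply] at hcu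
  rw [hcu]; simp

section Main

variable [GLin.IsCoactAlg k A B] [TameAct.IsHopfMod k A B M]
variable (α : A →ₗ[k] B) (hα : Hoch.IsComodHom A α)

include hα in
/-- Claim 1: `ρ (Φ t) = Θ ((id ⊗ Δ) t)`. -/
lemma coact_Phi (t : M ⊗[k] A) :
    HopfRep.Comod.coact (k := k) (A := A) (Phi (M := M) α t) =
      Theta α ((CoalgebraStruct.comul (R := k) (A := A)).lTensor M t) := by
  induction t using TensorProduct.induction_on with
  | zero => simp
  | tmul m a =>
    rw [Phi_tmul, TameAct.IsHopfMod.coact_smul (k := k) (A := A) (B := B) (M := M),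
      LinearMap.lTensor_tmul, Theta_tmul]
    congr 1
    have h1 := LinearMap.congr_fun hα (HopfAlgebraStruct.antipode (R := k) a)
    simp only [LinearMap.comp_apply] at h1
    have h1' : HopfRep.Comod.coact (k := k) (A := A) (α (HopfAlgebraStruct.antipode (R := k) a)) =
        α.rTensor A (CoalgebraStruct.comul (R := k) (HopfAlgebraStruct.antipode (R := k) a)) := h1
    rw [h1']
    have h2 := Groth.Agent.H12Hopf.comul_antipode (R := k) a
    have h2' : CoalgebraStruct.comul (R := k) (HopfAlgebraStruct.antipode (R := k) a) =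
        TensorProduct.map (HopfAlgebraStruct.antipode (R := k) (A := A))
          (HopfAlgebraStruct.antipode (R := k) (A := A))
          (TensorProduct.comm k A A (CoalgebraStruct.comul (R := k) a)) := h2
    rw [h2']
    generalize CoalgebraStruct.comul (R := k) a = u
    induction u using TensorProduct.induction_on with
    | zero => simp
    | tmul x y => simp
    | add x y hx hy => simp only [map_add, hx, hy]
  | add x y hx hy => simp only [map_add, hx, hy]

/-- Claim A: `Θ (assoc (t ⊗ c)) = G (α (S c)) (assoc ((ρ ⊗ id) t))`. -/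
lemma Theta_assoc (t : M ⊗[k] A) (c : A) :
    Theta (M := M) α (TensorProduct.assoc k M A A (t ⊗ₜ[k] c)) =
      G (k := k) (α (HopfAlgebraStruct.antipode (R := k) c)) (TensorProduct.assoc k M A A
        ((HopfRep.Comod.coact (k := k) (A := A) (V := M)).rTensor A t)) := by
  induction t using TensorProduct.induction_on with
  | zero => simp
  | tmul x b =>
    rw [TensorProduct.assoc_tmul, Theta_tmul, kap_tmul, LinearMap.rTensor_tmul]
    generalize HopfRep.Comod.coact (k := k) (A := A) x = s
    induction s using TensorProduct.induction_on with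
    | zero => simp
    | tmul y a => simp [mul_comm]
    | add s₁ s₂ h₁ h₂ => simp only [map_add, TensorProduct.add_tmul, h₁, h₂]
  | add x y hx hy => simp only [TensorProduct.add_tmul, map_add, hx, hy]

/-- Claim 2c: `G β ((id ⊗ Δ) t) = β • (id ⊗ ε) t ⊗ 1`. -/
lemma G_comul (β : B) (t : M ⊗[k] A) :
    G (k := k) (M := M) β ((CoalgebraStruct.comul (R := k) (A := A)).lTensor M t) =
      (β • TensorProduct.rid k M ((CoalgebraStruct.counit (R := k) (A := A)).lTensor M t)) ⊗ₜ[k]
        (1 : A) := by
  induction t using TensorProduct.induction_on with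
  | zero => simp
  | tmul y a =>
    have h := HopfAlgebra.mul_antipode_lTensor_comul_apply (R := k) a
    simp only [G, LinearMap.lTensor_tmul, TensorProduct.map_tmul, LinearMap.comp_apply]
    rw [h, TensorProduct.rid_tmul, Algebra.algebraMap_eq_smul_one, TensorProduct.tmul_smul,
      TensorProduct.smul_tmul']
    show (CoalgebraStruct.counit (R := k) a • (β • y)) ⊗ₜ[k] (1 : A) = _
    rw [smul_comm]
  | add x y hx hy => simp only [map_add, smul_add, TensorProduct.add_tmul, hx, hy]

include hα in
theorem coact_reynolds (m : M) :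
    HopfRep.Comod.coact (k := k) (A := A) (TameAct.reynolds k A B M α m) =
      TameAct.reynolds k A B M α m ⊗ₜ[k] (1 : A) := by
  rw [reynolds_eq, coact_Phi α hα]
  have hco : (CoalgebraStruct.comul (R := k) (A := A)).lTensor M
      (HopfRep.Comod.coact (k := k) (A := A) m) =
      TensorProduct.assoc k M A A ((HopfRep.Comod.coact (k := k) (A := A) (V := M)).rTensor A
        (HopfRep.Comod.coact (k := k) (A := A) m)) := by
    rw [coact_coact, LinearEquiv.apply_symm_apply]
  rw [hco]
  -- the map `t ↦ Θ (assoc ((ρ ⊗ id) t))` equals `t ↦ Φ t ⊗ 1`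
  have key : ∀ t : M ⊗[k] A, Theta (M := M) α (TensorProduct.assoc k M A A
      ((HopfRep.Comod.coact (k := k) (A := A) (V := M)).rTensor A t)) =
      Phi (M := M) α t ⊗ₜ[k] (1 : A) := by
    intro t
    induction t using TensorProduct.induction_on with
    | zero => simp
    | tmul x c =>
      rw [LinearMap.rTensor_tmul, Theta_assoc, coact_coact, LinearEquiv.apply_symm_apply, G_comul,
        counit_coact, Phi_tmul]
    | add x y hx hy => simp only [map_add, TensorProduct.add_tmul, hx, hy]
  exact key _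

theorem reynolds_of_fixed (hα1 : α 1 = 1) (m : M) (hm : m ∈ HopfRep.fixedPts k A M) :
    TameAct.reynolds k A B M α m = m := by
  have h : HopfRep.Comod.coact (k := k) (A := A) m = m ⊗ₜ[k] (1 : A) := hm
  rw [TameAct.reynolds_apply_of_coact_eq k A B M α m m 1 h]
  have : HopfAlgebraStruct.antipode (R := k) (1 : A) = 1 := HopfAlgebra.antipode_one
  rw [this, hα1, one_smul]

end Main

end Groth.Agent.H12Reynolds
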