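import Mathlib
import Groth.Agent.Lib.helper27.LengthDet

set_option autoImplicit false
set_option linter.style.haveILetI false
set_option linter.unusedSectionVars false
universe u v

namespace H12SL

open Groth.Agent.Lib.helper27.LengthDet
open Matrix

section dvr
variable {B : Type u} [CommRing B] [IsDomain B] [IsDiscreteValuationRing B]

lemma ord_eq_addVal {x : B} (hx : x ≠ 0) :
    Ring.ord B x = IsDiscreteValuationRing.addVal B x := by
  obtain ⟨ϖ, hϖ⟩ := IsDiscreteValuationRing.exists_irreducible B
  obtain ⟨n, u, rfl⟩ := IsDiscreteValuationRing.eq_unit_mul_pow_irreducible hx hϖ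
  rw [Ring.ord_mul_of_isUnit_left u.isUnit,
    Ring.ord_pow (mem_nonZeroDivisors_of_ne_zero hϖ.ne_zero), Ring.ord_of_irreducible hϖ,
    IsDiscreteValuationRing.addVal_def' u hϖ n]
  simp

lemma length_self_top : Module.length B B = ⊤ := by
  by_contra h
  have h1 : IsFiniteLength B B := Module.length_ne_top_iff.1 h
  haveI : IsArtinianRing B := (isArtinianRing_iff_isFiniteLength B).2 h1
  exact IsDiscreteValuationRing.not_isField B (IsArtinianRing.isField_of_isDomain B)

end dvr

section main
variable {B : Type u} [CommRing B] [IsDomain B] [IsDiscreteValuationRing B] (ω : B ≃+* B)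
  {n : ℕ} (r : Fin n → ℕ)
  (M N : Fin n → Type v) [∀ i, AddCommGroup (M i)] [∀ i, Module B (M i)]
  [∀ i, AddCommGroup (N i)] [∀ i, Module B (N i)]
  (bM : ∀ i, Module.Basis (Fin (r i)) B (M i)) (bN : ∀ i, Module.Basis (Fin (r i)) B (N i))
  (χ : ∀ i, M i →+ N i) (hχ : ∀ i (b : B) (x : M i), χ i (b • x) = ω b • χ i x)

include hχ in
theorem main :
    Module.length B ((∀ i, N i) ⧸
      Submodule.span B (Set.range (fun (x : ∀ i, M i) (i : Fin n) => χ i (x i)))) =
      IsDiscreteValuationRing.addVal B (∏ i, Matrix.det
        (Matrix.of fun (a c : Fin (r i)) => (bN i).repr (χ i (bM i c)) a)) := by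
  classical
  let Wi : ∀ i, Submodule B (N i) := fun i =>
    Submodule.span B (Set.range fun c : Fin (r i) => χ i (bM i c))
  have hcoord : ∀ i (m : M i), χ i m ∈ Wi i := by
    intro i m
    have e : m = ∑ c, (bM i).repr m c • bM i c := ((bM i).sum_repr m).symm
    rw [e, map_sum]
    refine Submodule.sum_mem _ (fun c _ => ?_)
    rw [hχ]
    exact Submodule.smul_mem _ _ (Submodule.subset_span ⟨c, rfl⟩)
  have hWle : Submodule.span B (Set.range (fun (x : ∀ i, M i) (i : Fin n) => χ i (x i))) ≤
      Submodule.pi Set.univ Wi := by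
    rw [Submodule.span_le]
    rintro _ ⟨x, rfl⟩
    rw [SetLike.mem_coe, Submodule.mem_pi]
    intro i _
    exact hcoord i (x i)
  by_cases hdet : ∀ i, Matrix.det
      (Matrix.of fun (a c : Fin (r i)) => (bN i).repr (χ i (bM i c)) a) ≠ 0
  · -- all determinants nonzero
    have hsingle : ∀ i, Wi i ≤ (Submodule.span B
        (Set.range (fun (x : ∀ i, M i) (i : Fin n) => χ i (x i)))).comap
        (LinearMap.single B N i) := by
      intro i
      rw [Submodule.span_le]
      rintro _ ⟨c, rfl⟩
      rw [SetLike.mem_coe, Submodule.mem_comap]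
      apply Submodule.subset_span
      refine ⟨Pi.single i (bM i c), ?_⟩
      funext j
      by_cases hj : j = i
      · subst hj
        show χ j ((Pi.single j (bM j c) : ∀ i, M i) j) =
          (LinearMap.single B N j (χ j (bM j c))) j
        rw [Pi.single_eq_same, LinearMap.single_apply, Pi.single_eq_same]
      · show χ j ((Pi.single i (bM i c) : ∀ i, M i) j) =
          (LinearMap.single B N i (χ i (bM i c))) j
        rw [Pi.single_eq_of_ne hj, LinearMap.single_apply, Pi.single_eq_of_ne hj, map_zero]
    have hW : Submodule.span B (Set.range (fun (x : ∀ i, M i) (i : Fin n) => χ i (x i))) =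
        Submodule.pi Set.univ Wi := by
      refine le_antisymm hWle ?_
      intro x hx
      rw [Submodule.mem_pi] at hx
      rw [← Finset.univ_sum_single x]
      refine Submodule.sum_mem _ (fun i _ => ?_)
      exact hsingle i (hx i (Set.mem_univ i))
    have hli : ∀ i, LinearIndependent B (fun c : Fin (r i) => χ i (bM i c)) := by
      intro i
      rw [Fintype.linearIndependent_iff]
      intro g hg
      have h1 : (Matrix.of fun (a c : Fin (r i)) => (bN i).repr (χ i (bM i c)) a) *ᵥ g = 0 := by
        funext a
        have h2 := congrArg (fun w => (bN i).repr w a) hg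
        simp only [map_sum, map_smul, Finsupp.coe_finsetSum, Finsupp.coe_smul, Finset.sum_apply,
          Pi.smul_apply, smul_eq_mul, map_zero, Finsupp.coe_zero, Pi.zero_apply] at h2
        show ∑ c, (Matrix.of fun (a c : Fin (r i)) => (bN i).repr (χ i (bM i c)) a) a c * g c =
          (0 : Fin (r i) → B) a
        rw [Pi.zero_apply, ← h2]
        apply Finset.sum_congr rfl
        intro c _
        rw [Matrix.of_apply, mul_comm]
      have h3 := Matrix.eq_zero_of_mulVec_eq_zero (hdet i) h1
      intro c
      rw [h3]
      rfl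
    have hlen : ∀ i, Module.length B (N i ⧸ Wi i) = Ring.ord B (Matrix.det
        (Matrix.of fun (a c : Fin (r i)) => (bN i).repr (χ i (bM i c)) a)) := by
      intro i
      have h1 := length_quotient_eq_ord_det (bN i) (Wi i) (Module.Basis.span (hli i))
      rw [h1]
      congr 1
      rw [Module.Basis.det_apply]
      congr 1
      ext a c
      rw [Module.Basis.toMatrix_apply, Matrix.of_apply, Function.comp_apply,
        Module.Basis.span_apply]
    rw [hW, (Submodule.quotientPi Wi).length_eq, Module.length_pi_of_fintype,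
      Finset.sum_congr rfl (fun i _ => hlen i), ← ord_prod _ hdet Finset.univ]
    exact ord_eq_addVal (Finset.prod_ne_zero_iff.2 (fun i _ => hdet i))
  · -- some determinant vanishes
    push Not at hdet
    obtain ⟨i0, h0⟩ := hdet
    have hprod : ∏ i, Matrix.det
        (Matrix.of fun (a c : Fin (r i)) => (bN i).repr (χ i (bM i c)) a) = 0 :=
      Finset.prod_eq_zero (Finset.mem_univ i0) h0
    rw [hprod, AddValuation.map_zero]
    obtain ⟨v, hv0, hv⟩ := (Matrix.exists_vecMul_eq_zero_iff).2 h0
    let φ : N i0 →ₗ[B] B := ∑ a, v a • (bN i0).coord a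
    have hφ : ∀ w, φ w = ∑ a, v a * (bN i0).repr w a := by
      intro w
      simp only [φ, LinearMap.sum_apply, LinearMap.smul_apply, Module.Basis.coord_apply,
        smul_eq_mul]
    have hφW : ∀ w ∈ Wi i0, φ w = 0 := by
      intro w hw
      have hle : Wi i0 ≤ LinearMap.ker φ := by
        rw [Submodule.span_le]
        rintro _ ⟨c, rfl⟩
        rw [SetLike.mem_coe, LinearMap.mem_ker, hφ]
        have h1 : ∑ a, v a * (Matrix.of fun (a c : Fin (r i0)) =>
            (bN i0).repr (χ i0 (bM i0 c)) a) a c = 0 := congrFun hv c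
        exact h1
      exact LinearMap.mem_ker.1 (hle hw)
    obtain ⟨a, ha⟩ : ∃ a, v a ≠ 0 := by
      by_contra hcon
      push Not at hcon
      exact hv0 (funext hcon)
    have hφn : φ (bN i0 a) = v a := by
      rw [hφ, Finset.sum_eq_single a]
      · rw [Module.Basis.repr_self, Finsupp.single_eq_same, mul_one]
      · intro a' _ ha'
        rw [Module.Basis.repr_self, Finsupp.single_eq_of_ne ha', mul_zero]
      · intro h
        exact absurd (Finset.mem_univ a) h
    let ι0 : B →ₗ[B] ((∀ i, N i) ⧸
        Submodule.span B (Set.range (fun (x : ∀ i, M i) (i : Fin n) => χ i (x i)))) :=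
      (Submodule.mkQ _) ∘ₗ (LinearMap.toSpanSingleton B (∀ i, N i) (Pi.single i0 (bN i0 a)))
    have hinj : Function.Injective ι0 := by
      rw [injective_iff_map_eq_zero]
      intro b hb
      have h1 : b • (Pi.single i0 (bN i0 a) : ∀ i, N i) ∈
          Submodule.span B (Set.range (fun (x : ∀ i, M i) (i : Fin n) => χ i (x i))) :=
        (Submodule.Quotient.mk_eq_zero _).1 hb
      have h2 := hWle h1
      have h3 : b • bN i0 a ∈ Wi i0 := by
        have h4 := (Submodule.mem_pi.1 h2) i0 (Set.mem_univ _)
        rw [Pi.smul_apply, Pi.single_eq_same] at h4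
        exact h4
      have h5 := hφW _ h3
      rw [map_smul, hφn, smul_eq_mul] at h5
      exact (mul_eq_zero.1 h5).resolve_right ha
    have hle := Module.length_le_of_injective ι0 hinj
    rw [length_self_top] at hle
    exact top_le_iff.1 hle

end main

end H12SL
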