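import Mathlib
import Groth.Prelude.Def_W4c1tameactTame
import Groth.Prelude.Def_ComodTens
import Groth.Prelude.Def_ComodDual
import Groth.Prelude.Def_Hoch
import Groth.Prelude.Def_GLin
import Groth.Agent.Lib.helper12.DualComod
import Groth.Agent.Lib.helper12.ComodDualInv

/-!
# Exactness of invariants on Hopf modules gives a total integral (finite projective Hopf algebra)
-/

set_option autoImplicit false
set_option linter.style.haveILetI false
set_option linter.unusedSectionVars false

namespace H12TE
open TensorProduct

universe u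

variable {k : Type u} [CommRing k] {A : Type u} [CommRing A] [HopfAlgebra k A]
  {B : Type u} [CommRing B] [Algebra k B]

lemma hmSMul_self (x y : B ⊗[k] A) : TameAct.hmSMul k A B B x y = x * y := by
  induction x using TensorProduct.induction_on with
  | zero => simp
  | add x x' h h' => simp only [map_add, LinearMap.add_apply, add_mul, h, h']
  | tmul b a =>
    induction y using TensorProduct.induction_on with
    | zero => simp
    | add y y' h h' => simp only [map_add, mul_add, h, h']
    | tmul b' a' =>
      simp only [TameAct.hmSMul_tmul, Algebra.TensorProduct.tmul_mul_tmul, smul_eq_mul]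

lemma HM (X Y : B ⊗[k] A) (Z : Module.Dual k A ⊗[k] A) :
    TensorProduct.map LinearMap.id (LinearMap.mul' k A)
      (AlgebraTensorModule.tensorTensorTensorComm k k k k B A (Module.Dual k A) A
        ((X * Y) ⊗ₜ[k] Z)) =
    TameAct.hmSMul k A B (B ⊗[k] Module.Dual k A) X
      (TensorProduct.map LinearMap.id (LinearMap.mul' k A)
        (AlgebraTensorModule.tensorTensorTensorComm k k k k B A (Module.Dual k A) A
          (Y ⊗ₜ[k] Z))) := by
  induction X using TensorProduct.induction_on with
  | zero => simp
  | add X X' h h' =>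
    simp only [add_mul, TensorProduct.add_tmul, map_add, LinearMap.add_apply, h, h']
  | tmul b' a' =>
    induction Y using TensorProduct.induction_on with
    | zero => simp
    | add Y Y' h h' => simp only [mul_add, TensorProduct.add_tmul, map_add, h, h']
    | tmul b a =>
      induction Z using TensorProduct.induction_on with
      | zero => simp
      | add Z Z' h h' => simp only [TensorProduct.tmul_add, map_add, h, h']
      | tmul φ a'' =>
        simp only [Algebra.TensorProduct.tmul_mul_tmul,
          AlgebraTensorModule.tensorTensorTensorComm_tmul, TensorProduct.map_tmul,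
          LinearMap.id_apply, LinearMap.mul'_apply, TameAct.hmSMul_tmul,
          TensorProduct.smul_tmul', smul_eq_mul, mul_assoc]

/-- evaluation at `1`. -/
noncomputable def ev₀ : B ⊗[k] Module.Dual k A →ₗ[k] B :=
  (TensorProduct.rid k B).toLinearMap ∘ₗ LinearMap.lTensor B (LinearMap.applyₗ (1 : A))

@[simp] lemma ev₀_tmul (b : B) (φ : Module.Dual k A) :
    ev₀ (k := k) (A := A) (b ⊗ₜ[k] φ) = φ 1 • b := by
  simp [ev₀]

/-- evaluation at `1`, `B`-linear. -/
noncomputable def evB : B ⊗[k] Module.Dual k A →ₗ[B] B where
  toFun := ev₀ (k := k) (A := A)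
  map_add' := (ev₀ (k := k) (A := A) (B := B)).map_add
  map_smul' := by
    intro b' x
    induction x using TensorProduct.induction_on with
    | zero => simp
    | add x y hx hy => simp only [smul_add, map_add, hx, hy]
    | tmul b φ =>
      simp only [TensorProduct.smul_tmul', ev₀_tmul, smul_eq_mul, RingHom.id_apply,
        mul_smul_comm]

lemma EV (X : B ⊗[k] A) (Z : Module.Dual k A ⊗[k] A) :
    (ev₀ (k := k) (A := A) (B := B)).rTensor A
      (TensorProduct.map LinearMap.id (LinearMap.mul' k A)
        (AlgebraTensorModule.tensorTensorTensorComm k k k k B A (Module.Dual k A) A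
          (X ⊗ₜ[k] Z))) =
    X * ((1 : B) ⊗ₜ[k] dualTensorHom k A A Z 1) := by
  induction X using TensorProduct.induction_on with
  | zero => simp
  | add X X' h h' => simp only [TensorProduct.add_tmul, map_add, add_mul, h, h']
  | tmul b a =>
    induction Z using TensorProduct.induction_on with
    | zero => simp
    | add Z Z' h h' =>
      simp only [TensorProduct.tmul_add, map_add, LinearMap.add_apply, mul_add, h, h']
    | tmul ψ a'' =>
      simp only [AlgebraTensorModule.tensorTensorTensorComm_tmul, TensorProduct.map_tmul,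
        LinearMap.id_apply, LinearMap.mul'_apply, LinearMap.rTensor_tmul, ev₀_tmul,
        dualTensorHom_apply, Algebra.TensorProduct.tmul_mul_tmul, mul_one, mul_smul_comm,
        TensorProduct.tmul_smul, TensorProduct.smul_tmul']

lemma F_one (x : B ⊗[k] Module.Dual k A) :
    H12CDI.F (k := k) x (1 : A) = ev₀ (k := k) (A := A) x := by
  induction x using TensorProduct.induction_on with
  | zero => simp
  | add x y hx hy => simp only [map_add, LinearMap.add_apply, hx, hy]
  | tmul b φ => simp only [H12CDI.F_tmul, ev₀_tmul]

theorem exists_totalIntegral [Module.Finite k A] [Module.Projective k A]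
    [HopfRep.Comod k A B] [GLin.IsCoactAlg k A B]
    (hexact : ∀ (M N : Type u) [AddCommGroup M] [Module k M] [Module B M] [IsScalarTower k B M]
      [HopfRep.Comod k A M] [TameAct.IsHopfMod k A B M]
      [AddCommGroup N] [Module k N] [Module B N] [IsScalarTower k B N]
      [HopfRep.Comod k A N] [TameAct.IsHopfMod k A B N] (f : M →ₗ[B] N),
      Hoch.IsComodHom A (f.restrictScalars k) → Function.Surjective f →
      ∀ n ∈ HopfRep.fixedPts k A N, ∃ m ∈ HopfRep.fixedPts k A M, f m = n) :
    ∃ α : A →ₗ[k] B, Hoch.IsComodHom A α ∧ α 1 = 1 := by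
  let cB : HopfRep.Comod k A B := inferInstance
  let cA : HopfRep.Comod k A A := inferInstance
  obtain ⟨d, hd⟩ := H12DC.exists_dual cA
  letI cN : HopfRep.Comod k A (B ⊗[k] Module.Dual k A) := ComodTens.Comod.tensor cB d
  haveI hN : TameAct.IsHopfMod k A B (B ⊗[k] Module.Dual k A) := by
    refine ⟨fun b' x => ?_⟩
    induction x using TensorProduct.induction_on with
    | zero => simp
    | add x y hx hy => simp only [smul_add, map_add, hx, hy]
    | tmul b φ =>
      rw [TensorProduct.smul_tmul', smul_eq_mul]
      change (ComodTens.Comod.tensor cB d).coact ((b' * b) ⊗ₜ[k] φ) =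
        TameAct.hmSMul k A B (B ⊗[k] Module.Dual k A) (cB.coact b')
          ((ComodTens.Comod.tensor cB d).coact (b ⊗ₜ[k] φ))
      rw [ComodTens.tensor_coact_tmul, ComodTens.tensor_coact_tmul,
        show cB.coact (b' * b) = cB.coact b' * cB.coact b from
          GLin.IsCoactAlg.coact_mul (k := k) (A := A) b' b, HM]
  haveI hB : TameAct.IsHopfMod k A B B := by
    refine ⟨fun b b' => ?_⟩
    rw [smul_eq_mul, GLin.IsCoactAlg.coact_mul (k := k) (A := A), hmSMul_self]
  have h1 : (1 : B) ∈ HopfRep.fixedPts k A B := by
    change HopfRep.Comod.coact (k := k) (A := A) (1 : B) = (1 : B) ⊗ₜ[k] (1 : A)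
    rw [GLin.IsCoactAlg.coact_one (k := k) (A := A)]
    rfl
  have hcomod : Hoch.IsComodHom A ((evB (k := k) (A := A) (B := B)).restrictScalars k) := by
    change cB.coact ∘ₗ ((evB (k := k) (A := A) (B := B)).restrictScalars k) =
      ((evB (k := k) (A := A) (B := B)).restrictScalars k).rTensor A ∘ₗ
        (ComodTens.Comod.tensor cB d).coact
    apply TensorProduct.ext'
    intro b φ
    have hφ : dualTensorHom k A A (d.coact φ) 1 = φ 1 • (1 : A) := by
      rw [hd φ, ComodTens.dualCoactFun_apply]
      change TensorProduct.lid k A (TensorProduct.map φ _ (CoalgebraStruct.comul (R := k) (1 : A))) = _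
      rw [Bialgebra.comul_one, Algebra.TensorProduct.one_def, TensorProduct.map_tmul,
        TensorProduct.lid_tmul]
      congr 1
      exact HopfAlgebra.antipode_one
    rw [LinearMap.comp_apply, LinearMap.comp_apply, ComodTens.tensor_coact_tmul]
    change cB.coact (ev₀ (k := k) (A := A) (b ⊗ₜ[k] φ)) =
      (ev₀ (k := k) (A := A) (B := B)).rTensor A _
    rw [EV, hφ, ev₀_tmul, map_smul, TensorProduct.tmul_smul, mul_smul_comm,
      ← Algebra.TensorProduct.one_def, mul_one]
  have hsurj : Function.Surjective (evB (k := k) (A := A) (B := B)) := by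
    intro b
    refine ⟨b ⊗ₜ[k] (CoalgebraStruct.counit (R := k) (A := A)), ?_⟩
    change ev₀ (k := k) (A := A) (b ⊗ₜ[k] (CoalgebraStruct.counit (R := k) (A := A))) = b
    rw [ev₀_tmul]
    change (CoalgebraStruct.counit (R := k) (A := A)) (1 : A) • b = b
    rw [Bialgebra.counit_one, one_smul]
  obtain ⟨x, hx, hx1⟩ := hexact (B ⊗[k] Module.Dual k A) B (evB (k := k) (A := A) (B := B))
    hcomod hsurj 1 h1
  refine ⟨H12CDI.F (k := k) x, ?_, ?_⟩
  · have hx' : (ComodTens.Comod.tensor cB d).coact x = x ⊗ₜ[k] (1 : A) := hx
    exact H12CDI.isComodHom_of_T_eq cB cA _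
      (by rw [← H12CDI.claimA cB cA d hd, ← H12CDI.claimB, hx'])
  · rw [F_one]
    exact hx1

end H12TE
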