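import Mathlib
import Groth.Prelude.Def_W4c5m1nsnscurvesU

/-!
helper12: the coordinate ring `URing ℤ 2` of U_5 is a polynomial ring in six variables.
-/

set_option autoImplicit false
open W4c5m1nsnscurves MvPolynomial

namespace Groth.Agent.H12U5

abbrev P6 := MvPolynomial (Fin 6) ℤ

/-- `c_{54}` in terms of the six variables -/
noncomputable def c10 : P6 := X 0 + X 1 + X 2 + X 3 + X 4 - X 5

noncomputable def g : UGen 2 → P6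
  | .a => X 0
  | .c => c10 * X 3 + X 5 * X 1 - X 1 * X 3
  | .cb => c10 * X 2 + X 5 * X 4 - X 2 * X 4
  | .ci i => if i = 0 then X 1 else X 3
  | .cbi i => if i = 0 then X 2 else X 4
  | .cij i _ _ => if i = 0 then X 5 else c10

lemma hkill : ∀ r ∈ URel ℤ 2, aeval g r = 0 := by
  intro r hr
  rcases hr with ((hr | hr) | hr) | hr
  · obtain ⟨⟨⟨i, j⟩, h⟩, rfl⟩ := hr
    fin_cases i <;> fin_cases j <;> simp [g, c10] at h ⊢ <;> ring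
  · obtain ⟨⟨⟨i, j⟩, h⟩, rfl⟩ := hr
    fin_cases i <;> fin_cases j <;> simp [g, c10] at h ⊢ <;> ring
  · obtain ⟨⟨⟨i, j⟩, h⟩, rfl⟩ := hr
    fin_cases i <;> fin_cases j <;> simp [g, c10] at h ⊢ <;> ring
  · obtain ⟨⟨⟨i, j, l⟩, h⟩, rfl⟩ := hr
    exfalso
    fin_cases i <;> fin_cases j <;> fin_cases l <;> simp at h

noncomputable def ψ : URing ℤ 2 →ₐ[ℤ] P6 :=
  Ideal.Quotient.liftₐ (Ideal.span (URel ℤ 2)) (aeval g) (fun a ha =>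
    RingHom.mem_ker.1 ((Ideal.span_le.2 (fun r hr => RingHom.mem_ker.2 (hkill r hr)) :
      Ideal.span (URel ℤ 2) ≤ RingHom.ker (aeval g)) ha))

lemma ψ_ugen (x : UGen 2) : ψ (ugen ℤ 2 x) = g x := by
  unfold ψ ugen
  rw [Ideal.Quotient.liftₐ_apply, Ideal.Quotient.lift_mk]
  simp

noncomputable def φ : P6 →ₐ[ℤ] URing ℤ 2 :=
  MvPolynomial.aeval (R := ℤ) (S₁ := URing ℤ 2)
    ![ugen ℤ 2 .a, ugen ℤ 2 (.ci 0), ugen ℤ 2 (.cbi 0), ugen ℤ 2 (.ci 1), ugen ℤ 2 (.cbi 1),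
      ugen ℤ 2 (.cij 0 1 Fin.zero_ne_one)]

abbrev q01 : DPair 2 := ⟨((0 : Fin 2), (1 : Fin 2)), Fin.zero_ne_one⟩

lemma hlin : ugen ℤ 2 (.cij 0 1 Fin.zero_ne_one) + ugen ℤ 2 (.cij 1 0 (Ne.symm Fin.zero_ne_one)) =
    ugen ℤ 2 .a + ugen ℤ 2 (.ci 0) + ugen ℤ 2 (.cbi 0) + ugen ℤ 2 (.ci 1) + ugen ℤ 2 (.cbi 1) := by
  have hmem : (X (.cij q01.1.1 q01.1.2 q01.2) + X (.cij q01.1.2 q01.1.1 (Ne.symm q01.2)) -
      (X .a + X (.ci q01.1.1) + X (.cbi q01.1.1) + X (.ci q01.1.2) + X (.cbi q01.1.2)) :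
      MvPolynomial (UGen 2) ℤ) ∈ URel ℤ 2 :=
    Or.inl (Or.inl (Or.inl ⟨q01, rfl⟩))
  have h0 := Ideal.Quotient.eq_zero_iff_mem.2 (Ideal.subset_span hmem)
  rw [map_sub, sub_eq_zero] at h0
  simp only [map_add] at h0
  exact h0

lemma hq1 : ugen ℤ 2 (.cij 1 0 (Ne.symm Fin.zero_ne_one)) * ugen ℤ 2 (.ci 1) +
    ugen ℤ 2 (.cij 0 1 Fin.zero_ne_one) * ugen ℤ 2 (.ci 0) -
    ugen ℤ 2 (.ci 0) * ugen ℤ 2 (.ci 1) = ugen ℤ 2 .c := by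
  have hmem : (X (.cij q01.1.2 q01.1.1 (Ne.symm q01.2)) * X (.ci q01.1.2) +
      X (.cij q01.1.1 q01.1.2 q01.2) * X (.ci q01.1.1) -
      X (.ci q01.1.1) * X (.ci q01.1.2) - X .c : MvPolynomial (UGen 2) ℤ) ∈ URel ℤ 2 :=
    Or.inl (Or.inl (Or.inr ⟨q01, rfl⟩))
  have h0 := Ideal.Quotient.eq_zero_iff_mem.2 (Ideal.subset_span hmem)
  rw [map_sub, sub_eq_zero] at h0
  simp only [map_add, map_sub, map_mul] at h0
  exact h0

lemma hq2 : ugen ℤ 2 (.cij 1 0 (Ne.symm Fin.zero_ne_one)) * ugen ℤ 2 (.cbi 0) +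
    ugen ℤ 2 (.cij 0 1 Fin.zero_ne_one) * ugen ℤ 2 (.cbi 1) -
    ugen ℤ 2 (.cbi 0) * ugen ℤ 2 (.cbi 1) = ugen ℤ 2 .cb := by
  have hmem : (X (.cij q01.1.2 q01.1.1 (Ne.symm q01.2)) * X (.cbi q01.1.1) +
      X (.cij q01.1.1 q01.1.2 q01.2) * X (.cbi q01.1.2) -
      X (.cbi q01.1.1) * X (.cbi q01.1.2) - X .cb : MvPolynomial (UGen 2) ℤ) ∈ URel ℤ 2 :=
    Or.inl (Or.inr ⟨q01, rfl⟩)
  have h0 := Ideal.Quotient.eq_zero_iff_mem.2 (Ideal.subset_span hmem)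
  rw [map_sub, sub_eq_zero] at h0
  simp only [map_add, map_sub, map_mul] at h0
  exact h0

lemma φ_X0 : φ (X 0) = ugen ℤ 2 .a := by simp [φ]
lemma φ_X1 : φ (X 1) = ugen ℤ 2 (.ci 0) := by simp [φ]
lemma φ_X2 : φ (X 2) = ugen ℤ 2 (.cbi 0) := by simp [φ]
lemma φ_X3 : φ (X 3) = ugen ℤ 2 (.ci 1) := by simp [φ]
lemma φ_X4 : φ (X 4) = ugen ℤ 2 (.cbi 1) := by simp [φ]
lemma φ_X5 : φ (X 5) = ugen ℤ 2 (.cij 0 1 Fin.zero_ne_one) := by simp [φ]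

lemma φ_c10 : φ c10 = ugen ℤ 2 (.cij 1 0 (Ne.symm Fin.zero_ne_one)) := by
  unfold c10
  rw [map_sub, map_add, map_add, map_add, map_add, φ_X0, φ_X1, φ_X2, φ_X3, φ_X4, φ_X5, ← hlin]
  ring

lemma φ_g (x : UGen 2) : φ (g x) = ugen ℤ 2 x := by
  cases x with
  | a => exact φ_X0
  | c =>
    show φ (c10 * X 3 + X 5 * X 1 - X 1 * X 3) = _
    rw [map_sub, map_add, map_mul, map_mul, map_mul, φ_c10, φ_X1, φ_X3, φ_X5, ← hq1]
  | cb =>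
    show φ (c10 * X 2 + X 5 * X 4 - X 2 * X 4) = _
    rw [map_sub, map_add, map_mul, map_mul, map_mul, φ_c10, φ_X2, φ_X4, φ_X5, ← hq2]
  | ci i =>
    fin_cases i
    · exact φ_X1
    · exact φ_X3
  | cbi i =>
    fin_cases i
    · exact φ_X2
    · exact φ_X4
  | cij i j h =>
    fin_cases i <;> fin_cases j
    · exact absurd rfl h
    · exact φ_X5
    · exact φ_c10
    · exact absurd rfl h

lemma ψφ (p : P6) : ψ (φ p) = p := by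
  have : ψ.comp φ = AlgHom.id ℤ P6 := by
    apply MvPolynomial.algHom_ext
    intro i
    rw [AlgHom.comp_apply, AlgHom.id_apply]
    fin_cases i
    · show ψ (φ (X 0)) = X 0
      rw [φ_X0, ψ_ugen]; rfl
    · show ψ (φ (X 1)) = X 1
      rw [φ_X1, ψ_ugen]; rfl
    · show ψ (φ (X 2)) = X 2
      rw [φ_X2, ψ_ugen]; rfl
    · show ψ (φ (X 3)) = X 3
      rw [φ_X3, ψ_ugen]; simp [g]
    · show ψ (φ (X 4)) = X 4
      rw [φ_X4, ψ_ugen]; simp [g]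
    · show ψ (φ (X 5)) = X 5
      rw [φ_X5, ψ_ugen]; rfl
  exact AlgHom.congr_fun this p

lemma φψ (u : URing ℤ 2) : φ (ψ u) = u := by
  have : φ.comp ψ = AlgHom.id ℤ (URing ℤ 2) := by
    apply Ideal.Quotient.algHom_ext
    apply MvPolynomial.algHom_ext
    intro x
    show φ (ψ (ugen ℤ 2 x)) = ugen ℤ 2 x
    rw [ψ_ugen, φ_g]
  exact AlgHom.congr_fun this u

theorem bijective_φ : Function.Bijective φ :=
  Function.bijective_iff_has_inverse.2 ⟨ψ, ψφ, φψ⟩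

end Groth.Agent.H12U5
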