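import Mathlib
import Groth.Prelude.Def_Versch
import Groth.Prelude.Def_SGA3b

/-!
helper12: Verschiebung computations.  Dual "basis" of a finite projective module, rank one maps in
the convolution algebra, the formula `[p] a = Σ (eᵢ*)^{*p}(a) eᵢ^p` in characteristic `p`, and
`F ∘ V = [p]`.
-/

set_option autoImplicit false
set_option linter.unusedSectionVars false
set_option linter.style.haveILetI false
universe u v w

open TensorProduct

namespace Groth.Agent.H12Ver

open WithConv

section DualBasis

variable (R : Type u) [CommRing R] (M : Type v) [AddCommGroup M] [Module R M]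
  [Module.Finite R M] [Module.Projective R M]

/-- dual "basis" lemma for finite projective modules -/
theorem exists_dualBasis : ∃ (n : ℕ) (e : Fin n → M) (es : Fin n → M →ₗ[R] R),
    ∀ a : M, a = ∑ i, es i a • e i := by
  obtain ⟨n, f, g, _, _, hfg⟩ := Module.Finite.exists_comp_eq_id_of_projective R M
  refine ⟨n, fun i => f (Pi.single i 1), fun i => LinearMap.proj i ∘ₗ g, fun a => ?_⟩
  have h1 : a = f (g a) := by
    have := LinearMap.congr_fun hfg a
    simpa using this.symm
  conv_lhs => rw [h1]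
  have h2 : g a = ∑ i, (g a i) • (Pi.single i 1 : Fin n → R) := by
    ext j
    simp [Finset.sum_apply, Pi.single_apply]
  conv_lhs => rw [h2]
  rw [map_sum]
  refine Finset.sum_congr rfl fun i _ => ?_
  rw [map_smul]
  rfl

end DualBasis

section RankOne

variable {R : Type u} [CommRing R] {A : Type v} [CommRing A] [HopfAlgebra R A]

lemma smulRight_key (φ ψ : A →ₗ[R] R) (b c : A) (t : A ⊗[R] A) :
    LinearMap.mul' R A (TensorProduct.map (φ.smulRight b) (ψ.smulRight c) t) =
      (LinearMap.mul' R R (TensorProduct.map φ ψ t)) • (b * c) := by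
  induction t using TensorProduct.induction_on with
  | zero => simp
  | tmul x y => simp [smul_smul, mul_comm]
  | add x y hx hy => simp only [map_add, hx, hy, add_smul]

lemma smulRight_mul (φ ψ : WithConv (A →ₗ[R] R)) (b c : A) :
    (toConv (φ.ofConv.smulRight b) * toConv (ψ.ofConv.smulRight c) : WithConv (A →ₗ[R] A)) =
      toConv ((φ * ψ).ofConv.smulRight (b * c)) := by
  apply WithConv.ofConv_injective
  ext x
  rw [LinearMap.convMul_apply]
  exact smulRight_key _ _ _ _ _

lemma smulRight_pow (φ : WithConv (A →ₗ[R] R)) (b : A) (m : ℕ) :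
    (toConv (φ.ofConv.smulRight b) : WithConv (A →ₗ[R] A)) ^ m =
      toConv ((φ ^ m).ofConv.smulRight (b ^ m)) := by
  induction m with
  | zero =>
    apply WithConv.ofConv_injective
    ext x
    simp [LinearMap.convOne_def, Algebra.algebraMap_eq_smul_one]
  | succ m ih => rw [pow_succ, ih, smulRight_mul, pow_succ, pow_succ]

variable [Coalgebra.IsCocomm R A] (p : ℕ) [Fact p.Prime] [CharP A p]

lemma algebraMap_conv_injective :
    Function.Injective (algebraMap A (WithConv (A →ₗ[R] A))) := by
  intro a b h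
  have := congrArg (fun f : WithConv (A →ₗ[R] A) => f.ofConv 1) h
  simpa [LinearMap.convAlgebraMap_apply] using this

/-- `[p] a = Σ (eᵢ*)^{*p}(a) • eᵢ^p` -/
theorem convPow_id_apply {n : ℕ} (e : Fin n → A) (es : Fin n → A →ₗ[R] R)
    (h : ∀ a : A, a = ∑ i, es i a • e i) (a : A) :
    ((toConv (LinearMap.id : A →ₗ[R] A)) ^ p).ofConv a =
      ∑ i, ((toConv (es i)) ^ p : WithConv (A →ₗ[R] R)).ofConv a • (e i) ^ p := by
  haveI : CharP (WithConv (A →ₗ[R] A)) p :=
    charP_of_injective_ringHom (algebraMap_conv_injective (R := R) (A := A)) p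
  have h1 : (toConv (LinearMap.id : A →ₗ[R] A)) =
      ∑ i, (toConv ((es i).smulRight (e i)) : WithConv (A →ₗ[R] A)) := by
    apply WithConv.ofConv_injective
    rw [WithConv.ofConv_sum]
    ext x
    rw [LinearMap.sum_apply]
    exact h x
  rw [h1, sum_pow_char, WithConv.ofConv_sum, LinearMap.sum_apply]
  refine Finset.sum_congr rfl fun i _ => ?_
  have := smulRight_pow (toConv (es i)) (e i) p
  rw [WithConv.ofConv_toConv] at this
  rw [this]
  rfl

end RankOne

section V

variable (p : ℕ) [Fact p.Prime] (R : Type u) [CommRing R] [CharP R p] (A : Type u) [CommRing A]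
  [HopfAlgebra R A]

lemma expand_twist {n : ℕ} (e : Fin n → A) (es : Fin n → A →ₗ[R] R)
    (h : ∀ a : A, a = ∑ i, es i a • e i) (z : FrobAlg.BaseChange p R A) :
    z = ∑ i, e i ⊗ₜ[R] (Versch.evTw p R A (toConv (es i)) z) := by
  induction z using TensorProduct.induction_on with
  | zero => simp
  | tmul a s =>
    simp only [Versch.evTw_tmul]
    conv_lhs => rw [h a, TensorProduct.sum_tmul]
    refine Finset.sum_congr rfl fun i _ => ?_
    rw [TensorProduct.smul_tmul, Algebra.smul_def]
  | add x y hx hy =>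
    conv_lhs => rw [hx, hy]
    simp only [map_add, tmul_add, Finset.sum_add_distrib]

lemma relFrob_tmul [CharP A p] (b : A) (t : FrobAlg.Twist p R) :
    FrobAlg.relFrob p R A (b ⊗ₜ t) = b ^ p * algebraMap R A ((FrobAlg.toTwist p R).symm t) := by
  simp [FrobAlg.relFrob, FrobAlg.frobHom, FrobAlg.inclHom, Algebra.TensorProduct.lift_tmul]
  rfl

lemma powConv_apply (m : ℕ) (a : A) :
    SGA3b.powConv R A m a = ((toConv (LinearMap.id : A →ₗ[R] A)) ^ m).ofConv a := by
  have := AlgHom.toLinearMap_convPow (toConv (AlgHom.id R A)) m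
  have h2 := congrArg (fun f : WithConv (A →ₗ[R] A) => f.ofConv a) this
  simpa [SGA3b.powConv] using h2

variable [Coalgebra.IsCocomm R A] [Module.Finite R A] [Module.Projective R A] [CharP A p]

/-- `F ∘ V = [p]` on coordinate rings -/
theorem relFrob_verschiebung (v : A →+* FrobAlg.BaseChange p R A)
    (hv : Versch.IsVerschiebung p R A v) (a : A) :
    FrobAlg.relFrob p R A (v a) = SGA3b.powConv R A p a := by
  obtain ⟨n, e, es, h⟩ := exists_dualBasis R A
  rw [Versch.isVerschiebung_iff] at hv
  rw [expand_twist p R A e es h (v a), map_sum, powConv_apply, convPow_id_apply p e es h a]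
  refine Finset.sum_congr rfl fun i _ => ?_
  rw [relFrob_tmul, hv, RingEquiv.symm_apply_apply, mul_comm, ← Algebra.smul_def]

end V

section BaseChangeConv

variable {R : Type u} [CommRing R] {A : Type v} [CommRing A] [HopfAlgebra R A]
variable (S : Type w) [CommRing S] [Algebra R S]

lemma ext_one_tmul {P : Type*} [AddCommGroup P] [Module S P] [Module R P] [IsScalarTower R S P]
    (f g : (S ⊗[R] A) →ₗ[S] P) (h : ∀ a, f (1 ⊗ₜ a) = g (1 ⊗ₜ a)) : f = g := by
  apply TensorProduct.AlgebraTensorModule.ext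
  intro x y
  have : x ⊗ₜ[R] y = x • ((1 : S) ⊗ₜ[R] y) := by
    rw [TensorProduct.smul_tmul', smul_eq_mul, mul_one]
  rw [this, map_smul, map_smul, h]

lemma bc_key (f g : A →ₗ[R] A) (t : A ⊗[R] A) :
    LinearMap.mul' S (S ⊗[R] A) (TensorProduct.map (f.baseChange S) (g.baseChange S)
      (TensorProduct.AlgebraTensorModule.tensorTensorTensorComm R S R S S S A A
        (((1 : S) ⊗ₜ[S] (1 : S)) ⊗ₜ[R] t))) =
    (1 : S) ⊗ₜ[R] (LinearMap.mul' R A (TensorProduct.map f g t)) := by
  induction t using TensorProduct.induction_on with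
  | zero => simp
  | tmul x y => simp
  | add x y hx hy => simp only [tmul_add, map_add, hx, hy]

lemma bc_mul (f g : WithConv (A →ₗ[R] A)) :
    (toConv ((f * g).ofConv.baseChange S) : WithConv ((S ⊗[R] A) →ₗ[S] (S ⊗[R] A))) =
      toConv (f.ofConv.baseChange S) * toConv (g.ofConv.baseChange S) := by
  apply WithConv.ofConv_injective
  apply ext_one_tmul
  intro a
  rw [WithConv.ofConv_toConv, LinearMap.baseChange_tmul]
  have h2 : (toConv (f.ofConv.baseChange S) * toConv (g.ofConv.baseChange S) :
      WithConv ((S ⊗[R] A) →ₗ[S] (S ⊗[R] A))).ofConv ((1 : S) ⊗ₜ[R] a) =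
      LinearMap.mul' S (S ⊗[R] A) (TensorProduct.map (f.ofConv.baseChange S) (g.ofConv.baseChange S)
        (Coalgebra.comul (R := S) ((1 : S) ⊗ₜ[R] a))) := rfl
  rw [h2, TensorProduct.comul_tmul, Bialgebra.comul_one, Algebra.TensorProduct.one_def, bc_key]
  rfl

lemma bc_one :
    (toConv ((1 : WithConv (A →ₗ[R] A)).ofConv.baseChange S) :
      WithConv ((S ⊗[R] A) →ₗ[S] (S ⊗[R] A))) = 1 := by
  apply WithConv.ofConv_injective
  apply ext_one_tmul
  intro a
  rw [WithConv.ofConv_toConv, LinearMap.baseChange_tmul]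
  have h2 : (1 : WithConv ((S ⊗[R] A) →ₗ[S] (S ⊗[R] A))).ofConv ((1 : S) ⊗ₜ[R] a) =
      algebraMap S (S ⊗[R] A) (Coalgebra.counit (R := S) ((1 : S) ⊗ₜ[R] a)) := rfl
  rw [h2, TensorProduct.counit_tmul]
  simp [LinearMap.convOne_def, Algebra.algebraMap_eq_smul_one]
  rw [Algebra.TensorProduct.one_def]

/-- base change of endomorphisms as a monoid hom of convolution algebras -/
noncomputable def bcHom : WithConv (A →ₗ[R] A) →* WithConv ((S ⊗[R] A) →ₗ[S] (S ⊗[R] A)) where
  toFun f := toConv (f.ofConv.baseChange S)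
  map_one' := bc_one S
  map_mul' := bc_mul S

lemma convPow_id_baseChange (m : ℕ) (s : S) (b : A) :
    ((toConv (LinearMap.id : (S ⊗[R] A) →ₗ[S] (S ⊗[R] A))) ^ m).ofConv (s ⊗ₜ b) =
      s ⊗ₜ[R] ((toConv (LinearMap.id : A →ₗ[R] A)) ^ m).ofConv b := by
  have h1 : bcHom (R := R) (A := A) S (toConv LinearMap.id) = toConv LinearMap.id := by
    apply WithConv.ofConv_injective
    exact LinearMap.baseChange_id
  have h2 := map_pow (bcHom (R := R) (A := A) S) (toConv LinearMap.id) m
  rw [h1] at h2
  rw [← h2]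
  exact LinearMap.baseChange_tmul _ _ _

end BaseChangeConv

section VF

lemma sum_pow_of_cast_eq_zero (p : ℕ) [Fact p.Prime] {B : Type*} [CommRing B] (hp : (p : B) = 0)
    {ι : Type*} (s : Finset ι) (f : ι → B) : (∑ i ∈ s, f i) ^ p = ∑ i ∈ s, f i ^ p := by
  rcases subsingleton_or_nontrivial B with h | h
  · exact Subsingleton.elim _ _
  obtain ⟨q, hq⟩ := CharP.exists B
  have hdvd : q ∣ p := (CharP.cast_eq_zero_iff B q p).mp hp
  have hq1 : q ≠ 1 := CharP.char_ne_one B q
  have : q = p := ((Nat.Prime.eq_one_or_self_of_dvd (Fact.out : p.Prime) q hdvd).resolve_left hq1)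
  subst this
  exact sum_pow_char q s f

variable (p : ℕ) [Fact p.Prime] (R : Type u) [CommRing R] [CharP R p] (A : Type u) [CommRing A]
  [HopfAlgebra R A] [Coalgebra.IsCocomm R A] [Module.Finite R A] [Module.Projective R A] [CharP A p]

omit [Fact p.Prime] [CharP R p] [Coalgebra.IsCocomm R A] [Module.Finite R A] [Module.Projective R A]
  [CharP A p] in
lemma conv_pow_apply_one (x : WithConv (A →ₗ[R] R)) (m : ℕ) :
    (x ^ m).ofConv 1 = (x.ofConv 1) ^ m := by
  induction m with
  | zero => simp [LinearMap.convOne_def]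
  | succ m ih =>
    rw [pow_succ, pow_succ, ← ih]
    have : ((x ^ m) * x).ofConv (1 : A) = LinearMap.mul' R R
        (TensorProduct.map (x ^ m).ofConv x.ofConv (Coalgebra.comul (R := R) (1 : A))) := rfl
    rw [this, Bialgebra.comul_one, Algebra.TensorProduct.one_def]
    simp

lemma v_algebraMap (v : A →+* FrobAlg.BaseChange p R A) (hv : Versch.IsVerschiebung p R A v)
    (r : R) : v (algebraMap R A r) = (1 : A) ⊗ₜ[R] FrobAlg.toTwist p R r := by
  rw [Versch.isVerschiebung_iff] at hv
  apply Versch.evTw_injective p R A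
  intro x
  rw [hv, Versch.evTw_tmul, FrobAlg.algebraMap_twist, CartDual.coe_apply, CartDual.coe_apply,
    Algebra.algebraMap_eq_smul_one, map_smul, conv_pow_apply_one, smul_eq_mul, map_mul, map_pow,
    mul_comm]

/-- `V ∘ F = [p]` on the Frobenius twist, on pure tensors -/
theorem verschiebung_relFrob (v : A →+* FrobAlg.BaseChange p R A)
    (hv : Versch.IsVerschiebung p R A v) (s : FrobAlg.Twist p R) (b : A) :
    (Algebra.TensorProduct.comm R A (FrobAlg.Twist p R))
        (v (FrobAlg.relFrob p R A (b ⊗ₜ s))) =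
      SGA3b.powConv (FrobAlg.Twist p R) (FrobAlg.Twist p R ⊗[R] A) p (s ⊗ₜ b) := by
  obtain ⟨n, e, es, h⟩ := exists_dualBasis R A
  have hv' := (Versch.isVerschiebung_iff p R A v).mp hv
  have hp0 : ((p : ℕ) : FrobAlg.BaseChange p R A) = 0 := by
    rw [← map_natCast (algebraMap R (FrobAlg.BaseChange p R A)) p, CharP.cast_eq_zero, map_zero]
  have hvb : v b = ∑ i, e i ⊗ₜ[R]
      FrobAlg.toTwist p R (((toConv (es i)) ^ p : WithConv (A →ₗ[R] R)).ofConv b) := by
    conv_lhs => rw [expand_twist p R A e es h (v b)]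
    refine Finset.sum_congr rfl fun i _ => ?_
    rw [hv']
  rw [relFrob_tmul, map_mul, map_pow, v_algebraMap p R A v hv, RingEquiv.apply_symm_apply, hvb,
    sum_pow_of_cast_eq_zero p hp0, Finset.sum_mul, map_sum, powConv_apply, convPow_id_baseChange,
    convPow_id_apply p e es h b, TensorProduct.tmul_sum]
  refine Finset.sum_congr rfl fun i _ => ?_
  rw [Algebra.TensorProduct.tmul_pow, Algebra.TensorProduct.tmul_mul_tmul, mul_one,
    Algebra.TensorProduct.comm_tmul, TensorProduct.tmul_smul, TensorProduct.smul_tmul',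
    Algebra.smul_def, FrobAlg.algebraMap_twist, map_pow]

end VF

section PowMul

variable (R : Type u) [CommRing R] (A : Type u) [CommRing A] [HopfAlgebra R A]
  [Coalgebra.IsCocomm R A]

/-- precomposition with a bialgebra hom as a monoid hom of convolution monoids -/
noncomputable def compRightHom {B : Type u} [CommRing B] [Bialgebra R B] (β : B →ₐc[R] A) :
    WithConv (A →ₐ[R] A) →* WithConv (B →ₐ[R] A) where
  toFun g := toConv (g.ofConv.comp (β : B →ₐ[R] A))
  map_one' := by
    apply WithConv.ofConv_injective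
    ext x
    simp [AlgHom.convOne_apply]
  map_mul' g h := by
    apply WithConv.ofConv_injective
    exact AlgHom.convMul_comp_bialgHom_distrib g h β

/-- `[m n] = [m] ∘ [n]` for a commutative cocommutative Hopf algebra -/
theorem powConv_mul (m n : ℕ) :
    SGA3b.powConv R A (m * n) = (SGA3b.powConv R A m).comp (SGA3b.powConv R A n) := by
  let β : A →ₐc[R] A := ((toConv (BialgHom.id R A)) ^ n : WithConv (A →ₐc[R] A)).ofConv
  have hβ : (β : A →ₐ[R] A) = SGA3b.powConv R A n := by
    have := BialgHom.toAlgHom_convPow (toConv (BialgHom.id R A)) n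
    have h2 := congrArg WithConv.ofConv this
    simpa [SGA3b.powConv] using h2
  have h1 := map_pow (compRightHom R A β) (toConv (AlgHom.id R A)) m
  have h3 : compRightHom R A β (toConv (AlgHom.id R A)) = (toConv (AlgHom.id R A)) ^ n := by
    apply WithConv.ofConv_injective
    show (AlgHom.id R A).comp (β : A →ₐ[R] A) = _
    rw [hβ, AlgHom.id_comp]
    rfl
  rw [h3, ← pow_mul, mul_comm] at h1
  have h4 := congrArg WithConv.ofConv h1
  show ((toConv (AlgHom.id R A)) ^ (m * n)).ofConv = _
  rw [← h4]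
  show ((toConv (AlgHom.id R A)) ^ m).ofConv.comp (β : A →ₐ[R] A) = _
  rw [hβ]
  rfl

lemma powConv_one : SGA3b.powConv R A 1 = AlgHom.id R A := by
  show ((toConv (AlgHom.id R A)) ^ 1).ofConv = _
  rw [pow_one]

end PowMul

end Groth.Agent.H12Ver
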