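import Mathlib
import Groth.Prelude.Def_Versch
import Groth.Agent.Lib.helper25.FrobA

/-!
helper12: over a field, the Cartier dual is étale iff the Verschiebung is bijective.
Both are equivalent to: the `p`-th convolution powers of a dual basis span the dual.
-/

set_option autoImplicit false
set_option linter.unusedSectionVars false
set_option linter.style.haveILetI false
universe u v w

open TensorProduct

namespace Groth.Agent.H12Ver2

open WithConv

variable (p : ℕ) [Fact p.Prime] (k : Type u) [Field k] [CharP k p] (A : Type v) [CommRing A]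
  [HopfAlgebra k A] [Coalgebra.IsCocomm k A] [FiniteDimensional k A]

variable {ι : Type w} [Fintype ι] [DecidableEq ι] (b : Module.Basis ι k A)

/-- the dual basis functionals, in the convolution algebra -/
noncomputable def xs (i : ι) : CartDual.D k A := toConv (b.coord i)

variable {A}

omit [Fact p.Prime] [CharP k p] [Coalgebra.IsCocomm k A] [FiniteDimensional k A] [DecidableEq ι] in
lemma sum_xs (a : A) : a = ∑ i, (xs k A b i).ofConv a • b i := by
  conv_lhs => rw [← b.sum_repr a]
  rfl

omit [Coalgebra.IsCocomm k A] [FiniteDimensional k A] [DecidableEq ι] in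
lemma expand_twist (z : FrobAlg.BaseChange p k A) :
    z = ∑ i, b i ⊗ₜ[k] (Versch.evTw p k A (xs k A b i) z) := by
  induction z using TensorProduct.induction_on with
  | zero => simp
  | tmul a s =>
    simp only [Versch.evTw_tmul]
    conv_lhs => rw [sum_xs k b a, TensorProduct.sum_tmul]
    refine Finset.sum_congr rfl fun i _ => ?_
    rw [TensorProduct.smul_tmul, Algebra.smul_def]
  | add x y hx hy =>
    conv_lhs => rw [hx, hy]
    simp only [map_add, tmul_add, Finset.sum_add_distrib]

omit [Coalgebra.IsCocomm k A] [FiniteDimensional k A] in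
lemma evTw_sum (t : ι → FrobAlg.Twist p k) (j : ι) :
    Versch.evTw p k A (xs k A b j) (∑ i, b i ⊗ₜ[k] t i) = t j := by
  rw [map_sum]
  simp only [Versch.evTw_tmul]
  rw [Finset.sum_eq_single j]
  · have : (xs k A b j) (b j) = 1 := by
      show b.coord j (b j) = 1
      simp
    rw [this, map_one, one_mul]
  · intro i _ hij
    have : (xs k A b j) (b i) = 0 := by
      show b.coord j (b i) = 0
      simp [hij]
    rw [this, map_zero, zero_mul]
  · intro h; exact absurd (Finset.mem_univ j) h

variable (A) in
/-- the span of the `p`-th convolution powers of the dual basis -/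
noncomputable def W : Submodule k (CartDual.D k A) :=
  Submodule.span k (Set.range fun i => (xs k A b i) ^ p)

section VSide

variable (v : A →+* FrobAlg.BaseChange p k A) (hv : Versch.IsVerschiebung p k A v)

include hv in
omit [DecidableEq ι] in
lemma v_eq (a : A) :
    v a = ∑ i, b i ⊗ₜ[k] FrobAlg.toTwist p k (((xs k A b i) ^ p).ofConv a) := by
  have hv' := (Versch.isVerschiebung_iff p k A v).mp hv
  conv_lhs => rw [expand_twist p k b (v a)]
  refine Finset.sum_congr rfl fun i _ => ?_
  rw [hv']

include hv in
lemma v_eq_zero_iff (a : A) : v a = 0 ↔ ∀ i, ((xs k A b i) ^ p).ofConv a = 0 := by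
  constructor
  · intro h i
    have h1 := congrArg (Versch.evTw p k A (xs k A b i)) (v_eq p k b v hv a)
    rw [h, map_zero, evTw_sum] at h1
    exact (FrobAlg.toTwist p k).injective (by rw [← h1, map_zero])
  · intro h
    rw [v_eq p k b v hv a]
    refine Finset.sum_eq_zero fun i _ => ?_
    rw [h i, map_zero, tmul_zero]

omit [Fact p.Prime] [CharP k p] [Coalgebra.IsCocomm k A] [FiniteDimensional k A] [DecidableEq ι] in
lemma eq_zero_of_forall_xs (a : A) (h : ∀ i, (xs k A b i).ofConv a = 0) : a = 0 := by
  rw [sum_xs k b a]
  exact Finset.sum_eq_zero fun i _ => by rw [h i, zero_smul]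

include hv in
lemma v_injective_of_W (hW : W p k A b = ⊤) : Function.Injective v := by
  rw [injective_iff_map_eq_zero]
  intro a ha
  have h1 := (v_eq_zero_iff p k b v hv a).mp ha
  have h2 : ∀ y ∈ W p k A b, y.ofConv a = 0 := by
    intro y hy
    induction hy using Submodule.span_induction with
    | mem x hx => obtain ⟨i, rfl⟩ := hx; exact h1 i
    | zero => simp
    | add x y _ _ hx hy => rw [WithConv.ofConv_add, LinearMap.add_apply, hx, hy, add_zero]
    | smul c x _ hx => rw [WithConv.ofConv_smul, LinearMap.smul_apply, hx, smul_zero]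
  apply eq_zero_of_forall_xs k b
  intro i
  exact h2 _ (by rw [hW]; trivial)

include hv in
lemma W_of_v_injective (hinj : Function.Injective v) : W p k A b = ⊤ := by
  by_contra hne
  let W' : Subspace k (Module.Dual k A) := (W p k A b).map (CartDual.toDual k A).toLinearMap
  have hW' : W' ≠ ⊤ := by
    intro h
    apply hne
    rw [eq_top_iff]
    intro y _
    have : CartDual.toDual k A y ∈ W' := by rw [h]; trivial
    obtain ⟨y', hy', hyy⟩ := this
    have : y' = y := (CartDual.toDual k A).injective hyy
    rwa [← this]
  have h1 : W'.dualCoannihilator ≠ ⊥ := by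
    intro h
    have h2 := Subspace.dualCoannihilator_dualAnnihilator_eq (W := W')
    rw [h, Submodule.dualAnnihilator_bot] at h2
    exact hW' h2.symm
  obtain ⟨a, ha, ha0⟩ := (Submodule.ne_bot_iff _).mp h1
  rw [Submodule.mem_dualCoannihilator] at ha
  have h3 : v a = 0 := by
    rw [v_eq_zero_iff p k b v hv]
    intro i
    exact ha _ ⟨(xs k A b i) ^ p, Submodule.subset_span ⟨i, rfl⟩, rfl⟩
  exact ha0 (hinj (by rw [h3, map_zero]))

include hv b in
lemma v_surjective_of_injective (hinj : Function.Injective v) : Function.Surjective v := by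
  let C : A →ₗ[k] (ι → k) := LinearMap.pi fun i => ((xs k A b i) ^ p).ofConv
  have hC : Function.Injective C := by
    rw [injective_iff_map_eq_zero]
    intro a ha
    apply hinj
    rw [map_zero, v_eq_zero_iff p k b v hv]
    intro i
    exact congrFun ha i
  have hfr : Module.finrank k A = Module.finrank k (ι → k) := by
    rw [Module.finrank_eq_card_basis b, Module.finrank_fintype_fun_eq_card]
  have hCs : Function.Surjective C :=
    (LinearMap.injective_iff_surjective_of_finrank_eq_finrank hfr).mp hC
  intro z
  obtain ⟨a, ha⟩ := hCs fun i => (FrobAlg.toTwist p k).symm (Versch.evTw p k A (xs k A b i) z)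
  refine ⟨a, ?_⟩
  rw [v_eq p k b v hv a, expand_twist p k b z]
  refine Finset.sum_congr rfl fun i _ => ?_
  have := congrFun ha i
  simp only [C, LinearMap.pi_apply] at this
  rw [this, RingEquiv.apply_symm_apply]

end VSide

section FSide

open Groth.Agent.Lib.helper25.FrobA

omit [Fact p.Prime] [CharP k p] [Coalgebra.IsCocomm k A] [FiniteDimensional k A] [DecidableEq ι] in
lemma eq_sum_xs (x : CartDual.D k A) : x = ∑ i, (x.ofConv (b i)) • xs k A b i := by
  apply WithConv.ofConv_injective
  apply b.ext
  intro j
  rw [WithConv.ofConv_sum, LinearMap.sum_apply]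
  simp only [WithConv.ofConv_smul, LinearMap.smul_apply, xs, WithConv.ofConv_toConv,
    Module.Basis.coord_apply, Module.Basis.repr_self, smul_eq_mul]
  rw [Finset.sum_eq_single j]
  · simp
  · intro i _ hij
    simp [Finsupp.single_apply, Ne.symm hij]
  · intro h; exact absurd (Finset.mem_univ j) h

omit [FiniteDimensional k A] [DecidableEq ι] in
lemma pow_mem_W (x : CartDual.D k A) : x ^ p ∈ W p k A b := by
  rw [eq_sum_xs k b x, sum_pow_char]
  refine Submodule.sum_mem _ fun i _ => ?_
  rw [smul_pow]
  exact Submodule.smul_mem _ _ (Submodule.subset_span ⟨i, rfl⟩)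

omit [FiniteDimensional k A] [DecidableEq ι] in
lemma relFrob_mem_W (w : FrobAlg.BaseChange p k (CartDual.D k A)) :
    FrobAlg.relFrob p k (CartDual.D k A) w ∈ W p k A b := by
  induction w using TensorProduct.induction_on with
  | zero => rw [map_zero]; exact Submodule.zero_mem _
  | tmul x t =>
    rw [relFrob_tmul, ← Algebra.commutes, ← Algebra.smul_def]
    exact Submodule.smul_mem _ _ (pow_mem_W p k b x)
  | add x y hx hy => rw [map_add]; exact Submodule.add_mem _ hx hy

omit [FiniteDimensional k A] [DecidableEq ι] in
lemma W_of_relFrob_surjective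
    (h : Function.Surjective (FrobAlg.relFrob p k (CartDual.D k A))) : W p k A b = ⊤ := by
  rw [eq_top_iff]
  intro y _
  obtain ⟨w, rfl⟩ := h y
  exact relFrob_mem_W p k b w

lemma relFrob_bijective_of_W (hW : W p k A b = ⊤) :
    Function.Bijective (FrobAlg.relFrob p k (CartDual.D k A)) := by
  let bD : Module.Basis ι k (CartDual.D k A) := b.dualBasis.map (CartDual.toDual k A).symm
  have hbD : ∀ i, bD i = xs k A b i := by
    intro i
    simp only [bD, Module.Basis.map_apply, Module.Basis.coe_dualBasis]
    rfl
  have hcard : Fintype.card ι = Module.finrank k (CartDual.D k A) := by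
    rw [Module.finrank_eq_card_basis bD]
  let c : Module.Basis ι k (CartDual.D k A) :=
    basisOfTopLeSpanOfCardEqFinrank (fun i => (xs k A b i) ^ p) (by rw [← hW]; exact le_rfl) hcard
  apply bijective_of_basis p k (CartDual.D k A) bD c
  intro i
  rw [hbD]
  simp [c]

end FSide

/-- over a field of characteristic `p`: the Cartier dual is étale iff the Verschiebung is
bijective. -/
theorem etale_dual_iff (v : A →+* FrobAlg.BaseChange p k A)
    (hv : Versch.IsVerschiebung p k A v) :
    Algebra.Etale k (CartDual.D k A) ↔ Function.Bijective v := by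
  classical
  let b := Module.finBasis k A
  have hF : Algebra.Etale k (CartDual.D k A) ↔
      Function.Bijective (FrobAlg.relFrob p k (CartDual.D k A)) := by
    constructor
    · intro h
      exact Groth.Agent.Lib.helper25.FrobA.bijective_of_etale p k (CartDual.D k A)
    · intro h
      haveI := Groth.Agent.Lib.helper25.FrobA.formallyUnramified_of_surjective p k
        (CartDual.D k A) h.2
      haveI := Groth.Agent.Lib.helper25.FrobA.formallySmooth_of_bijective p k (CartDual.D k A) h
      haveI : Algebra.FormallyEtale k (CartDual.D k A) :=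
        Algebra.FormallyEtale.of_formallyUnramified_and_formallySmooth
      haveI : Algebra.FinitePresentation k (CartDual.D k A) :=
        Algebra.FinitePresentation.of_finiteType.mp inferInstance
      exact {}
  rw [hF]
  constructor
  · intro h
    have hW := W_of_relFrob_surjective p k b h.2
    have hi := v_injective_of_W p k b v hv hW
    exact ⟨hi, v_surjective_of_injective p k b v hv hi⟩
  · intro h
    exact relFrob_bijective_of_W p k b (W_of_v_injective p k b v hv h.1)

end Groth.Agent.H12Ver2
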