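import Mathlib
import Groth.Prelude.Def_WeilCoh

set_option autoImplicit false
universe u v
open CategoryTheory AlgebraicGeometry CategoryTheory.Limits

namespace Groth.Agent.Lib.helper12.WeilPt

open WeilCoh

/-- The ring map `ℤ[x₀,…,xₙ] → k`, all `xᵢ ↦ 1`. -/
noncomputable def evalOne (n : ℕ) (k : Type u) [Field k] :
    MvPolynomial (Fin (n + 1)) (ULift.{u} ℤ) →+* k :=
  MvPolynomial.eval₂Hom ((Int.castRingHom k).comp (ULift.ringEquiv : ULift.{u} ℤ ≃+* ℤ).toRingHom)
    (fun _ => 1)

lemma evalOne_X (n : ℕ) (k : Type u) [Field k] (i : Fin (n + 1)) :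
    evalOne n k (MvPolynomial.X i) = 1 := by
  simp [evalOne]

lemma X_mem (n : ℕ) : (MvPolynomial.X 0 : MvPolynomial (Fin (n + 1)) (ULift.{u} ℤ)) ∈
    CohB1.polyGrading n (ULift.{u} ℤ) 1 := by
  show _ ∈ MvPolynomial.homogeneousSubmodule (Fin (n + 1)) (ULift.{u} ℤ) 1
  rw [MvPolynomial.mem_homogeneousSubmodule]
  exact MvPolynomial.isHomogeneous_X _ _

/-- A `k`-point of `P^0_ℤ`. -/
noncomputable def ptProj (k : Type u) [Field k] :
    Spec (CommRingCat.of k) ⟶ CohB1.ProjSpace 0 (ULift.{u} ℤ) :=
  Spec.map (CommRingCat.ofHom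
    ((IsLocalization.Away.lift (MvPolynomial.X 0 : MvPolynomial (Fin (0 + 1)) (ULift.{u} ℤ))
      (g := evalOne 0 k) (by rw [evalOne_X]; exact isUnit_one)).comp
      (algebraMap (HomogeneousLocalization.Away (CohB1.polyGrading 0 (ULift.{u} ℤ))
        (MvPolynomial.X 0)) (Localization.Away (MvPolynomial.X 0 :
          MvPolynomial (Fin (0 + 1)) (ULift.{u} ℤ)))))) ≫
  Proj.awayι (CohB1.polyGrading 0 (ULift.{u} ℤ)) (MvPolynomial.X 0) (X_mem 0) Nat.one_pos

/-- The section of `P^0_{Spec k} → Spec k`. -/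
noncomputable def ptSection (k : Type u) [Field k] :
    Spec (CommRingCat.of k) ⟶ CohB1.ProjSpaceOver 0 (Spec (CommRingCat.of k)) :=
  pullback.lift (ptProj k) (𝟙 _) (specULiftZIsTerminal.hom_ext _ _)

lemma ptSection_toBase (k : Type u) [Field k] :
    ptSection k ≫ CohB1.ProjSpaceOver.toBase 0 (Spec (CommRingCat.of k)) = 𝟙 _ := by
  unfold ptSection CohB1.ProjSpaceOver.toBase
  exact pullback.lift_snd _ _ _

instance (n : ℕ) (R : Type u) [CommRing R] : IsSeparated (CohB1.ProjSpace.toSpec n R) := by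
  unfold CohB1.ProjSpace.toSpec
  have h1 : IsSeparated (Proj.toSpecZero (CohB1.polyGrading n R)) := inferInstance
  have h2 : IsSeparated (Spec.map (CommRingCat.ofHom
      (algebraMap R ↥(CohB1.polyGrading n R 0)))) := inferInstance
  exact MorphismProperty.comp_mem _ _ _ h1 h2

instance (n : ℕ) (S : Scheme.{u}) : IsSeparated (CohB1.ProjSpaceOver.toBase n S) := by
  unfold CohB1.ProjSpaceOver.toBase
  exact MorphismProperty.pullback_snd _ _ (inferInstanceAs
    (IsSeparated (CohB1.ProjSpace.toSpec n (ULift.{u} ℤ))))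

lemma isClosedImmersion_ptSection (k : Type u) [Field k] : IsClosedImmersion (ptSection k) := by
  have h : IsClosedImmersion
      (ptSection k ≫ CohB1.ProjSpaceOver.toBase 0 (Spec (CommRingCat.of k))) := by
    rw [ptSection_toBase]; infer_instance
  exact IsClosedImmersion.of_comp (ptSection k)
    (CohB1.ProjSpaceOver.toBase 0 (Spec (CommRingCat.of k)))

/-- `Spec k` over itself is an object of `Var k`. -/
lemma isVar_pt (k : Type u) [Field k] :
    IsVar k (Over.mk (𝟙 (Spec (CommRingCat.of k)))) := by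
  refine ⟨?_, ?_, ?_⟩
  · show Smooth (𝟙 (Spec (CommRingCat.of k)))
    infer_instance
  · exact ⟨0, ptSection k, isClosedImmersion_ptSection k, ptSection_toBase k⟩
  · show IrreducibleSpace (PrimeSpectrum k)
    infer_instance

/-- The point `Spec k` as an object of `Var k`. -/
noncomputable def pt (k : Type u) [Field k] : Var k := ⟨Over.mk (𝟙 (Spec (CommRingCat.of k))), isVar_pt k⟩

lemma natDim_of_subsingleton (T : Type u) [TopologicalSpace T] [Subsingleton T] : natDim T = 0 := by
  unfold natDim
  have h : topologicalKrullDim T ≤ 0 := by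
    unfold topologicalKrullDim
    have hs : Subsingleton (TopologicalSpace.IrreducibleCloseds T) := by
      constructor
      intro a b
      apply TopologicalSpace.IrreducibleCloseds.ext
      obtain ⟨x, hx⟩ := a.isIrreducible.nonempty
      obtain ⟨y, hy⟩ := b.isIrreducible.nonempty
      ext z
      constructor
      · intro _
        rw [Subsingleton.elim z y]; exact hy
      · intro _
        rw [Subsingleton.elim z x]; exact hx
    exact Order.krullDim_nonpos_of_subsingleton
  rcases hb : topologicalKrullDim T with _ | d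
  · rfl
  · rw [hb] at h
    have h2 : (d : WithBot ℕ∞) ≤ ((0 : ℕ∞) : WithBot ℕ∞) := h
    have h3 : d ≤ 0 := WithBot.coe_le_coe.mp h2
    have h4 : d = 0 := le_antisymm h3 zero_le
    subst h4
    rfl

lemma dim_pt (k : Type u) [Field k] : dim (pt k).obj.left = 0 := by
  show natDim (PrimeSpectrum k) = 0
  have : Subsingleton (PrimeSpectrum k) := inferInstance
  exact natDim_of_subsingleton _

end Groth.Agent.Lib.helper12.WeilPt
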