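import Mathlib
import Groth.Agent.S15443
import Groth.Agent.Lib.helper23.WeilCohLib

set_option autoImplicit false
universe u v
open CategoryTheory AlgebraicGeometry CategoryTheory.Limits

namespace Groth.Agent.Lib.helper12.WeilGraph

open WeilCoh Groth.Agent.Lib.helper12.WeilPt

theorem finrank_eq_one_of_bijective {A B : Type*} [CommRing A] [CommRing B] [Nontrivial A]
    (φ : A →+* B) (h : Function.Bijective φ) :
    letI := φ.toAlgebra; Module.finrank A B = 1 := by
  letI := φ.toAlgebra
  have hb : Function.Bijective (Algebra.linearMap A B) := h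
  rw [← (LinearEquiv.ofBijective (Algebra.linearMap A B) hb).finrank_eq, Module.finrank_self]

theorem residueFieldMap_surjective_of_section {S X : Scheme.{u}} (g : S ⟶ X) (f : X ⟶ S)
    (h : g ≫ f = 𝟙 S) (s : S) :
    Function.Surjective (g.residueFieldMap s).hom := by
  have key : ∀ (e : S ⟶ S), e = 𝟙 S → Function.Bijective (e.residueFieldMap s).hom := by
    intro e he
    subst he
    rw [Scheme.residueFieldMap_id]
    exact Function.bijective_id
  have h1 := key (g ≫ f) h
  rw [Scheme.residueFieldMap_comp] at h1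
  intro y
  obtain ⟨z, hz⟩ := h1.2 y
  exact ⟨(f.residueFieldMap (g s)).hom z, hz⟩

/-- A section of a morphism has residue degree one at every point. -/
theorem residueDegree_eq_one_of_section {S X : Scheme.{u}} (g : S ⟶ X) (f : X ⟶ S)
    (h : g ≫ f = 𝟙 S) (s : S) : g.residueDegree s = 1 :=
  finrank_eq_one_of_bijective (g.residueFieldMap s).hom
    ⟨(g.residueFieldMap s).hom.injective, residueFieldMap_surjective_of_section g f h s⟩

theorem natDim_eq_of_eq_univ {T : Type u} [TopologicalSpace T] (S : Set T)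
    (h : S = Set.univ) : natDim ↥S = natDim T := by
  subst h
  unfold natDim
  rw [IsHomeomorph.topologicalKrullDim_eq _ (Homeomorph.Set.univ T).isHomeomorph]

theorem pdim_genericPoint (X : Scheme.{u}) [IrreducibleSpace X] :
    pdim X (genericPoint X) = dim X :=
  natDim_eq_of_eq_univ _ (genericPoint_spec X).def

section Theory

variable (k : Type u) [Field k] [IsAlgClosed k] (K : Type v) [Field K] [CharZero K]
  (T : WeilCoh.Theory k K)

include T in
/-- The dimension of a product is the sum of the dimensions (formal consequence of the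
conditions on traces; argument of helper23 in S15449). -/
theorem dim_prod {X Y Q : WeilCoh.Var k} (p : Q ⟶ X) (q : Q ⟶ Y) (hQ : WeilCoh.IsProd p q) :
    dim Q.obj.left = dim X.obj.left + dim Y.obj.left := by
  obtain ⟨a₀, ha₀⟩ := (T.tr_bijective X).2 1
  obtain ⟨b₀, hb₀⟩ := (T.tr_bijective Y).2 1
  have h1 := T.tr_prod p q hQ a₀ b₀ a₀.2 b₀.2
  have ha₀' : T.tr X a₀ = 1 := ha₀
  have hb₀' : T.tr Y b₀ = 1 := hb₀
  rw [ha₀', hb₀', mul_one] at h1
  by_contra hne
  have hmem : T.pull p a₀ * T.pull q b₀ ∈ T.gr Q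
      (2 * (WeilCoh.dim X.obj.left : ℤ) + 2 * (WeilCoh.dim Y.obj.left : ℤ)) :=
    SetLike.mul_mem_graded (T.pull_mem p _ _ a₀.2) (T.pull_mem q _ _ b₀.2)
  have := T.tr_vanish Q _ _ hmem (fun h => hne (by omega))
  rw [this] at h1
  exact zero_ne_one h1

omit [IsAlgClosed k] in
theorem sm_section {X P : WeilCoh.Var k} (j : X ⟶ P) (p : P ⟶ X) (hjp : j ≫ p = 𝟙 X) :
    sm j ≫ sm p = 𝟙 X.obj.left :=
  congrArg (fun f => f.hom.left) hjp

theorem pull_section {X P : WeilCoh.Var k} (j : X ⟶ P) (p : P ⟶ X) (hjp : j ≫ p = 𝟙 X)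
    (a : T.H X) : T.pull j (T.pull p a) = a := by
  have h := T.pull_comp j p
  rw [hjp, T.pull_id] at h
  exact (AlgHom.congr_fun h a).symm

theorem pull_pull {X Y Z : WeilCoh.Var k} (f : X ⟶ Y) (g : Y ⟶ Z) (a : T.H Z) :
    T.pull f (T.pull g a) = T.pull (f ≫ g) a := by
  rw [T.pull_comp f g]; rfl

/-- For a section `j` of `p : P ⟶ X`, pairing with the class of `j(X)` is the trace of the
pull-back along `j`. -/
theorem tr_cl_section_mul {X P : WeilCoh.Var k} [IrreducibleSpace ↥X.obj.left] (j : X ⟶ P)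
    (p : P ⟶ X) (hjp : j ≫ p = 𝟙 X) (a : T.H P)
    (ha : a ∈ T.gr P (2 * (dim X.obj.left : ℤ))) :
    T.tr P (T.cl P (sm j (genericPoint ↥X.obj.left)) * a) = T.tr X (T.pull j a) := by
  have ha' : a ∈ T.gr P (2 * (pdim X.obj.left (genericPoint ↥X.obj.left) : ℤ)) := by
    rw [pdim_genericPoint]; exact ha
  have h := T.cl_push j (genericPoint ↥X.obj.left) a ha'
  rw [Groth.Agent.S15443.result k K T X, one_mul,
    residueDegree_eq_one_of_section (sm j) (sm p) (sm_section k j p hjp) _, Nat.cast_one,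
    one_mul] at h
  exact h.symm

include T in
/-- The codimension of the image of a section of the first projection of a product `X × Y` is
`dim Y`. -/
theorem codim_section {X Y P : WeilCoh.Var k} [IrreducibleSpace ↥X.obj.left] (p : P ⟶ X)
    (q : P ⟶ Y) (hP : WeilCoh.IsProd p q) (j : X ⟶ P) (hjp : j ≫ p = 𝟙 X) :
    codim P.obj.left (sm j (genericPoint ↥X.obj.left)) = dim Y.obj.left := by
  obtain ⟨a₀, ha₀⟩ := (T.tr_bijective X).2 1
  have ha₀' : T.tr X a₀ = 1 := ha₀
  have h1 := tr_cl_section_mul k K T j p hjp (T.pull p a₀) (T.pull_mem p _ _ a₀.2)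
  rw [pull_section k K T j p hjp, ha₀'] at h1
  have hmem : T.cl P (sm j (genericPoint ↥X.obj.left)) * T.pull p a₀ ∈ T.gr P
      (2 * (codim P.obj.left (sm j (genericPoint ↥X.obj.left)) : ℤ) +
        2 * (WeilCoh.dim X.obj.left : ℤ)) :=
    SetLike.mul_mem_graded (T.cl_mem P _) (T.pull_mem p _ _ a₀.2)
  have hd := dim_prod k K T p q hP
  by_contra hne
  have := T.tr_vanish P _ _ hmem (fun h => hne (by omega))
  rw [this] at h1
  exact zero_ne_one h1

end Theory

end Groth.Agent.Lib.helper12.WeilGraph
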